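import Cfsg.Agent.H27.Galois
import Cfsg.Agent.H27.Kernel
import Cfsg.Agent.H27.GalBlock
import Cfsg.Agent.H27.PMod
import Cfsg.Agent.H3.Clifford
import Cfsg.Agent.H11.Defect4

set_option autoImplicit false
set_option linter.style.haveILetI false
set_option linter.unusedSectionVars false

/-! Knörr's bound. -/

namespace Cfsg.Agent.KGV

open Subgroup Cfsg Cfsg.Agent.H3 Cfsg.Agent.H11 Cfsg.Agent.H27
open scoped ComplexConjugate

universe u

variable {X : Type u} [Group X] [Fintype X]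

/-- an irreducible character of degree prime to `p` does not vanish on `p`-elements -/
theorem char_ne_zero_of_pElt {p : ℕ} {M : Ideal AlgInt} (hM : IsPModular p M) {χ : X → ℂ}
    (hχ : IsCharacter X χ) {n : ℕ} (hn : χ 1 = n) (hp : ¬ p ∣ n) {v : X}
    (hv : ∃ k : ℕ, orderOf v = p ^ k) : ¬ MemLocalIdeal M (χ v) := by
  intro h0
  have hpr := hM.2.1.isPrime
  have h1 := li_char_mul_sub hM hχ (x := v) (y := 1) (Commute.one_right v) hv
  rw [mul_one, hn] at h1
  have h2 : MemLocalIdeal M (n : ℂ) := by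
    have := li_sub h0 h1
    have e : χ v - (χ v - n) = n := by ring
    rwa [e] at this
  exact hp ((li_natCast_iff hM n).mp h2)

/-- average of `|χ v|²` over a Galois stable set of irreducible characters not vanishing at `v` -/
theorem card_le_sum_norm [Fintype (IrrCharacter X)] (S : Finset (IrrCharacter X))
    (hS : ∀ (k : ℕ) (hk : k.Coprime (Nat.card X)), ∀ χ ∈ S, galIrr k hk χ ∈ S) (v : X)
    (hv : ∀ χ ∈ S, (χ : X → ℂ) v ≠ 0) :
    (S.card : ℝ) ≤ ∑ χ ∈ S, ‖(χ : X → ℂ) v‖ ^ 2 := by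
  classical
  have hN : Nat.card X ≠ 0 := Nat.card_pos.ne'
  -- invariance
  have h1 : ∀ m ∈ cop (Nat.card X), ∑ χ ∈ S, ‖(χ : X → ℂ) (v ^ m)‖ ^ 2 =
      ∑ χ ∈ S, ‖(χ : X → ℂ) v‖ ^ 2 := by
    intro m hm
    have hk := (mem_cop.1 hm).2
    have hinj := (galIrr_bijective (G := X) m hk).1
    have himg : S.image (galIrr m hk) = S := by
      refine Finset.eq_of_subset_of_card_le ?_ (by rw [Finset.card_image_of_injective _ hinj])
      intro χ hχ
      obtain ⟨ψ, hψ, rfl⟩ := Finset.mem_image.1 hχ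
      exact hS m hk ψ hψ
    conv_rhs => rw [← himg]
    rw [Finset.sum_image fun a _ b _ h => hinj h]
    rfl
  have h2 : ∀ χ ∈ S, ((cop (Nat.card X)).card : ℝ) ≤
      ∑ m ∈ cop (Nat.card X), ‖(χ : X → ℂ) (v ^ m)‖ ^ 2 := by
    intro χ hχ
    have hne : ∀ m ∈ cop (Nat.card X), (χ : X → ℂ) (v ^ m) ≠ 0 := fun m hm h0 =>
      hv χ hχ ((char_pow_coprime_ne_zero (irr_isChar χ.2) (mem_cop.1 hm).2).1 h0)
    refine card_le_sum_of_prod _ _ (fun m hm => by have := hne m hm; positivity) ?_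
    obtain ⟨k, hk⟩ := prod_char_pow_int (irr_isChar χ.2) hN (g := v) pow_card_eq_one'
    have hk0 : k ≠ 0 := by
      rintro rfl
      rw [Int.cast_zero, Finset.prod_eq_zero_iff] at hk
      obtain ⟨m, hm, h0⟩ := hk
      exact hne m hm h0
    rw [Finset.prod_pow, ← norm_prod, hk, Complex.norm_intCast, sq_abs]
    have : 0 < k ^ 2 := by positivity
    exact_mod_cast this
  have h3 : ((cop (Nat.card X)).card : ℝ) * S.card ≤
      (cop (Nat.card X)).card * ∑ χ ∈ S, ‖(χ : X → ℂ) v‖ ^ 2 := by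
    calc ((cop (Nat.card X)).card : ℝ) * S.card = ∑ χ ∈ S, ((cop (Nat.card X)).card : ℝ) := by
          rw [Finset.sum_const, nsmul_eq_mul]; ring
      _ ≤ ∑ χ ∈ S, ∑ m ∈ cop (Nat.card X), ‖(χ : X → ℂ) (v ^ m)‖ ^ 2 := Finset.sum_le_sum h2
      _ = ∑ m ∈ cop (Nat.card X), ∑ χ ∈ S, ‖(χ : X → ℂ) (v ^ m)‖ ^ 2 := Finset.sum_comm
      _ = ∑ m ∈ cop (Nat.card X), ∑ χ ∈ S, ‖(χ : X → ℂ) v‖ ^ 2 := Finset.sum_congr rfl h1
      _ = _ := by rw [Finset.sum_const, nsmul_eq_mul]
  have hpos : (0 : ℝ) < (cop (Nat.card X)).card := by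
    exact_mod_cast Finset.card_pos.2 (cop_nonempty hN)
  exact le_of_mul_le_mul_left h3 hpos

theorem card_cent_compl (V G : Subgroup X) [V.Normal] (hab : ∀ a ∈ V, ∀ b ∈ V, a * b = b * a)
    (hGV : Subgroup.IsComplement' V G) {v : X} (hv : v ∈ V) :
    Nat.card ↥(centralizer ({v} : Set X)) =
      Nat.card ↥(G ⊓ centralizer ({v} : Set X)) * Nat.card V := by
  have hbij : Function.Bijective (fun x : ↥V × ↥G => (x.1 : X) * x.2) := hGV
  have hmem : ∀ x : X, x ∈ G ⊓ centralizer ({v} : Set X) ↔ x ∈ G ∧ x * v = v * x := by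
    intro x
    rw [Subgroup.mem_inf, mem_centralizer_singleton_iff]
  rw [mul_comm, ← Nat.card_prod]
  symm
  have hVc : ∀ w ∈ V, w ∈ centralizer ({v} : Set X) := fun w hw =>
    mem_centralizer_singleton_iff.2 (hab w hw v hv)
  refine Nat.card_congr (Equiv.ofBijective
    (fun p : ↥V × ↥(G ⊓ centralizer ({v} : Set X)) =>
      (⟨(p.1 : X) * p.2, mul_mem (hVc _ p.1.2) p.2.2.2⟩ : ↥(centralizer ({v} : Set X)))) ⟨?_, ?_⟩)
  · rintro ⟨a, g⟩ ⟨b, h⟩ e
    have e1 : (a : X) * g = b * h := congrArg Subtype.val e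
    have := hbij.1 (a₁ := (a, ⟨g, g.2.1⟩)) (a₂ := (b, ⟨h, h.2.1⟩)) e1
    have h1 := congrArg Prod.fst this
    have h2 := congrArg Prod.snd this
    have h3 : (g : X) = h := by simpa using h2
    exact Prod.ext h1 (Subtype.ext h3)
  · rintro ⟨x, hx⟩
    obtain ⟨⟨a, g⟩, e⟩ := hbij.2 x
    simp only at e
    refine ⟨(a, ⟨g, g.2, ?_⟩), Subtype.ext e⟩
    have : (g : X) = (a : X)⁻¹ * x := by rw [← e]; group
    rw [this]
    exact (centralizer ({v} : Set X)).mul_mem ((centralizer ({v} : Set X)).inv_mem (hVc _ a.2)) hx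

theorem card_conjClasses_congr {A B : Type*} [Group A] [Group B] [Finite A] [Finite B]
    (e : A ≃* B) : Nat.card (ConjClasses A) = Nat.card (ConjClasses B) := by
  have h1 := card_comm_eq_card_conjClasses_mul_card A
  have h2 := card_comm_eq_card_conjClasses_mul_card B
  have h3 : Nat.card {p : A × A // Commute p.1 p.2} = Nat.card {p : B × B // Commute p.1 p.2} := by
    refine Nat.card_congr ((Equiv.prodCongr e.toEquiv e.toEquiv).subtypeEquiv fun p => ?_)
    constructor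
    · intro h
      exact h.map e
    · intro h
      have := h.map e.symm
      simpa using this
  rw [h1, h2, ← Nat.card_congr e.toEquiv] at h3
  exact Nat.eq_of_mul_eq_mul_right Nat.card_pos h3

/-- the complement is isomorphic to the quotient -/
theorem exists_compl_equiv (V G : Subgroup X) [hN : V.Normal] (hGV : Subgroup.IsComplement' V G) :
    Nonempty (↥G ≃* (X ⧸ V)) := by
  have hbij : Function.Bijective (fun x : ↥V × ↥G => (x.1 : X) * x.2) := hGV
  refine ⟨MulEquiv.ofBijective ((QuotientGroup.mk' V).comp G.subtype) ⟨?_, ?_⟩⟩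
  · rw [injective_iff_map_eq_one]
    intro g hg
    have hgV : (g : X) ∈ V := (QuotientGroup.eq_one_iff _).1 hg
    have := hbij.1 (a₁ := (⟨g, hgV⟩, 1)) (a₂ := (1, g)) (by simp)
    exact (congrArg Prod.snd this).symm
  · intro x
    obtain ⟨y, rfl⟩ := QuotientGroup.mk_surjective x
    obtain ⟨⟨a, g⟩, e⟩ := hbij.2 y
    refine ⟨g, ?_⟩
    simp only at e
    show (QuotientGroup.mk (g : X) : X ⧸ V) = QuotientGroup.mk y
    rw [← e, QuotientGroup.mk_mul, (QuotientGroup.eq_one_iff (a : X)).2 a.2, one_mul]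

/-- **Knörr's bound** -/
theorem knorr (p : ℕ) [hp : Fact p.Prime] (V : Subgroup X) [hN : V.Normal] (hVp : IsPGroup p V)
    (hidx : ¬ p ∣ V.index) (hab : ∀ a ∈ V, ∀ b ∈ V, a * b = b * a) (G : Subgroup X)
    (hGV : Subgroup.IsComplement' V G) (v : X) (hv : v ∈ V) :
    Nat.card (ConjClasses X) + Nat.card G ≤
      Nat.card ↥(G ⊓ centralizer ({v} : Set X)) * Nat.card V + Nat.card (ConjClasses G) := by
  classical
  obtain ⟨M, hM⟩ := exists_isPModular hp.out
  have hpr := hM.2.1.isPrime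
  letI : Fintype (IrrCharacter X) := Fintype.ofFinite _
  letI : Fintype (X ⧸ V) := Fintype.ofFinite _
  letI : Fintype (IrrCharacter (X ⧸ V)) := Fintype.ofFinite _
  let S : Finset (IrrCharacter X) :=
    Finset.univ.filter (fun χ => ¬ ∀ n ∈ V, (χ : X → ℂ) n = (χ : X → ℂ) 1)
  let T : Finset (IrrCharacter X) :=
    Finset.univ.filter (fun χ => ∀ n ∈ V, (χ : X → ℂ) n = (χ : X → ℂ) 1)
  -- column orthogonality
  have h1 : ∑ χ : IrrCharacter X, ‖(χ : X → ℂ) v‖ ^ 2 =
      (Nat.card ↥(centralizer ({v} : Set X)) : ℝ) := by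
    have h2 := column_orth v v
    rw [if_pos (IsConj.refl v)] at h2
    have h3 : ∀ χ : IrrCharacter X, (χ : X → ℂ) v * conj ((χ : X → ℂ) v) =
        ((‖(χ : X → ℂ) v‖ ^ 2 : ℝ) : ℂ) := by
      intro χ
      rw [Complex.mul_conj, Complex.normSq_eq_norm_sq]
    rw [Finset.sum_congr rfl fun χ _ => h3 χ] at h2
    exact_mod_cast h2
  have hsplit : ∀ F : IrrCharacter X → ℝ, ∑ χ, F χ = ∑ χ ∈ T, F χ + ∑ χ ∈ S, F χ := fun F =>
    (Finset.sum_filter_add_sum_filter_not _ _ _).symm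
  -- the characters of `X / V`
  have hT : ∀ F : IrrCharacter X → ℝ, ∑ χ ∈ T, F χ =
      ∑ ψ : IrrCharacter (X ⧸ V), F (irrQuotEquiv V ψ).1 := by
    intro F
    rw [Finset.sum_filter, ← Finset.sum_filter, Finset.sum_subtype (p := fun χ : IrrCharacter X =>
      ∀ n ∈ V, (χ : X → ℂ) n = (χ : X → ℂ) 1) T (fun χ => by simp [T])]
    exact (Fintype.sum_equiv (irrQuotEquiv V) _ _ fun ψ => rfl).symm
  have hTs : ∑ χ ∈ T, ‖(χ : X → ℂ) v‖ ^ 2 = (Nat.card G : ℝ) := by
    rw [hT]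
    have h2 := sum_degree_sq (G := X ⧸ V)
    have h3 : ∀ ψ : IrrCharacter (X ⧸ V), ((‖((irrQuotEquiv V ψ).1 : X → ℂ) v‖ ^ 2 : ℝ) : ℂ) =
        (ψ : X ⧸ V → ℂ) 1 ^ 2 := by
      intro ψ
      rw [irrQuotEquiv_apply, (QuotientGroup.eq_one_iff v).2 hv]
      obtain ⟨n, -, hn⟩ := irr_one_eq_nat ψ.2
      rw [hn, Complex.norm_natCast]
      push_cast; rfl
    rw [← Finset.sum_congr rfl fun ψ _ => h3 ψ, ← Complex.ofReal_sum] at h2
    have h4 : Nat.card (X ⧸ V) = Nat.card G := by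
      have := Subgroup.card_eq_card_quotient_mul_card_subgroup V
      have h5 := hGV.card_mul_card
      rw [← h5, mul_comm (Nat.card V)] at this
      exact (Nat.eq_of_mul_eq_mul_right Nat.card_pos this).symm
    rw [h4] at h2
    exact_mod_cast h2
  have hTc : (T.card : ℝ) = Nat.card (ConjClasses G) := by
    have h2 := hT (fun _ => 1)
    rw [Finset.sum_const, Finset.sum_const, nsmul_eq_mul, nsmul_eq_mul, mul_one, mul_one,
      Finset.card_univ, ← Nat.card_eq_fintype_card, card_irr_eq] at h2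
    rw [h2]
    obtain ⟨e⟩ := exists_compl_equiv V G hGV
    rw [card_conjClasses_congr e]
  have hSc : (S.card : ℝ) ≤ ∑ χ ∈ S, ‖(χ : X → ℂ) v‖ ^ 2 := by
    refine card_le_sum_norm S ?_ v ?_
    · intro k hk χ hχ
      simp only [S, Finset.mem_filter, Finset.mem_univ, true_and] at hχ ⊢
      intro h
      apply hχ
      intro n hn
      -- `n` is a `k`-th power of an element of `V`
      obtain ⟨m, hm⟩ := exists_pow_eq_self_of_coprime
        (Nat.Coprime.coprime_dvd_right (orderOf_dvd_natCard n) hk)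
      have h2 := h (n ^ m) (pow_mem hn m)
      rw [galIrr_apply, galIrr_apply, one_pow, ← pow_mul, mul_comm, pow_mul] at h2
      rwa [hm] at h2
    · intro χ _ h0
      obtain ⟨n, -, hn⟩ := irr_one_eq_nat χ.2
      refine char_ne_zero_of_pElt hM (irr_isChar χ.2) hn ?_ (v := v) ?_ (by
        rw [h0]; exact li_zero M)
      · intro hd
        exact hidx (hd.trans (ito_degree_dvd χ.2 V hN hab hn))
      · obtain ⟨k, hk⟩ := (IsPGroup.iff_orderOf.1 hVp) ⟨v, hv⟩
        exact ⟨k, by rw [← hk, Subgroup.orderOf_mk]⟩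
  have h4 := hsplit (fun χ => ‖(χ : X → ℂ) v‖ ^ 2)
  rw [h1, hTs] at h4
  have h5 := hsplit (fun _ => 1)
  rw [Finset.sum_const, Finset.sum_const, Finset.sum_const, nsmul_eq_mul, nsmul_eq_mul,
    nsmul_eq_mul, mul_one, mul_one, mul_one, Finset.card_univ, ← Nat.card_eq_fintype_card,
    card_irr_eq, hTc] at h5
  rw [card_cent_compl V G hab hGV hv] at h4
  have h6 : (Nat.card (ConjClasses X) : ℝ) + Nat.card G ≤
      ((Nat.card ↥(G ⊓ centralizer ({v} : Set X)) * Nat.card V : ℕ) : ℝ) +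
        Nat.card (ConjClasses G) := by linarith
  exact_mod_cast h6

end Cfsg.Agent.KGV
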