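import Cfsg.Agent.H27.GlPair
import Cfsg.Agent.H7.KGV4
import Cfsg.Agent.PF.IrrField
import Mathlib.NumberTheory.GaussSum
import Mathlib.NumberTheory.MulChar.Duality
import Mathlib.Analysis.Fourier.FiniteAbelian.PontryaginDuality

set_option autoImplicit false

/-! Gauss sums as "admissible" functions, for the abelian-stabilizer criterion. -/

namespace Cfsg.Agent.KGV

universe u

open Cfsg Cfsg.Agent.H3 Cfsg.Agent.H11 Cfsg.Agent.H27
open scoped ComplexConjugate

noncomputable section

/-- the standard primitive root -/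
def zt (p : ℕ) : ℂ := Complex.exp (2 * Real.pi * Complex.I / p)

def bas (p : ℕ) {C : Type u} [Group C] (a : ℕ) (φ : C →* ℂˣ) : ℕ → C → ℂ :=
  fun m c => zt p ^ (a * m) * (φ c : ℂ)

/-- additive closure of the basic functions -/
def Adm (p : ℕ) (C : Type u) [Group C] : AddSubgroup (ℕ → C → ℂ) :=
  AddSubgroup.closure {f | ∃ (a : ℕ) (φ : C →* ℂˣ), f = bas p a φ}

variable {p : ℕ} {C : Type u} [Group C]

theorem bas_mem (a : ℕ) (φ : C →* ℂˣ) : bas p a φ ∈ Adm p C :=
  AddSubgroup.subset_closure ⟨a, φ, rfl⟩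

theorem one_mem_adm : (1 : ℕ → C → ℂ) ∈ Adm p C := by
  have h : (1 : ℕ → C → ℂ) = bas p 0 (1 : C →* ℂˣ) := by
    funext m c
    simp [bas]
  rw [h]
  exact bas_mem _ _

theorem mul_mem_adm {f g : ℕ → C → ℂ} (hf : f ∈ Adm p C) (hg : g ∈ Adm p C) :
    f * g ∈ Adm p C := by
  induction hf, hg using AddSubgroup.closure_induction₂ with
  | mem x y hx hy =>
    obtain ⟨a, φ, rfl⟩ := hx
    obtain ⟨b, ψ, rfl⟩ := hy
    have : bas p a φ * bas p b ψ = bas p (a + b) (φ * ψ) := by
      funext m c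
      simp only [bas, Pi.mul_apply, MonoidHom.mul_apply, Units.val_mul, add_mul, pow_add]
      ring
    rw [this]
    exact bas_mem _ _
  | zero_left x hx => rw [zero_mul]; exact zero_mem _
  | zero_right x hx => rw [mul_zero]; exact zero_mem _
  | add_left x y z hx hy hz h1 h2 => rw [add_mul]; exact add_mem h1 h2
  | add_right x y z hx hy hz h1 h2 => rw [mul_add]; exact add_mem h1 h2
  | neg_left x y hx hy h => rw [neg_mul]; exact neg_mem h
  | neg_right x y hx hy h => rw [mul_neg]; exact neg_mem h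

theorem isPrimitiveRoot_zt [hp : Fact p.Prime] : IsPrimitiveRoot (zt p) p :=
  Complex.isPrimitiveRoot_exp p hp.out.ne_zero

theorem li_zt_pow [hp : Fact p.Prime] {M : Ideal AlgInt} (hM : IsPModular p M) {z : ℂ}
    (hz : z ^ p = 1) : MemLocalIdeal M (z - 1) := by
  have hz0 : z ≠ 0 := by
    rintro rfl
    rw [zero_pow hp.out.ne_zero] at hz
    exact zero_ne_one hz
  haveI : NeZero p := ⟨hp.out.ne_zero⟩
  have hm : Units.mk0 z hz0 ∈ rootsOfUnity p ℂ := by
    rw [mem_rootsOfUnity]
    ext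
    simpa using hz
  have h1 : ((rootsOfUnity p ℂ).subtype ⟨Units.mk0 z hz0, hm⟩ : ℂ) = z := rfl
  rw [← h1]
  refine li_hom_sub_one hM (rootsOfUnity p ℂ).subtype ?_
  have h3 : orderOf (⟨Units.mk0 z hz0, hm⟩ : rootsOfUnity p ℂ) ∣ p := by
    apply orderOf_dvd_of_pow_eq_one
    exact Subtype.ext ((mem_rootsOfUnity _ _).1 hm)
  rcases (Nat.dvd_prime hp.out).1 h3 with h | h
  · exact ⟨0, by rw [h, pow_zero]⟩
  · exact ⟨1, by rw [h, pow_one]⟩

section irr

variable {A : Type u} [AddCommGroup A] [Finite A] [Nontrivial A]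

theorem irr_gauss [hp : Fact p.Prime] [Finite C] {M : Ideal AlgInt} (hM : IsPModular p M)
    (hA : ∀ a : A, p • a = 0) (c : C →* AddMonoid.End A) (hcomm : ∀ g h, c g * c h = c h * c g)
    (hirr : ∀ X : AddSubgroup A, (∀ g, ∀ x ∈ X, c g x ∈ X) → X = ⊥ ∨ X = ⊤) :
    ∃ ψ ∈ Adm p C, ∀ m : ℕ, ¬ p ∣ m → (∀ g, c g = 1 → ψ m g = -1) ∧
      ∀ g, c g ≠ 1 → ‖ψ m g‖ ^ 2 = Nat.card A ∧ MemLocalIdeal M (ψ m g) := by
  haveI := hM.2.1.isPrime
  have hfield : IsField (PF.genRing c) := PF.genRing_isField c hcomm hirr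
  letI : Field (PF.genRing c) := hfield.toField
  haveI : Finite (AddMonoid.End A) := Finite.of_injective (fun f : AddMonoid.End A => (f : A → A))
    DFunLike.coe_injective
  haveI : Finite (PF.genRing c) := Subtype.finite
  haveI : Fintype (PF.genRing c) := Fintype.ofFinite _
  have hcard : Nat.card (PF.genRing c) = Nat.card A := PF.genRing_card c hcomm hirr
  let K := PF.genRing c
  have hpK : ∀ x : K, p • x = 0 := by
    intro x
    apply Subtype.ext
    ext a
    show p • (x.1 a) = 0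
    exact hA _
  let c' : C →* K :=
    { toFun := fun g => ⟨c g, Subring.subset_closure ⟨g, rfl⟩⟩
      map_one' := Subtype.ext (map_one c)
      map_mul' := fun g h => Subtype.ext (map_mul c g h) }
  obtain ⟨e⟩ := MulChar.mulEquiv_units K ℂ
  let θ : C →* MulChar K ℂ := e.symm.toMonoidHom.comp c'.toHomUnits
  have hθ : ∀ g, θ g = 1 ↔ c g = 1 := by
    intro g
    show e.symm (c'.toHomUnits g) = 1 ↔ _
    rw [EmbeddingLike.map_eq_one_iff]
    constructor
    · intro h
      have := congrArg (fun u : Kˣ => ((u : K) : AddMonoid.End A)) h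
      exact this
    · intro h
      apply Units.ext
      exact Subtype.ext h
  obtain ⟨x0, hx0⟩ := exists_ne (0 : K)
  obtain ⟨ε, hε⟩ := (AddChar.exists_apply_ne_zero (α := K) (a := x0)).2 hx0
  have hε1 : ε ≠ 1 := fun h => hε (by rw [h]; rfl)
  have hεp : ∀ x : K, ε x ^ p = 1 := by
    intro x
    rw [← AddChar.map_nsmul_eq_pow, hpK, AddChar.map_zero_eq_one]
  have hεm : ∀ m : ℕ, ¬ p ∣ m → ε ^ m ≠ 1 := by
    intro m hm h
    apply hε1
    have h1 : orderOf ε ∣ m := orderOf_dvd_of_pow_eq_one h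
    have h2 : orderOf ε ∣ p := by
      apply orderOf_dvd_of_pow_eq_one
      ext x
      rw [AddChar.pow_apply, hεp]; rfl
    rcases (Nat.dvd_prime hp.out).1 h2 with h3 | h3
    · exact orderOf_eq_one_iff.1 h3
    · exact absurd (h3 ▸ h1) hm
  have hpow : ∀ x : K, ∃ a : ℕ, zt p ^ a = ε x := by
    intro x
    obtain ⟨a, -, ha⟩ := (isPrimitiveRoot_zt (p := p)).eq_pow_of_pow_eq_one (hεp x)
    exact ⟨a, ha⟩
  choose a ha using hpow
  refine ⟨fun m g => gaussSum (θ g) (ε ^ m), ?_, ?_⟩
  · have h1 : (fun (m : ℕ) (g : C) => gaussSum (θ g) (ε ^ m)) =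
        ∑ x : K, fun (m : ℕ) (g : C) => θ g x * (ε ^ m) x := by
      funext m g
      simp only [gaussSum, Finset.sum_apply]
    rw [h1]
    refine sum_mem fun x _ => ?_
    by_cases hx : x = 0
    · have : (fun (m : ℕ) (g : C) => θ g x * (ε ^ m) x) = 0 := by
        funext m g
        rw [hx, MulChar.map_zero, zero_mul]; rfl
      rw [this]
      exact zero_mem _
    · let φ0 : C →* ℂ :=
        { toFun := fun g => θ g x
          map_one' := by
            rw [map_one]
            exact MulChar.one_apply (isUnit_iff_ne_zero.2 hx)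
          map_mul' := fun g h => by rw [map_mul, MulChar.mul_apply] }
      have : (fun (m : ℕ) (g : C) => θ g x * (ε ^ m) x) = bas p (a x) φ0.toHomUnits := by
        funext m g
        rw [AddChar.pow_apply, ← ha x, ← pow_mul, mul_comm]
        rfl
      rw [this]
      exact bas_mem _ _
  · intro m hm
    have hε' := hεm m hm
    refine ⟨fun g hg => ?_, fun g hg => ⟨?_, ?_⟩⟩
    · show gaussSum (θ g) (ε ^ m) = -1
      rw [(hθ g).2 hg]
      exact gaussSum_one_left hε'
    · show ‖gaussSum (θ g) (ε ^ m)‖ ^ 2 = _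
      have h1 : θ g ≠ 1 := fun h => hg ((hθ g).1 h)
      have h2 := gaussSum_mul_gaussSum_eq_card h1 (AddChar.IsPrimitive.of_ne_one hε')
      rw [← star_gaussSum_eq] at h2
      have h3 : ((‖gaussSum (θ g) (ε ^ m)‖ ^ 2 : ℝ) : ℂ) = ((Nat.card A : ℝ) : ℂ) := by
        rw [← hcard, Nat.card_eq_fintype_card]
        push_cast
        rw [← Complex.mul_conj']
        exact h2
      exact_mod_cast h3
    · have h1 : θ g ≠ 1 := fun h => hg ((hθ g).1 h)
      have h2 : gaussSum (θ g) (ε ^ m) = ∑ x : K, θ g x * ((ε ^ m) x - 1) := by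
        simp only [mul_sub, mul_one, Finset.sum_sub_distrib]
        rw [MulChar.sum_eq_zero_of_ne_one h1, sub_zero]
        rfl
      show MemLocalIdeal M (gaussSum (θ g) (ε ^ m))
      rw [h2]
      refine li_sum _ _ fun x _ => li_mul_left ?_ ?_
      · by_cases hx : x = 0
        · rw [hx, MulChar.map_zero]; exact lr_zero M
        · apply lr_int
          have hu : IsUnit x := isUnit_iff_ne_zero.2 hx
          obtain ⟨u, rfl⟩ := hu
          have h5 : θ g (u : K) ^ Nat.card Kˣ = 1 := by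
            rw [← map_pow, ← Units.val_pow_eq_pow_val, pow_card_eq_one']
            simp
          exact IsIntegral.of_pow (Nat.card_pos) (by rw [h5]; exact isIntegral_one)
      · refine li_zt_pow hM ?_
        rw [AddChar.pow_apply, ← pow_mul, mul_comm, pow_mul, hεp, one_pow]

end irr

end

end Cfsg.Agent.KGV
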