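import Cfsg.Agent.H7.KGV5
import Cfsg.Agent.H2.Maschke
import Mathlib.Algebra.Module.ZMod

set_option autoImplicit false

/-! The Gauss sum function for an abelian group acting coprimely on an elementary abelian group. -/

namespace Cfsg.Agent.KGV

universe u

open Subgroup Cfsg Cfsg.Agent.H3 Cfsg.Agent.H11 Cfsg.Agent.H27
open scoped ComplexConjugate

variable {X : Type u} [Group X]

theorem exists_compl_zmod' {A : Type u} [AddCommGroup A] (p : ℕ) [Fact p.Prime]
    [Module (ZMod p) A] (U : AddSubgroup A) : ∃ W : AddSubgroup A, U ⊓ W = ⊥ ∧ U ⊔ W = ⊤ := by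
  have h0 : ∃ W' : Submodule (ZMod p) A, IsCompl (AddSubgroup.toZModSubmodule p U) W' :=
    exists_isCompl _
  obtain ⟨W', hW'⟩ := h0
  have h1 : ∀ x : A, x ∈ (AddSubgroup.toZModSubmodule p U) ⊔ W' := by
    intro x
    rw [hW'.sup_eq_top]; trivial
  refine ⟨W'.toAddSubgroup, ?_, ?_⟩
  · rw [eq_bot_iff]
    rintro x ⟨hx1, hx2⟩
    exact (Submodule.disjoint_def.1 hW'.disjoint) x hx1 hx2
  · rw [eq_top_iff]
    intro x _
    obtain ⟨a, ha, b, hb, rfl⟩ := Submodule.mem_sup.1 (h1 x)
    exact add_mem ((le_sup_left : U ≤ _) ha) ((le_sup_right : W'.toAddSubgroup ≤ _) hb)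

theorem exists_compl_zmod {A : Type u} [AddCommGroup A] (p : ℕ) [Fact p.Prime]
    (hA : ∀ a : A, p • a = 0) (U : AddSubgroup A) : ∃ W : AddSubgroup A, U ⊓ W = ⊥ ∧ U ⊔ W = ⊤ :=
  @exists_compl_zmod' A _ p _ (AddCommGroup.zmodModule hA) U

theorem exists_compl_cg {A : Type u} [CommGroup A] (p : ℕ) [Fact p.Prime]
    (hA : ∀ a : A, a ^ p = 1) (U : Subgroup A) : ∃ W : Subgroup A, U ⊓ W = ⊥ ∧ U ⊔ W = ⊤ := by
  obtain ⟨W, h1, h2⟩ := exists_compl_zmod (A := Additive A) p (fun a => hA a.toMul)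
    (Subgroup.toAddSubgroup U)
  refine ⟨Subgroup.toAddSubgroup.symm W, ?_, ?_⟩
  · apply Subgroup.toAddSubgroup.injective
    rw [OrderIso.map_inf, OrderIso.apply_symm_apply, h1, OrderIso.map_bot]
  · apply Subgroup.toAddSubgroup.injective
    rw [OrderIso.map_sup, OrderIso.apply_symm_apply, h2, OrderIso.map_top]

theorem exists_compl_ea (V U : Subgroup X) (hc : IsMulCommutative V) (p : ℕ) [Fact p.Prime]
    (hexp : ∀ v ∈ V, v ^ p = 1) (hUV : U ≤ V) : ∃ W ≤ V, U ⊓ W = ⊥ ∧ U ⊔ W = V := by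
  let _ : CommGroup ↥V := { (inferInstance : Group ↥V) with mul_comm := hc.is_comm.comm }
  obtain ⟨W, h1, h2⟩ := exists_compl_cg (A := ↥V) p (fun a => Subtype.ext (hexp _ a.2))
    (U.subgroupOf V)
  refine ⟨W.map V.subtype, Subgroup.map_subtype_le _, ?_, ?_⟩
  · have h3 : U = (U.subgroupOf V).map V.subtype := by
      rw [subgroupOf_map_subtype, inf_eq_left.2 hUV]
    rw [h3, ← Subgroup.map_inf_eq _ _ _ V.subtype_injective]
    rw [h1]
    exact Subgroup.map_bot _
  · have h3 : U = (U.subgroupOf V).map V.subtype := by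
      rw [subgroupOf_map_subtype, inf_eq_left.2 hUV]
    rw [h3, ← Subgroup.map_sup]
    rw [h2]
    rw [← MonoidHom.range_eq_map, Subgroup.range_subtype]

/-- conjugation action of the elements of `C` on a normalised subgroup, as additive endomorphisms -/
noncomputable def conjEnd (U C : Subgroup X)
    (hC : C ≤ normalizer (U : Set X)) : ↥C →* AddMonoid.End (Additive ↥U) where
  toFun g :=
    { toFun := fun a => Additive.ofMul ⟨(g : X) * (a.toMul : ↥U) * (g : X)⁻¹,
        ((mem_normalizer_iff.1 (hC g.2)) _).1 a.toMul.2⟩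
      map_zero' := by
        apply congrArg Additive.ofMul
        apply Subtype.ext
        show (g : X) * 1 * (g : X)⁻¹ = 1
        group
      map_add' := fun a b => by
        apply congrArg Additive.ofMul
        apply Subtype.ext
        show (g : X) * (((a.toMul : ↥U) : X) * ((b.toMul : ↥U) : X)) * (g : X)⁻¹ =
          ((g : X) * ((a.toMul : ↥U) : X) * (g : X)⁻¹) * ((g : X) * ((b.toMul : ↥U) : X) * (g : X)⁻¹)
        group }
  map_one' := by
    ext a
    show (1 : X) * ((a.toMul : ↥U) : X) * (1 : X)⁻¹ = ((a.toMul : ↥U) : X)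
    group
  map_mul' g h := by
    ext a
    show ((g : X) * (h : X)) * ((a.toMul : ↥U) : X) * ((g : X) * (h : X))⁻¹ =
      (g : X) * ((h : X) * ((a.toMul : ↥U) : X) * (h : X)⁻¹) * (g : X)⁻¹
    group

theorem conjEnd_eq_one (U C : Subgroup X)
    (hC : C ≤ normalizer (U : Set X)) (g : ↥C) :
    conjEnd U C hC g = 1 ↔ U ≤ centralizer ({(g : X)} : Set X) := by
  constructor
  · intro h u hu
    rw [mem_centralizer_singleton_iff]
    have h1 := congrArg (fun f : AddMonoid.End (Additive ↥U) =>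
      (((f (Additive.ofMul ⟨u, hu⟩)).toMul : ↥U) : X)) h
    have h2 : (g : X) * u * (g : X)⁻¹ = u := h1
    have h3 := congrArg (· * (g : X)) h2
    simp only [inv_mul_cancel_right] at h3
    exact h3.symm
  · intro h
    ext a
    show (g : X) * ((a.toMul : ↥U) : X) * (g : X)⁻¹ = ((a.toMul : ↥U) : X)
    have := mem_centralizer_singleton_iff.1 (h (a.toMul : ↥U).2)
    rw [← this]
    group

theorem card_inf_cent (U W' W C : Subgroup X) [Finite X] {g : X} (hUW : U ⊓ W' = ⊥)
    (hUWV : U ⊔ W' = W) (hab : ∀ a ∈ W, ∀ b ∈ W, a * b = b * a)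
    (hg : g ∈ C) (hCU : C ≤ normalizer (U : Set X)) (hCW : C ≤ normalizer (W' : Set X)) :
    Nat.card ↥(W ⊓ centralizer ({g} : Set X)) =
      Nat.card ↥(U ⊓ centralizer ({g} : Set X)) * Nat.card ↥(W' ⊓ centralizer ({g} : Set X)) := by
  have hUle : U ≤ W := hUWV ▸ le_sup_left
  have hWle : W' ≤ W := hUWV ▸ le_sup_right
  rw [← Nat.card_prod]
  symm
  refine Nat.card_congr (Equiv.ofBijective (fun x => ⟨(x.1 : X) * (x.2 : X),
    mul_mem (hUle x.1.2.1) (hWle x.2.2.1), mul_mem x.1.2.2 x.2.2.2⟩) ⟨?_, ?_⟩)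
  · rintro ⟨a, b⟩ ⟨c, d⟩ h
    have h1 : (a : X) * (b : X) = (c : X) * (d : X) := congrArg Subtype.val h
    have h2 : (c : X)⁻¹ * (a : X) = (d : X) * (b : X)⁻¹ := by
      rw [inv_mul_eq_iff_eq_mul, ← mul_assoc, ← h1, mul_inv_cancel_right]
    have h3 : (c : X)⁻¹ * (a : X) ∈ U ⊓ W' :=
      ⟨U.mul_mem (U.inv_mem c.2.1) a.2.1, h2 ▸ W'.mul_mem d.2.1 (W'.inv_mem b.2.1)⟩
    rw [hUW, mem_bot] at h3
    have h4 : (a : X) = (c : X) := (inv_mul_eq_one.1 h3).symm
    rw [h3] at h2
    have h5 : (d : X) = (b : X) := mul_inv_eq_one.1 h2.symm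
    exact Prod.ext (Subtype.ext h4) (Subtype.ext h5.symm)
  · rintro ⟨w, hw1, hw2⟩
    have hw1' : w ∈ U ⊔ W' := hUWV ▸ hw1
    have h0 : ∃ a ∈ U, ∃ b ∈ W', a * b = w := by
      let S : Subgroup X :=
        { carrier := {x | ∃ a ∈ U, ∃ b ∈ W', a * b = x}
          one_mem' := ⟨1, one_mem _, 1, one_mem _, mul_one 1⟩
          mul_mem' := by
            rintro _ _ ⟨a, ha, b, hb, rfl⟩ ⟨c, hc, d, hd, rfl⟩
            refine ⟨a * c, mul_mem ha hc, b * d, mul_mem hb hd, ?_⟩
            rw [mul_assoc, ← mul_assoc c, hab c (hUle hc) b (hWle hb)]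
            group
          inv_mem' := by
            rintro _ ⟨a, ha, b, hb, rfl⟩
            refine ⟨a⁻¹, inv_mem ha, b⁻¹, inv_mem hb, ?_⟩
            rw [hab a (hUle ha) b (hWle hb), mul_inv_rev] }
      have h1 : U ≤ S := fun a ha => ⟨a, ha, 1, one_mem _, mul_one a⟩
      have h2 : W' ≤ S := fun b hb => ⟨1, one_mem _, b, hb, one_mul b⟩
      exact (sup_le h1 h2) hw1'
    obtain ⟨a, ha, b, hb, rfl⟩ := h0
    have hc := mem_centralizer_singleton_iff.1 hw2
    have hga : g * a * g⁻¹ ∈ U := ((mem_normalizer_iff.1 (hCU hg)) _).1 ha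
    have hgb : g * b * g⁻¹ ∈ W' := ((mem_normalizer_iff.1 (hCW hg)) _).1 hb
    have h1 : (g * a * g⁻¹) * (g * b * g⁻¹) = a * b := by
      have : (g * a * g⁻¹) * (g * b * g⁻¹) = g * (a * b) * g⁻¹ := by group
      rw [this, ← hc]; group
    have h2 : a⁻¹ * (g * a * g⁻¹) = b * (g * b * g⁻¹)⁻¹ := by
      rw [inv_mul_eq_iff_eq_mul, ← mul_assoc, ← h1, mul_inv_cancel_right]
    have h3 : a⁻¹ * (g * a * g⁻¹) ∈ U ⊓ W' :=
      ⟨U.mul_mem (U.inv_mem ha) hga, h2 ▸ W'.mul_mem hb (W'.inv_mem hgb)⟩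
    rw [hUW, mem_bot] at h3
    have h4 : g * a * g⁻¹ = a := (inv_mul_eq_one.1 h3).symm
    rw [h3] at h2
    have h5 : g * b * g⁻¹ = b := (mul_inv_eq_one.1 h2.symm).symm
    refine ⟨(⟨a, ha, ?_⟩, ⟨b, hb, ?_⟩), rfl⟩
    · apply mem_centralizer_singleton_iff.2
      rw [mul_inv_eq_iff_eq_mul] at h4
      exact h4.symm
    · apply mem_centralizer_singleton_iff.2
      rw [mul_inv_eq_iff_eq_mul] at h5
      exact h5.symm

open scoped IsMulCommutative in
/-- the Gauss sum function on an invariant subgroup of an elementary abelian group -/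
theorem exists_gauss [Finite X] {p : ℕ} [hp : Fact p.Prime] {M : Ideal AlgInt} (hM : IsPModular p M)
    (V C : Subgroup X) (hV : IsMulCommutative V) (hexp : ∀ v ∈ V, v ^ p = 1)
    (hC : ∀ a ∈ C, ∀ b ∈ C, a * b = b * a) (hcop : (Nat.card C).Coprime p) :
    ∀ (n : ℕ) (W : Subgroup X), Nat.card W = n → W ≤ V → C ≤ normalizer (W : Set X) →
      ∃ ψ ∈ Adm p ↥C, ∀ m : ℕ, ¬ p ∣ m → (ψ m 1 = 1 ∨ ψ m 1 = -1) ∧
        ∀ c : ↥C, ‖ψ m c‖ ^ 2 * Nat.card ↥(W ⊓ centralizer ({(c : X)} : Set X)) = Nat.card W ∧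
          MemLocalRing M (ψ m c) ∧
          (¬ W ≤ centralizer ({(c : X)} : Set X) → MemLocalIdeal M (ψ m c)) := by
  haveI := hM.2.1.isPrime
  intro n
  induction n using Nat.strong_induction_on with
  | _ n ih =>
    intro W hWn hWV hCW
    have habV : ∀ a ∈ V, ∀ b ∈ V, a * b = b * a := fun a ha b hb =>
      congrArg Subtype.val (hV.is_comm.comm ⟨a, ha⟩ ⟨b, hb⟩)
    have hWc : IsMulCommutative W := ⟨⟨fun a b => Subtype.ext (habV _ (hWV a.2) _ (hWV b.2))⟩⟩
    by_cases hW1 : W = ⊥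
    · subst hW1
      refine ⟨1, one_mem_adm, fun m hm => ⟨Or.inl rfl, fun c => ⟨?_, ?_, ?_⟩⟩⟩
      · rw [bot_inf_eq]
        simp
      · exact lr_one M
      · intro h
        exact absurd bot_le h
    by_cases hred : ∃ U : Subgroup X, U ≤ W ∧ U ≠ ⊥ ∧ U ≠ W ∧ C ≤ normalizer (U : Set X)
    · obtain ⟨U, hUW, hU1, hUW', hCU⟩ := hred
      obtain ⟨T, hTW, hUT, hUT'⟩ := exists_compl_ea W U hWc p (fun v hv => hexp v (hWV hv)) hUW
      have hWp : ∃ k : ℕ, Nat.card W = p ^ k := by
        have : IsPGroup p W := by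
          intro w
          exact ⟨1, Subtype.ext (by simpa using hexp w (hWV w.2))⟩
        exact IsPGroup.iff_card.1 this
      obtain ⟨k, hk⟩ := hWp
      have hcop' : (Nat.card C).Coprime (Nat.card W) := by
        rw [hk]; exact hcop.pow_right k
      obtain ⟨W', hW'W, hCW', hint, hsup⟩ := H2.exists_invariant_complement W C U T hWc hCW hcop'
        hUW hCU hTW hUT hUT'
      have hlt : ∀ S : Subgroup X, S ≤ W → S ≠ W → Nat.card S < n := by
        intro S hS hne
        rw [← hWn]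
        exact Set.ncard_lt_ncard (SetLike.coe_strictMono (lt_of_le_of_ne hS hne)) (Set.toFinite _)
      have hW'ne : W' ≠ W := by
        rintro rfl
        apply hU1
        rw [← hint]
        exact (inf_eq_left.2 hUW).symm
      obtain ⟨ψ1, hψ1, h1⟩ := ih _ (hlt U hUW hUW') U rfl (hUW.trans hWV) hCU
      obtain ⟨ψ2, hψ2, h2⟩ := ih _ (hlt W' hW'W hW'ne) W' rfl (hW'W.trans hWV) hCW'
      have hcard : Nat.card W = Nat.card U * Nat.card W' := by
        have := card_inf_cent U W' W C (g := 1) hint hsup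
          (fun a ha b hb => habV a (hWV ha) b (hWV hb)) (one_mem _) hCU hCW'
        have h1 : centralizer ({(1 : X)} : Set X) = ⊤ := by
          rw [eq_top_iff]
          intro x _
          rw [mem_centralizer_singleton_iff]; simp
        rw [h1, inf_top_eq, inf_top_eq, inf_top_eq] at this
        exact this
      refine ⟨ψ1 * ψ2, mul_mem_adm hψ1 hψ2, fun m hm => ⟨?_, fun c => ⟨?_, ?_, ?_⟩⟩⟩
      · have e1 := (h1 m hm).1
        have e2 := (h2 m hm).1
        show ψ1 m 1 * ψ2 m 1 = 1 ∨ ψ1 m 1 * ψ2 m 1 = -1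
        rcases e1 with e1 | e1 <;> rcases e2 with e2 | e2 <;> rw [e1, e2] <;> simp
      · show ‖ψ1 m c * ψ2 m c‖ ^ 2 * _ = _
        rw [card_inf_cent U W' W C hint hsup
          (fun a ha b hb => habV a (hWV ha) b (hWV hb)) c.2 hCU hCW', hcard, norm_mul, mul_pow]
        push_cast
        rw [← ((h1 m hm).2 c).1, ← ((h2 m hm).2 c).1]
        ring
      · exact lr_mul ((h1 m hm).2 c).2.1 ((h2 m hm).2 c).2.1
      · intro hc
        by_cases hc1 : U ≤ centralizer ({(c : X)} : Set X)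
        · have hc2 : ¬ W' ≤ centralizer ({(c : X)} : Set X) := by
            intro h
            apply hc
            rw [← hsup]
            exact sup_le hc1 h
          exact li_mul_left ((h1 m hm).2 c).2.1 (((h2 m hm).2 c).2.2 hc2)
        · exact li_mul_right (((h1 m hm).2 c).2.2 hc1) ((h2 m hm).2 c).2.1
    · -- irreducible case
      push Not at hred
      haveI : Nontrivial (Additive ↥W) := by
        have : Nontrivial ↥W := (Subgroup.nontrivial_iff_ne_bot W).2 hW1
        exact this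
      haveI : Finite (Additive ↥W) := inferInstanceAs (Finite ↥W)
      have hA : ∀ a : Additive ↥W, p • a = 0 := fun a => by
        have : (a.toMul : ↥W) ^ p = 1 := Subtype.ext (hexp _ (hWV a.toMul.2))
        exact this
      have hirr : ∀ Y : AddSubgroup (Additive ↥W),
          (∀ g, ∀ x ∈ Y, conjEnd W C hCW g x ∈ Y) → Y = ⊥ ∨ Y = ⊤ := by
        intro Y hY
        let Y0 : Subgroup ↥W :=
          { carrier := {v | Additive.ofMul v ∈ Y}
            one_mem' := Y.zero_mem
            mul_mem' := fun {a b} ha hb => Y.add_mem ha hb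
            inv_mem' := fun {a} ha => Y.neg_mem ha }
        have hn : C ≤ normalizer ((Y0.map W.subtype : Subgroup X) : Set X) := by
          have key : ∀ g ∈ C, ∀ x ∈ Y0.map W.subtype, g * x * g⁻¹ ∈ Y0.map W.subtype := by
            rintro g hg _ ⟨y, hy, rfl⟩
            exact ⟨_, hY ⟨g, hg⟩ (Additive.ofMul y) hy, rfl⟩
          intro g hg
          rw [mem_normalizer_iff]
          intro x
          refine ⟨key g hg x, fun h => ?_⟩
          have := key g⁻¹ (inv_mem hg) _ h
          have h2 : g⁻¹ * (g * x * g⁻¹) * g⁻¹⁻¹ = x := by group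
          rwa [h2] at this
        by_cases h0 : Y0.map W.subtype = ⊥
        · left
          rw [eq_bot_iff]
          intro y hy
          have h3 : ((y.toMul : ↥W) : X) ∈ Y0.map W.subtype := ⟨y.toMul, hy, rfl⟩
          rw [h0, mem_bot] at h3
          have h4 : (y.toMul : ↥W) = 1 := Subtype.ext h3
          exact h4
        · right
          have h5 : Y0.map W.subtype = W := by
            by_contra hne
            exact hred _ (Subgroup.map_subtype_le _) h0 hne hn
          rw [eq_top_iff]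
          intro y _
          have h3 : ((y.toMul : ↥W) : X) ∈ Y0.map W.subtype := by rw [h5]; exact y.toMul.2
          obtain ⟨z, hz, hz'⟩ := h3
          have h6 : z = y.toMul := Subtype.ext hz'
          subst h6
          exact hz
      have hcomm : ∀ g h, conjEnd W C hCW g * conjEnd W C hCW h =
          conjEnd W C hCW h * conjEnd W C hCW g := by
        intro g h
        rw [← map_mul, ← map_mul]
        congr 1
        exact Subtype.ext (hC _ g.2 _ h.2)
      obtain ⟨ψ, hψ, h⟩ := irr_gauss hM hA (conjEnd W C hCW) hcomm hirr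
      have hcardA : Nat.card (Additive ↥W) = Nat.card ↥W := rfl
      refine ⟨ψ, hψ, fun m hm => ⟨Or.inr ((h m hm).1 1 (map_one _)), fun c => ?_⟩⟩
      by_cases hc : W ≤ centralizer ({(c : X)} : Set X)
      · have h1 := (h m hm).1 c ((conjEnd_eq_one W C hCW c).2 hc)
        refine ⟨?_, ?_, fun h => absurd hc h⟩
        · rw [h1, inf_eq_left.2 hc]
          simp
        · rw [h1]
          exact lr_neg (lr_one M)
      · have h1 : conjEnd W C hCW c ≠ 1 := fun h => hc ((conjEnd_eq_one W C hCW c).1 h)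
        have h2 := (h m hm).2 c h1
        have h3 : W ⊓ centralizer ({(c : X)} : Set X) = ⊥ := by
          rw [eq_bot_iff]
          rintro w ⟨hw1, hw2⟩
          have h4 : conjEnd W C hCW c - 1 ∈ PF.genRing (conjEnd W C hCW) :=
            sub_mem (Subring.subset_closure ⟨c, rfl⟩) (one_mem _)
          have h5 := PF.genRing_inj _ hcomm hirr h4 (sub_ne_zero.2 h1)
            (v := Additive.ofMul ⟨w, hw1⟩) ?_
          · have h6 : (⟨w, hw1⟩ : ↥W) = 1 := h5
            exact congrArg Subtype.val h6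
          · show conjEnd W C hCW c (Additive.ofMul ⟨w, hw1⟩) - Additive.ofMul ⟨w, hw1⟩ = 0
            rw [sub_eq_zero]
            have h7 : (c : X) * w * (c : X)⁻¹ = w := by
              rw [← mem_centralizer_singleton_iff.1 hw2]; group
            apply congrArg Additive.ofMul
            exact Subtype.ext h7
        refine ⟨?_, li_lr h2.2, fun _ => h2.2⟩
        rw [h3, h2.1, hcardA]
        simp

end Cfsg.Agent.KGV
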