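import Cfsg.Agent.H27.GalBlock
import Cfsg.Agent.H27.EigBasis
import Mathlib.RingTheory.RootsOfUnity.Complex

set_option autoImplicit false

/-!
The Galois group of the roots of unity acting on irreducible characters.
-/

namespace Cfsg.Agent.H7.PConj

open Cfsg Cfsg.Agent.H3 Cfsg.Agent.H27
open scoped ComplexConjugate

theorem prim_pow_eq_iff {ζ : ℂ} {m i j : ℕ} (h : IsPrimitiveRoot ζ m) (hm : m ≠ 0) :
    ζ ^ i = ζ ^ j ↔ i ≡ j [MOD m] := by
  rw [← pow_mod_orderOf ζ i, ← pow_mod_orderOf ζ j, ← h.eq_orderOf]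
  constructor
  · intro h1
    exact h.pow_inj (Nat.mod_lt _ (Nat.pos_of_ne_zero hm)) (Nat.mod_lt _ (Nat.pos_of_ne_zero hm)) h1
  · intro h1
    rw [show i % m = j % m from h1]

variable {G : Type*} [Group G] [Fintype G]

instance : NeZero (Nat.card G) := ⟨Nat.card_pos.ne'⟩

omit [Fintype G] in
theorem pow_val (g : G) (m : ℕ) : g ^ ((m : ZMod (Nat.card G))).val = g ^ m := by
  rw [ZMod.val_natCast, pow_mod_natCard]

/-- Units modulo the order of the group act on the irreducible characters. -/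
@[instance_reducible] noncomputable def galAct : MulAction (ZMod (Nat.card G))ˣ (IrrCharacter G) where
  smul u χ := galIrr (u : ZMod (Nat.card G)).val (ZMod.val_coe_unit_coprime u) χ
  one_smul χ := by
    apply Subtype.ext
    funext g
    show (χ : G → ℂ) (g ^ ((1 : (ZMod (Nat.card G))ˣ) : ZMod (Nat.card G)).val) = χ.1 g
    have h := pow_val g 1
    rw [Nat.cast_one, pow_one] at h
    rw [Units.val_one, h]
  mul_smul u v χ := by
    apply Subtype.ext
    funext g
    show (χ : G → ℂ) (g ^ ((u * v : (ZMod (Nat.card G))ˣ) : ZMod (Nat.card G)).val)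
      = (χ : G → ℂ) ((g ^ (u : ZMod (Nat.card G)).val) ^ (v : ZMod (Nat.card G)).val)
    rw [Units.val_mul, ZMod.val_mul, pow_mod_natCard, pow_mul]

attribute [local instance] galAct

theorem smul_apply (u : (ZMod (Nat.card G))ˣ) (χ : IrrCharacter G) (g : G) :
    (u • χ : IrrCharacter G).1 g = (χ : G → ℂ) (g ^ (u : ZMod (Nat.card G)).val) := rfl

/-- The units congruent to one modulo `m`. -/
noncomputable def ker (G : Type*) [Group G] [Fintype G] (m : ℕ) (hm : m ∣ Nat.card G) :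
    Subgroup (ZMod (Nat.card G))ˣ := (ZMod.unitsMap hm).ker

theorem mem_ker {m : ℕ} (hm : m ∣ Nat.card G) (u : (ZMod (Nat.card G))ˣ) :
    u ∈ ker G m hm ↔ (u : ZMod (Nat.card G)).val ≡ 1 [MOD m] := by
  unfold ker
  rw [MonoidHom.mem_ker, Units.ext_iff]
  have h1 : ((ZMod.unitsMap hm u : (ZMod m)ˣ) : ZMod m) = (((u : ZMod (Nat.card G)).val : ℕ) : ZMod m) := by
    rw [ZMod.unitsMap_def, Units.coe_map]
    show ZMod.castHom hm (ZMod m) (u : ZMod (Nat.card G)) = _
    rw [ZMod.castHom_apply, ← ZMod.natCast_val]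
  rw [h1, Units.val_one, ← Nat.cast_one, ZMod.natCast_eq_natCast_iff]

/-- The orbits are the classes of conjugate characters. -/
theorem orbit_iff {m : ℕ} (hm : m ∣ Nat.card G) (hm0 : m ≠ 0) (χ ψ : IrrCharacter G) :
    (∃ σ : ℂ ≃+* ℂ, σ (Complex.exp (2 * Real.pi * Complex.I / (m : ℕ)))
        = Complex.exp (2 * Real.pi * Complex.I / (m : ℕ)) ∧ (ψ : G → ℂ) = fun g => σ ((χ : G → ℂ) g)) ↔
      ∃ u ∈ ker G m hm, u • χ = ψ := by
  have hn0 : Nat.card G ≠ 0 := Nat.card_pos.ne'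
  have hprim := Complex.isPrimitiveRoot_exp m hm0
  have hprimn := Complex.isPrimitiveRoot_exp (Nat.card G) hn0
  constructor
  · rintro ⟨σ, hσ, hψ⟩
    have h1 : IsPrimitiveRoot (σ (Complex.exp (2 * Real.pi * Complex.I / (Nat.card G : ℕ)))) (Nat.card G) :=
      hprimn.map_of_injective σ.injective
    obtain ⟨k, -, hk, hσk⟩ := (hprimn.isPrimitiveRoot_iff).mp h1
    have hall : ∀ ζ : ℂ, ζ ^ Nat.card G = 1 → σ ζ = ζ ^ k := by
      intro ζ hζ
      obtain ⟨i, -, rfl⟩ := hprimn.eq_pow_of_pow_eq_one hζ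
      rw [map_pow, ← hσk, ← pow_mul, ← pow_mul, mul_comm k i]
    refine ⟨ZMod.unitOfCoprime k hk, ?_, ?_⟩
    · rw [mem_ker, ZMod.coe_unitOfCoprime, ZMod.val_natCast]
      have h2 : k ≡ 1 [MOD m] := by
        have h3 : (Complex.exp (2 * Real.pi * Complex.I / (m : ℕ))) ^ Nat.card G = 1 := by
          obtain ⟨c, hc⟩ := hm
          rw [hc, pow_mul, hprim.pow_eq_one, one_pow]
        rw [hall _ h3] at hσ
        have h4 : (Complex.exp (2 * Real.pi * Complex.I / (m : ℕ))) ^ k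
            = (Complex.exp (2 * Real.pi * Complex.I / (m : ℕ))) ^ 1 := by rw [hσ, pow_one]
        exact (prim_pow_eq_iff hprim hm0).mp h4
      exact ((Nat.mod_modEq k (Nat.card G)).of_dvd hm).trans h2
    · apply Subtype.ext
      funext g
      rw [smul_apply, ZMod.coe_unitOfCoprime, pow_val]
      have h2 := char_galois_apply (irr_isChar χ.2) (σ : ℂ →+* ℂ) hn0 hall (pow_card_eq_one' (x := g))
      rw [← h2]
      exact (congrFun hψ g).symm
  · rintro ⟨u, hu, rfl⟩
    obtain ⟨σ, hσ⟩ := exists_ringEquiv_pow hn0 (ZMod.val_coe_unit_coprime u)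
    refine ⟨σ, ?_, ?_⟩
    · have h1 : (Complex.exp (2 * Real.pi * Complex.I / (m : ℕ))) ^ Nat.card G = 1 := by
        obtain ⟨c, hc⟩ := hm
        rw [hc, pow_mul, hprim.pow_eq_one, one_pow]
      rw [hσ _ h1]
      have h2 := (mem_ker hm u).mp hu
      have h4 : (Complex.exp (2 * Real.pi * Complex.I / (m : ℕ))) ^ (u : ZMod (Nat.card G)).val
          = (Complex.exp (2 * Real.pi * Complex.I / (m : ℕ))) ^ 1 :=
        (prim_pow_eq_iff hprim hm0).mpr h2
      rw [h4, pow_one]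
    · funext g
      rw [smul_apply]
      exact (char_galois_apply (irr_isChar χ.2) (σ : ℂ →+* ℂ) hn0 hσ (pow_card_eq_one' (x := g))).symm

end Cfsg.Agent.H7.PConj
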