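import Cfsg.Agent.H7.PConj1
import Cfsg.Agent.H26.Pairing

set_option autoImplicit false

/-!
The trace of a character over the `p`-part of the roots of unity.
-/

namespace Cfsg.Agent.H7.PConj

open Cfsg Cfsg.Agent.H3 Cfsg.Agent.H11 Cfsg.Agent.H27
open scoped ComplexConjugate

/-- Geometric sums of roots of unity. -/
theorem geom {δ : ℂ} {N : ℕ} (h : δ ^ N = 1) :
    ∑ i ∈ Finset.range N, δ ^ i = N * (if δ = 1 then 1 else 0) := by
  split_ifs with h1
  · subst h1
    simp
  · rw [mul_zero]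
    have h2 := geom_sum_mul δ N
    rw [h, sub_self] at h2
    exact (mul_eq_zero.mp h2).resolve_right (sub_ne_zero.mpr h1)

/-- The sum of the powers of a root of unity over the progression. -/
theorem sum_prog {p m b : ℕ} (hp : p.Prime) (hpm : ¬ p ∣ m) {ε : ℂ} (hε : ε ^ (p ^ (b + 1) * m) = 1) :
    ∃ t : ℂ, IsIntegral ℤ t ∧
      ∑ j ∈ (Finset.range (p ^ (b + 1))).filter (fun j => ¬ p ∣ 1 + m * j), ε ^ (1 + m * j) = p ^ b * t := by
  classical
  have hint : IsIntegral ℤ ε := by
    refine ⟨Polynomial.X ^ (p ^ (b + 1) * m) - 1, ?_, ?_⟩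
    · apply Polynomial.monic_X_pow_sub_C (1 : ℤ)
      intro h
      rcases Nat.mul_eq_zero.mp h with h | h
      · exact (pow_ne_zero _ hp.ne_zero) h
      · exact hpm (h ▸ dvd_zero p)
    · simp [hε]
  -- the residue class with `p ∣ 1 + m j`
  obtain ⟨j₀, hj₀, hj₀'⟩ : ∃ j₀ < p, p ∣ 1 + m * j₀ := by
    have hc : Nat.Coprime m p := ((Nat.Prime.coprime_iff_not_dvd hp).mpr hpm).symm
    haveI := Fact.mk hp
    let z : ZMod p := -((m : ZMod p)⁻¹)
    refine ⟨z.val, ZMod.val_lt z, ?_⟩
    rw [← ZMod.natCast_eq_zero_iff]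
    push_cast
    rw [ZMod.natCast_zmod_val]
    have h0 : (m : ZMod p) ≠ 0 := by
      rw [Ne, ZMod.natCast_eq_zero_iff]
      exact hpm
    show 1 + (m : ZMod p) * -((m : ZMod p)⁻¹) = 0
    rw [mul_neg, mul_inv_cancel₀ h0, add_neg_cancel]
  have h1 : ∑ j ∈ Finset.range (p ^ (b + 1)), ε ^ (1 + m * j)
      = p ^ (b + 1) * (if ε ^ m = 1 then ε else 0) := by
    have h2 : ∀ j, ε ^ (1 + m * j) = ε * (ε ^ m) ^ j := fun j => by rw [pow_add, pow_one, pow_mul]
    rw [Finset.sum_congr rfl (fun j _ => h2 j), ← Finset.mul_sum, geom (by rw [← pow_mul, mul_comm, hε])]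
    push_cast
    split_ifs <;> ring
  have h2 : ∑ j ∈ (Finset.range (p ^ (b + 1))).filter (fun j => p ∣ 1 + m * j), ε ^ (1 + m * j)
      = p ^ b * (if ε ^ (m * p) = 1 then ε ^ (1 + m * j₀) else 0) := by
    have h3 : (Finset.range (p ^ (b + 1))).filter (fun j => p ∣ 1 + m * j)
        = (Finset.range (p ^ b)).image (fun i => j₀ + p * i) := by
      ext j
      rw [Finset.mem_filter, Finset.mem_range, Finset.mem_image]
      constructor
      · rintro ⟨hj, hd⟩
        have h4 : j ≡ j₀ [MOD p] := by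
          have h5 : 1 + m * j ≡ 1 + m * j₀ [MOD p] :=
            ((Nat.modEq_zero_iff_dvd.mpr hd).trans (Nat.modEq_zero_iff_dvd.mpr hj₀').symm)
          have h6 : m * j ≡ m * j₀ [MOD p] := Nat.ModEq.add_left_cancel' 1 h5
          exact Nat.ModEq.cancel_left_of_coprime ((Nat.Prime.coprime_iff_not_dvd hp).mpr hpm) h6
        have h5 : j % p = j₀ := by
          rw [show j % p = j₀ % p from h4, Nat.mod_eq_of_lt hj₀]
        refine ⟨j / p, ?_, ?_⟩
        · rw [Finset.mem_range, Nat.div_lt_iff_lt_mul hp.pos, ← pow_succ]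
          exact hj
        · show j₀ + p * (j / p) = j
          rw [← h5]
          exact Nat.mod_add_div j p
      · rintro ⟨i, hi, rfl⟩
        rw [Finset.mem_range] at hi
        constructor
        · show j₀ + p * i < p ^ (b + 1)
          have h4 : p * (i + 1) ≤ p * p ^ b := Nat.mul_le_mul_left p hi
          rw [pow_succ, mul_comm (p ^ b)]
          rw [mul_add, mul_one] at h4
          omega
        · show p ∣ 1 + m * (j₀ + p * i)
          have : 1 + m * (j₀ + p * i) = (1 + m * j₀) + p * (m * i) := by ring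
          rw [this]
          exact dvd_add hj₀' (dvd_mul_right _ _)
    rw [h3, Finset.sum_image (fun i _ i' _ h => by
      have h' : j₀ + p * i = j₀ + p * i' := h
      exact Nat.eq_of_mul_eq_mul_left hp.pos (Nat.add_left_cancel h'))]
    have h4 : ∀ i, ε ^ (1 + m * (j₀ + p * i)) = ε ^ (1 + m * j₀) * (ε ^ (m * p)) ^ i := by
      intro i
      rw [← pow_mul, ← pow_add]
      congr 1
      ring
    rw [Finset.sum_congr rfl (fun i _ => h4 i), ← Finset.mul_sum, geom (by
      rw [← pow_mul, ← hε]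
      congr 1
      ring)]
    push_cast
    split_ifs <;> ring
  refine ⟨p * (if ε ^ m = 1 then ε else 0) - (if ε ^ (m * p) = 1 then ε ^ (1 + m * j₀) else 0), ?_, ?_⟩
  · apply IsIntegral.sub
    · apply IsIntegral.mul (isIntegral_algebraMap (R := ℤ) (x := (p : ℤ)) |> fun h => by simpa using h)
      split_ifs
      · exact hint
      · exact isIntegral_zero
    · split_ifs
      · exact hint.pow _
      · exact isIntegral_zero
  · have h3 := Finset.sum_filter_add_sum_filter_not (Finset.range (p ^ (b + 1)))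
      (fun j => p ∣ 1 + m * j) (fun j => ε ^ (1 + m * j))
    rw [h1, h2] at h3
    rw [mul_sub, ← sub_eq_iff_eq_add'.mpr h3.symm, pow_succ]
    ring

variable {G : Type*} [Group G] [Fintype G]

attribute [local instance] galAct

/-- The units congruent to one as a progression. -/
theorem sum_ker {p m b : ℕ} (hp : p.Prime) (hpm : ¬ p ∣ m) (hn : Nat.card G = p ^ (b + 1) * m)
    (hm : m ∣ Nat.card G) (f : ℕ → ℂ) [Fintype (ker G m hm)] :
    ∑ u : ker G m hm, f ((u : (ZMod (Nat.card G))ˣ) : ZMod (Nat.card G)).val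
      = ∑ j ∈ (Finset.range (p ^ (b + 1))).filter (fun j => ¬ p ∣ 1 + m * j), f (1 + m * j) := by
  classical
  have hm0 : 0 < m := Nat.pos_of_ne_zero (fun h => hpm (h ▸ dvd_zero p))
  have hpn : p ∣ Nat.card G := by
    rw [hn, pow_succ]
    exact ((dvd_mul_left p _).mul_right m)
  have hval : ∀ u : ker G m hm, ∃ j, ((u : (ZMod (Nat.card G))ˣ) : ZMod (Nat.card G)).val = 1 + m * j := by
    intro u
    have h1 := (mem_ker hm _).mp u.2
    have h2 : 1 ≤ ((u : (ZMod (Nat.card G))ˣ) : ZMod (Nat.card G)).val := by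
      rw [Nat.one_le_iff_ne_zero]
      intro h0
      have h3 := ZMod.val_coe_unit_coprime (u : (ZMod (Nat.card G))ˣ)
      rw [h0, Nat.coprime_zero_left] at h3
      rw [h3] at hpn
      exact hp.one_lt.ne' (Nat.dvd_one.mp hpn)
    obtain ⟨j, hj⟩ := (Nat.modEq_iff_dvd' h2).mp h1.symm
    exact ⟨j, by omega⟩
  choose J hJ using hval
  refine Finset.sum_bij (fun u _ => J u) ?_ ?_ ?_ ?_
  · intro u _
    rw [Finset.mem_filter, Finset.mem_range]
    constructor
    · have h1 := ZMod.val_lt ((u : (ZMod (Nat.card G))ˣ) : ZMod (Nat.card G))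
      rw [hJ, hn] at h1
      have h2 : m * J u < m * p ^ (b + 1) := by rw [mul_comm m (p ^ (b + 1))]; omega
      exact Nat.lt_of_mul_lt_mul_left h2
    · intro hd
      have h3 := ZMod.val_coe_unit_coprime (u : (ZMod (Nat.card G))ˣ)
      rw [hJ] at h3
      exact Nat.Prime.not_coprime_iff_dvd.mpr ⟨p, hp, hd, hpn⟩ h3
  · intro u _ v _ h
    apply Subtype.ext
    apply Units.ext
    apply ZMod.val_injective
    rw [hJ, hJ, h]
  · intro j hj
    rw [Finset.mem_filter, Finset.mem_range] at hj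
    have hcop : Nat.Coprime (1 + m * j) (Nat.card G) := by
      rw [hn]
      apply Nat.Coprime.mul_right
      · exact (((Nat.Prime.coprime_iff_not_dvd hp).mpr hj.2).symm).pow_right _
      · exact (Nat.coprime_add_mul_left_left 1 m j).mpr (Nat.coprime_one_left m)
    have hlt : 1 + m * j < Nat.card G := by
      have h1 : m * (j + 1) ≤ m * p ^ (b + 1) := Nat.mul_le_mul_left m hj.1
      have h2 : 1 + m * j ≤ Nat.card G := by
        rw [hn, mul_comm (p ^ (b + 1)) m]
        rw [mul_add, mul_one] at h1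
        omega
      refine lt_of_le_of_ne h2 (fun h3 => ?_)
      apply hj.2
      rw [h3]
      exact hpn
    have hv : ((ZMod.unitOfCoprime (1 + m * j) hcop : (ZMod (Nat.card G))ˣ) : ZMod (Nat.card G)).val
        = 1 + m * j := by
      rw [ZMod.coe_unitOfCoprime, ZMod.val_natCast, Nat.mod_eq_of_lt hlt]
    refine ⟨⟨ZMod.unitOfCoprime (1 + m * j) hcop, ?_⟩, Finset.mem_univ _, ?_⟩
    · rw [mem_ker, hv]
      exact (Nat.modEq_iff_dvd' (by omega)).mpr ⟨j, by omega⟩ |>.symm
    · have h1 := hJ ⟨ZMod.unitOfCoprime (1 + m * j) hcop, by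
        rw [mem_ker, hv]
        exact (Nat.modEq_iff_dvd' (by omega)).mpr ⟨j, by omega⟩ |>.symm⟩
      have h2 := Nat.add_left_cancel (h1.symm.trans hv)
      exact Nat.eq_of_mul_eq_mul_left hm0 h2
  · intro u _
    rw [hJ]

/-- The trace of a character is divisible by the expected power of `p`. -/
theorem trace_dvd {p m b : ℕ} (hp : p.Prime) (hpm : ¬ p ∣ m) (hn : Nat.card G = p ^ (b + 1) * m)
    (hm : m ∣ Nat.card G) (χ : IrrCharacter G) [Fintype (ker G m hm)] (x : G) :
    ∃ t : ℂ, IsIntegral ℤ t ∧ ∑ u : ker G m hm, ((u : (ZMod (Nat.card G))ˣ) • χ : IrrCharacter G).1 x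
      = p ^ b * t := by
  obtain ⟨k, ρ, hρ⟩ := irr_isChar χ.2
  obtain ⟨μ, hμ, hsum⟩ := exists_char_powerSum ρ x (Nat.card G) Nat.card_pos.ne' (pow_card_eq_one' (x := x))
  have h1 : ∑ u : ker G m hm, ((u : (ZMod (Nat.card G))ˣ) • χ : IrrCharacter G).1 x
      = ∑ i, ∑ j ∈ (Finset.range (p ^ (b + 1))).filter (fun j => ¬ p ∣ 1 + m * j), μ i ^ (1 + m * j) := by
    rw [Finset.sum_comm]
    have h2 := sum_ker hp hpm hn hm (fun k => ∑ i, μ i ^ k)
    rw [← h2]
    apply Finset.sum_congr rfl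
    intro u _
    rw [smul_apply, ← hsum, ← hρ]
  choose t ht1 ht2 using fun i => sum_prog hp hpm (b := b) (m := m) (ε := μ i) (by rw [← hn]; exact hμ i)
  refine ⟨∑ i, t i, IsIntegral.sum _ (fun i _ => ht1 i), ?_⟩
  rw [h1, Finset.mul_sum]
  exact Finset.sum_congr rfl (fun i _ => ht2 i)

end Cfsg.Agent.H7.PConj
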