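import Cfsg.Agent.H7.PConj2
import Cfsg.Agent.H27.PMod
import Cfsg.Agent.H26.Coef3
import Cfsg.Agent.H11.Defect4

set_option autoImplicit false

/-!
The number of `p`-conjugates of a character and its degree.
-/

namespace Cfsg.Agent.H7.PConj

open Cfsg Cfsg.Agent.H3 Cfsg.Agent.H11 Cfsg.Agent.H27 Cfsg.Agent.H26
open scoped ComplexConjugate

variable {G : Type*} [Group G] [Fintype G] {p : ℕ} [hp : Fact p.Prime] {M : Ideal AlgInt}

attribute [local instance] galAct

theorem card_ker {m : ℕ} (hm : m ∣ Nat.card G) :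
    Nat.card (ker G m hm) * m.totient = (Nat.card G).totient := by
  have hm0 : NeZero m := ⟨fun h => by
    rw [h, zero_dvd_iff] at hm
    exact Nat.card_pos.ne' hm⟩
  have h1 := Subgroup.card_mul_index (ker G m hm)
  have h2 : (ker G m hm).index = m.totient := by
    unfold ker
    rw [Subgroup.index_ker, MonoidHom.range_eq_top.mpr (ZMod.unitsMap_surjective hm), Subgroup.card_top,
      Nat.card_eq_fintype_card, ZMod.card_units_eq_totient]
  rw [h2, Nat.card_eq_fintype_card (α := (ZMod (Nat.card G))ˣ), ZMod.card_units_eq_totient] at h1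
  exact h1

theorem card_orbit {m : ℕ} (hm : m ∣ Nat.card G) (χ : IrrCharacter G) :
    Nat.card (MulAction.orbit (ker G m hm) χ) * Nat.card (MulAction.stabilizer (ker G m hm) χ)
      = Nat.card (ker G m hm) := by
  rw [Nat.card_congr (MulAction.orbitEquivQuotientStabilizer (ker G m hm) χ), mul_comm]
  exact Subgroup.card_mul_index _

/-- The first bound. -/
theorem bound (hM : IsPModular p M) {m b : ℕ} (hpm : ¬ p ∣ m) (hn : Nat.card G = p ^ (b + 1) * m)
    (hm : m ∣ Nat.card G) (χ : IrrCharacter G) :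
    b + (charDegree (χ : G → ℂ)).factorization p ≤ (Nat.card G).factorization p +
      (Nat.card (MulAction.stabilizer (ker G m hm) χ)).factorization p := by
  classical
  have hpp : p.Prime := hp.out
  have hpr := hM.2.1.isPrime
  haveI := Fintype.ofFinite (ker G m hm)
  let F : G → ℂ := fun x => ∑ u : ker G m hm, ((u : (ZMod (Nat.card G))ˣ) • χ : IrrCharacter G).1 x
  have hF : IsClassFunction G F := by
    intro g h
    simp only [F]
    apply Finset.sum_congr rfl
    intro u _
    exact irr_classFun ((u : (ZMod (Nat.card G))ˣ) • χ : IrrCharacter G).2 g h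
  have hp0 : (p : ℂ) ^ b ≠ 0 := pow_ne_zero _ (by exact_mod_cast hpp.ne_zero)
  have hlr : ∀ x, MemLocalRing M (conj (F x / (p : ℂ) ^ b)) := by
    intro x
    obtain ⟨t, ht, hFt⟩ := trace_dvd hpp hpm hn hm χ x
    have h1 : F x / (p : ℂ) ^ b = t := by
      rw [div_eq_iff hp0, mul_comm]
      exact hFt
    rw [h1]
    exact lr_int (ht.map (Complex.conjAe.toAlgHom.restrictScalars ℤ))
  let z : MonoidAlgebra ℂ G := toAlg (fun g => conj (F g / (p : ℂ) ^ b))
  have hz : IsZS M z := by
    constructor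
    · apply isCen_toAlg
      intro g h
      show conj (F (h * g * h⁻¹) / (p : ℂ) ^ b) = conj (F g / (p : ℂ) ^ b)
      rw [hF]
    · intro g
      exact hlr g
  have h1 := lr_omega hz χ.2
  set s := Nat.card (MulAction.stabilizer (ker G m hm) χ) with hs
  have h2 : ∑ g : G, conj (F g) * (χ : G → ℂ) g = (Nat.card G : ℂ) * s := by
    have h3 : classInner (χ : G → ℂ) F = s := by
      have h4 : F = ∑ u : ker G m hm, (((u : (ZMod (Nat.card G))ˣ) • χ : IrrCharacter G) : G → ℂ) := by
        funext g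
        rw [Finset.sum_apply]
      rw [h4, classInner_sum_right]
      have h5 : ∀ u : ker G m hm, classInner (χ : G → ℂ) (((u : (ZMod (Nat.card G))ˣ) • χ : IrrCharacter G) : G → ℂ)
          = if u ∈ MulAction.stabilizer (ker G m hm) χ then 1 else 0 := by
        intro u
        rw [classInner_irr' χ]
        congr 1
        rw [MulAction.mem_stabilizer_iff]
        exact propext ⟨fun h => h.symm, fun h => h.symm⟩
      rw [Finset.sum_congr rfl (fun u _ => h5 u), Finset.sum_boole, hs,
        Nat.card_eq_fintype_card (α := MulAction.stabilizer (ker G m hm) χ), Fintype.card_subtype]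
    unfold classInner at h3
    have h4 : (Nat.card G : ℂ) ≠ 0 := by exact_mod_cast Nat.card_pos.ne'
    rw [inv_mul_eq_iff_eq_mul₀ h4] at h3
    rw [← h3]
    exact Finset.sum_congr rfl (fun g _ => mul_comm _ _)
  have h3 : omega (χ : G → ℂ) z = ((Nat.card G * s : ℕ) : ℂ) / ((p ^ b * charDegree (χ : G → ℂ) : ℕ) : ℂ) := by
    unfold omega
    rw [lin_apply]
    have h4 : ∑ g : G, z.coeff g * (χ : G → ℂ) g = (∑ g : G, conj (F g) * (χ : G → ℂ) g) / (p : ℂ) ^ b := by
      rw [Finset.sum_div]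
      apply Finset.sum_congr rfl
      intro g _
      show conj (F g / (p : ℂ) ^ b) * (χ : G → ℂ) g = _
      rw [map_div₀, map_pow, Complex.conj_natCast]
      ring
    rw [h4, h2, div_div]
    push_cast
    rw [charDegree_cast (irr_isChar χ.2)]
  rw [h3] at h1
  have hs0 : s ≠ 0 := Nat.card_pos.ne'
  rw [lr_natDiv_iff hM (mul_ne_zero Nat.card_pos.ne' hs0)
    (mul_ne_zero (pow_ne_zero _ hpp.ne_zero) (charDegree_pos χ.2).ne'),
    Nat.factorization_mul (pow_ne_zero _ hpp.ne_zero) (charDegree_pos χ.2).ne',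
    Nat.factorization_mul Nat.card_pos.ne' hs0, Finsupp.add_apply, Finsupp.add_apply,
    hpp.factorization_pow, Finsupp.single_eq_same] at h1
  exact h1

/-- The second statement: equality forces defect zero. -/
theorem equality (hM : IsPModular p M) {m b : ℕ} (hpm : ¬ p ∣ m) (hn : Nat.card G = p ^ (b + 1) * m)
    (hm : m ∣ Nat.card G) (χ : IrrCharacter G)
    (hr : (Nat.card G).factorization p ≤ (Nat.card (MulAction.orbit (ker G m hm) χ)).factorization p
      + (charDegree (χ : G → ℂ)).factorization p) :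
    (Nat.card G).factorization p ≤ (charDegree (χ : G → ℂ)).factorization p := by
  classical
  have hpp : p.Prime := hp.out
  have hpr := hM.2.1.isPrime
  haveI := Fintype.ofFinite (IrrCharacter G)
  set B := blockOf M (χ : G → ℂ) with hBdef
  have hB : IsPBlock M B := ⟨χ, rfl⟩
  have hχB : χ ∈ B := sameBlock_refl (χ : G → ℂ)
  obtain ⟨c, h1, h2, h3, h4, h5, h6⟩ := exists_cmat hM hB
  obtain ⟨hf1, hf2⟩ := fact_degree hM hχB
  set a := (Nat.card G).factorization p with ha
  set d := blockDefect p B with hd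
  set h := blockHeight p B (χ : G → ℂ) with hh
  set O := MulAction.orbit (ker G m hm) χ with hO
  set r := Nat.card O with hrdef
  haveI : Nonempty O := ⟨⟨χ, MulAction.mem_orbit_self χ⟩⟩
  have hr0 : 0 < r := Nat.card_pos
  -- conjugates agree on `p`-regular elements
  have hreg : ∀ ψ ∈ O, ∀ g : G, ¬ p ∣ orderOf g → (ψ : G → ℂ) g = (χ : G → ℂ) g := by
    rintro ψ ⟨u, rfl⟩ g hg
    show (χ : G → ℂ) (g ^ ((u : (ZMod (Nat.card G))ˣ) : ZMod (Nat.card G)).val) = _
    have h7 := (mem_ker hm _).mp u.2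
    have h8 : orderOf g ∣ m := by
      have h9 : orderOf g ∣ p ^ (b + 1) * m := hn ▸ orderOf_dvd_natCard g
      exact (((Nat.Prime.coprime_iff_not_dvd hpp).mpr hg).symm.pow_right (b + 1)).dvd_of_dvd_mul_left h9
    have h9 : g ^ ((u : (ZMod (Nat.card G))ˣ) : ZMod (Nat.card G)).val = g ^ 1 :=
      pow_eq_pow_iff_modEq.mpr (h7.of_dvd h8)
    rw [h9, pow_one]
  have hpr' : ∀ ψ ∈ O, pRegularPart p (ψ : G → ℂ) = pRegularPart p (χ : G → ℂ) := by
    intro ψ hψ
    funext g
    by_cases hg : p ∣ orderOf g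
    · rw [pr_sing hg, pr_sing hg]
    · rw [pr_reg hg, pr_reg hg, hreg ψ hψ g hg]
  have hmmO : ∀ ψ ∈ O, mm p (χ : G → ℂ) (ψ : G → ℂ) = mm p (χ : G → ℂ) (χ : G → ℂ) := by
    intro ψ hψ
    unfold mm
    rw [← classInner_pr_right, hpr' ψ hψ, classInner_pr_right]
  have hOB : ∀ ψ ∈ O, ψ ∈ B := by
    intro ψ hψ
    by_contra hcon
    have h7 := mm_eq_zero hM (χ := χ) (ψ := ψ) hcon
    rw [hmmO ψ hψ] at h7
    exact mm_self_ne_zero χ h7
  have hp0 : (p : ℂ) ≠ 0 := by exact_mod_cast hpp.ne_zero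
  have hcO : ∀ ψ ∈ O, c χ ψ = c χ χ := by
    intro ψ hψ
    have h7 := h1 χ ψ hχB (hOB ψ hψ)
    have h8 := h1 χ χ hχB hχB
    rw [hmmO ψ hψ, h8] at h7
    exact_mod_cast h7.symm
  have hsum : ∑ ψ : IrrCharacter G, c χ ψ ^ 2 = (p : ℤ) ^ d * c χ χ := by
    have h7 := mm_sum_mul p (char_classFun (irr_isChar χ.2)) (χ : G → ℂ)
    have h8 : ∑ ψ : IrrCharacter G, ((c χ ψ : ℂ)) ^ 2 = (p : ℂ) ^ d * c χ χ := by
      rw [← h1 χ χ hχB hχB, ← h7, Finset.mul_sum, Finset.mul_sum]
      apply Finset.sum_congr rfl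
      intro ψ _
      by_cases hψ : ψ ∈ B
      · rw [← h1 χ ψ hχB hψ, mm_symm p (isGen_of_irr ψ.2) (isGen_of_irr χ.2)]
        ring
      · rw [h2 χ ψ hψ, mm_eq_zero hM (χ := χ) (ψ := ψ) hψ]
        simp
    exact_mod_cast h8
  have hcc0 : c χ χ ≠ 0 := by
    intro h0
    have h8 := h1 χ χ hχB hχB
    rw [h0, Int.cast_zero] at h8
    exact mm_self_ne_zero χ ((mul_eq_zero.mp h8).resolve_left (pow_ne_zero _ hp0))
  have hpd : (0 : ℤ) < (p : ℤ) ^ d := pow_pos (by exact_mod_cast hpp.pos) _
  have hle1 : c χ χ ^ 2 ≤ (p : ℤ) ^ d * c χ χ := by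
    rw [← hsum]
    exact Finset.single_le_sum (f := fun ψ => c χ ψ ^ 2) (fun ψ _ => sq_nonneg _) (Finset.mem_univ χ)
  have hccpos : 0 < c χ χ := by
    by_contra hcon
    have h7 : c χ χ < 0 := lt_of_le_of_ne (not_lt.mp hcon) hcc0
    have h8 : (p : ℤ) ^ d * c χ χ < 0 := mul_neg_of_pos_of_neg hpd h7
    nlinarith [sq_nonneg (c χ χ)]
  have hcge : (p : ℤ) ^ h ≤ c χ χ := Int.le_of_dvd hccpos (h4 χ χ hχB hχB)
  -- the sum over the orbit
  have hsumO : ∑ ψ ∈ Finset.univ.filter (· ∈ O), c χ ψ ^ 2 = (r : ℤ) * c χ χ ^ 2 := by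
    rw [Finset.sum_congr rfl (fun ψ hψ => by rw [hcO ψ (Finset.mem_filter.mp hψ).2]), Finset.sum_const,
      nsmul_eq_mul]
    congr 2
    rw [hrdef, Nat.card_eq_fintype_card, Fintype.card_subtype]
  have hsplit := Finset.sum_filter_add_sum_filter_not Finset.univ (· ∈ O) (fun ψ => c χ ψ ^ 2)
  rw [hsumO, hsum] at hsplit
  have hrest : 0 ≤ ∑ ψ ∈ Finset.univ.filter (fun ψ => ¬ ψ ∈ O), c χ ψ ^ 2 :=
    Finset.sum_nonneg fun ψ _ => sq_nonneg _
  have hrle : (r : ℤ) * c χ χ ≤ (p : ℤ) ^ d := by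
    have h7 : (r : ℤ) * c χ χ * c χ χ ≤ (p : ℤ) ^ d * c χ χ := by nlinarith
    exact le_of_mul_le_mul_right h7 hccpos
  have hrge : (p : ℤ) ^ d ≤ (r : ℤ) * (p : ℤ) ^ h := by
    have h7 : p ^ d ≤ r * p ^ h := by
      have h8 : d ≤ r.factorization p + h := by omega
      calc p ^ d ≤ p ^ (r.factorization p + h) := Nat.pow_le_pow_right hpp.pos h8
        _ = p ^ r.factorization p * p ^ h := pow_add _ _ _
        _ ≤ r * p ^ h := Nat.mul_le_mul_right _ (Nat.le_of_dvd hr0 (Nat.ordProj_dvd r p))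
    exact_mod_cast h7
  have hrz : (0 : ℤ) < r := by exact_mod_cast hr0
  have hceq : c χ χ = (p : ℤ) ^ h := by
    apply le_antisymm _ hcge
    have h7 : (r : ℤ) * c χ χ ≤ (r : ℤ) * (p : ℤ) ^ h := hrle.trans hrge
    exact le_of_mul_le_mul_left h7 hrz
  have hreq : (r : ℤ) * (p : ℤ) ^ h = (p : ℤ) ^ d := le_antisymm (hceq ▸ hrle) hrge
  have hzero : ∀ ψ, ψ ∉ O → c χ ψ = 0 := by
    intro ψ hψ
    have h7 : ∑ ψ ∈ Finset.univ.filter (fun ψ => ¬ ψ ∈ O), c χ ψ ^ 2 = 0 := by
      rw [← hreq, hceq] at hsplit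
      linarith
    have h8 := (Finset.sum_eq_zero_iff_of_nonneg (fun ψ _ => sq_nonneg (c χ ψ))).mp h7 ψ
      (Finset.mem_filter.mpr ⟨Finset.mem_univ _, hψ⟩)
    exact pow_eq_zero_iff (two_ne_zero) |>.mp h8
  -- the height is zero
  obtain ⟨ξ, hξ, hξ0⟩ := exists_height_zero hM hB
  have hξO : ξ ∈ O := by
    by_contra hcon
    have h7 := h5 ξ χ hξ hχB hξ0
    rw [h3 ξ χ hξ hχB, hzero ξ hcon] at h7
    exact h7 (dvd_zero _)
  have hh0 : h = 0 := by
    have h7 : charDegree (ξ : G → ℂ) = charDegree (χ : G → ℂ) := by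
      have h8 := hreg ξ hξO 1 (by
        rw [orderOf_one]
        exact hpp.one_lt.ne' ∘ Nat.dvd_one.mp)
      unfold charDegree
      rw [h8]
    rw [hh, ← hξ0]
    unfold blockHeight
    rw [h7]
  have hrd : r = p ^ d := by
    rw [hh0, pow_zero, mul_one] at hreq
    exact_mod_cast hreq
  -- the defect is zero
  have hd0 : d = 0 := by
    by_contra hdne
    have hm0 : m ≠ 0 := fun h0 => hpm (by rw [h0]; exact dvd_zero p)
    have hdle : d ≤ b + 1 := by
      have h7 : a = b + 1 := by
        rw [ha, hn, Nat.factorization_mul (pow_ne_zero _ hpp.ne_zero) hm0,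
          Finsupp.add_apply, hpp.factorization_pow, Finsupp.single_eq_same,
          Nat.factorization_eq_zero_of_not_dvd hpm, add_zero]
      omega
    have hmd : p ^ d * m ∣ Nat.card G := by
      rw [hn]
      exact Nat.mul_dvd_mul_right (pow_dvd_pow p hdle) m
    -- the smaller group fixes `χ`
    have hfix : ∀ u ∈ ker G (p ^ d * m) hmd, u • χ = χ := by
      intro u hu
      apply Subtype.ext
      funext x
      rw [smul_apply]
      have h7 := (mem_ker hmd u).mp hu
      by_cases hx0 : (χ : G → ℂ) x = 0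
      · rw [hx0]
        exact (char_pow_coprime_ne_zero (irr_isChar χ.2) (ZMod.val_coe_unit_coprime u)).mpr hx0
      · obtain ⟨y, hy⟩ := exists_isPPart hpp x
        have h8 : ∃ D : Subgroup G, IsDefectGroup p M B D ∧ y ∈ D := by
          by_contra hcon
          push Not at hcon
          exact hx0 (char_eq_zero_of_not_mem_defect hM hy hcon)
        obtain ⟨D, hD, hyD⟩ := h8
        have h9 : y ^ (p ^ d) = 1 := by
          have h10 : Nat.card D = p ^ d := card_defect hM hB hD
          rw [← h10]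
          exact congrArg Subtype.val (pow_card_eq_one' (x := (⟨y, hyD⟩ : D)))
        obtain ⟨z, hyz, hcomm, -, hz⟩ := hy
        have h10 : z ^ m = 1 := by
          rw [← orderOf_dvd_iff_pow_eq_one]
          have h11 : orderOf z ∣ p ^ (b + 1) * m := hn ▸ orderOf_dvd_natCard z
          exact (((Nat.Prime.coprime_iff_not_dvd hpp).mpr hz).symm.pow_right (b + 1)).dvd_of_dvd_mul_left h11
        have h11 : x ^ (p ^ d * m) = 1 := by
          rw [← hyz, hcomm.mul_pow, pow_mul, h9, one_pow, one_mul, mul_comm, pow_mul, h10, one_pow]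
        have h12 : x ^ (u : ZMod (Nat.card G)).val = x ^ 1 :=
          pow_eq_pow_iff_modEq.mpr (h7.of_dvd (orderOf_dvd_of_pow_eq_one h11))
        rw [h12, pow_one]
    have hle : Nat.card (ker G (p ^ d * m) hmd) ≤ Nat.card (MulAction.stabilizer (ker G m hm) χ) := by
      let f : ker G (p ^ d * m) hmd → MulAction.stabilizer (ker G m hm) χ := fun u =>
        ⟨⟨u, by
          rw [mem_ker]
          exact ((mem_ker hmd _).mp u.2).of_dvd (dvd_mul_left m _)⟩, hfix u u.2⟩
      apply Nat.card_le_card_of_injective f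
      intro u v huv
      apply Subtype.ext
      exact congrArg (fun w : MulAction.stabilizer (ker G m hm) χ => ((w : ker G m hm) : (ZMod (Nat.card G))ˣ)) huv
    have e1 := card_ker (G := G) hm
    have e2 := card_ker (G := G) hmd
    have e3 := card_orbit hm χ
    have e4 : (p ^ d * m).totient = (p ^ d).totient * m.totient :=
      Nat.totient_mul (((Nat.Prime.coprime_iff_not_dvd hpp).mpr hpm).pow_left d)
    have e5 : (p ^ d).totient < p ^ d := Nat.totient_lt _ (one_lt_pow₀ hpp.one_lt hdne)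
    rw [← hO, ← hrdef] at e3
    have hmpos : 0 < m.totient := Nat.totient_pos.mpr (Nat.pos_of_ne_zero hm0)
    have hkpos : 0 < Nat.card (ker G (p ^ d * m) hmd) := Nat.card_pos
    -- `r * |ker'| * φ(m) ≤ |ker| * φ(m) = φ(n) = |ker'| * φ(p^d) * φ(m)`
    have e6 : r * Nat.card (ker G (p ^ d * m) hmd) * m.totient
        ≤ (p ^ d).totient * Nat.card (ker G (p ^ d * m) hmd) * m.totient := by
      calc r * Nat.card (ker G (p ^ d * m) hmd) * m.totient
          ≤ r * Nat.card (MulAction.stabilizer (ker G m hm) χ) * m.totient :=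
            Nat.mul_le_mul_right _ (Nat.mul_le_mul_left _ hle)
        _ = (Nat.card G).totient := by rw [e3, e1]
        _ = (p ^ d).totient * Nat.card (ker G (p ^ d * m) hmd) * m.totient := by rw [← e2, e4]; ring
    have e7 : r ≤ (p ^ d).totient :=
      Nat.le_of_mul_le_mul_right (Nat.le_of_mul_le_mul_right e6 hmpos) hkpos
    rw [hrd] at e7
    omega
  omega

/-- The final statement. -/
theorem final (p : ℕ) (hpp : p.Prime) (χ : IrrCharacter G) (r : ℕ)
    (hr : Nat.card {ψ : IrrCharacter G // ∃ σ : ℂ ≃+* ℂ,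
      σ (Complex.exp (2 * Real.pi * Complex.I / ((Nat.card G / p ^ (Nat.card G).factorization p) : ℕ)))
        = Complex.exp (2 * Real.pi * Complex.I / ((Nat.card G / p ^ (Nat.card G).factorization p) : ℕ)) ∧
      (ψ : G → ℂ) = fun g => σ ((χ : G → ℂ) g)} = r) :
    (r * charDegree (χ : G → ℂ)).factorization p ≤ (Nat.card G).factorization p ∧
      (p ^ (Nat.card G).factorization p ∣ r * charDegree (χ : G → ℂ) →
        p ^ (Nat.card G).factorization p ∣ charDegree (χ : G → ℂ)) := by
  classical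
  haveI := Fact.mk hpp
  set a := (Nat.card G).factorization p with ha
  set m := Nat.card G / p ^ a with hmdef
  have hn : Nat.card G = p ^ a * m := (Nat.ordProj_mul_ordCompl_eq_self (Nat.card G) p).symm
  have hm : m ∣ Nat.card G := ⟨p ^ a, by rw [hn]; ring⟩
  have hpm : ¬ p ∣ m := Nat.not_dvd_ordCompl hpp Nat.card_pos.ne'
  have hm0 : m ≠ 0 := fun h0 => hpm (by rw [h0]; exact dvd_zero p)
  have hd0 : charDegree (χ : G → ℂ) ≠ 0 := (charDegree_pos χ.2).ne'
  -- the orbit
  have hrO : Nat.card (MulAction.orbit (ker G m hm) χ) = r := by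
    rw [← hr]
    apply Nat.card_congr
    apply Equiv.subtypeEquivRight
    intro ψ
    rw [orbit_iff hm hm0 χ ψ]
    constructor
    · rintro ⟨u, hu⟩
      exact ⟨u, u.2, hu⟩
    · rintro ⟨u, hu, h⟩
      exact ⟨⟨u, hu⟩, h⟩
  have hr0 : r ≠ 0 := by
    rw [← hrO]
    haveI : Nonempty (MulAction.orbit (ker G m hm) χ) := ⟨⟨χ, MulAction.mem_orbit_self χ⟩⟩
    exact Nat.card_pos.ne'
  have e3 := card_orbit hm χ
  rw [hrO] at e3
  have e1 := card_ker (G := G) hm
  have hmpos : 0 < m.totient := Nat.totient_pos.mpr (Nat.pos_of_ne_zero hm0)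
  have hker : Nat.card (ker G m hm) = (p ^ a).totient := by
    have e4 : (p ^ a * m).totient = (p ^ a).totient * m.totient :=
      Nat.totient_mul (((Nat.Prime.coprime_iff_not_dvd hpp).mpr hpm).pow_left a)
    have e5 : (Nat.card G).totient = (p ^ a).totient * m.totient := by rw [← e4, ← hn]
    rw [e5] at e1
    exact Nat.eq_of_mul_eq_mul_right hmpos e1
  rw [Nat.factorization_mul hr0 hd0, Finsupp.add_apply]
  rcases Nat.eq_zero_or_pos a with ha0 | ha0
  · rw [ha0] at hker ⊢
    rw [pow_zero, Nat.totient_one] at hker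
    rw [hker] at e3
    have hr1 : r = 1 := Nat.eq_one_of_mul_eq_one_right e3
    constructor
    · have h1 : (charDegree (χ : G → ℂ)).factorization p ≤ a :=
        ((Nat.factorization_le_iff_dvd hd0 Nat.card_pos.ne').mpr (charDegree_dvd_card χ.2)) p
      rw [hr1, Nat.factorization_one, Finsupp.zero_apply, zero_add]
      omega
    · intro _
      rw [pow_zero]
      exact one_dvd _
  · obtain ⟨b, hb⟩ : ∃ b, a = b + 1 := ⟨a - 1, by omega⟩
    obtain ⟨M, hM⟩ := exists_isPModular hpp
    have hn' : Nat.card G = p ^ (b + 1) * m := by rw [← hb]; exact hn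
    have h1 := bound hM hpm hn' hm χ
    have hs0 : Nat.card (MulAction.stabilizer (ker G m hm) χ) ≠ 0 := Nat.card_pos.ne'
    have h2 : r.factorization p + (Nat.card (MulAction.stabilizer (ker G m hm) χ)).factorization p = b := by
      rw [← Finsupp.add_apply, ← Nat.factorization_mul hr0 hs0, e3, hker, hb, Nat.totient_prime_pow_succ hpp,
        Nat.factorization_mul (pow_ne_zero _ hpp.ne_zero) (by have := hpp.two_le; omega), Finsupp.add_apply,
        hpp.factorization_pow, Finsupp.single_eq_same,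
        Nat.factorization_eq_zero_of_not_dvd (fun h => by
          have h3 := Nat.le_of_dvd (by have := hpp.two_le; omega) h
          have := hpp.two_le
          omega), add_zero]
    constructor
    · omega
    · intro hdvd
      have h3 : a ≤ r.factorization p + (charDegree (χ : G → ℂ)).factorization p := by
        rw [← Finsupp.add_apply, ← Nat.factorization_mul hr0 hd0]
        exact (hpp.pow_dvd_iff_le_factorization (mul_ne_zero hr0 hd0)).mp hdvd
      rw [hpp.pow_dvd_iff_le_factorization hd0]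
      apply equality hM hpm hn' hm χ
      rw [hrO]
      exact h3

end Cfsg.Agent.H7.PConj
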