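import Cfsg.Agent.H26.InfBlk3
import Cfsg.Agent.H11.Blk5
import Cfsg.Agent.H11.OneBlk
import Cfsg.Agent.H23.PSolvable
import Cfsg.Agent.H27.Kernel
import Cfsg.Agent.H27.Util

set_option autoImplicit false
set_option linter.style.haveILetI false
set_option linter.unusedSectionVars false

/-! The principal block of a `p`-solvable group. -/

namespace Cfsg.Agent.H7.PrinSolv

open Subgroup Cfsg Cfsg.Agent.H3 Cfsg.Agent.H27

universe u

variable {G : Type u} [Group G] [Finite G] {p : ℕ} [hp : Fact p.Prime] {M : Ideal AlgInt}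

theorem one_block_quot (hM : IsPModular p M) (hsolv : IsPSolvable p G)
    (χ ψ : IrrCharacter (G ⧸ pPrimeCore p G)) :
    SameBlock M (χ : G ⧸ pPrimeCore p G → ℂ) (ψ : G ⧸ pPrimeCore p G → ℂ) := by
  haveI := Fintype.ofFinite (G ⧸ pPrimeCore p G)
  haveI := Cfsg.Agent.H1.pCore_normal p (G ⧸ pPrimeCore p G)
  exact Cfsg.Agent.H11.one_block hM (Cfsg.Agent.H1.pCore_isPGroup p _)
    (Cfsg.Agent.H23.centralizer_pCore_le (Cfsg.Agent.H23.isPSolvable_quotient _ hsolv)
      (Cfsg.Agent.H23.pPrimeCore_quotient_eq_bot p G)) χ ψ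

/-- the principal block of a `p`-solvable group is the set of characters with `O_{p'}(G)` in the
kernel -/
theorem mem_principal_iff (hM : IsPModular p M) (hsolv : IsPSolvable p G) (χ : IrrCharacter G) :
    χ ∈ principalBlock M G ↔ ∀ n ∈ pPrimeCore p G, (χ : G → ℂ) n = (χ : G → ℂ) 1 := by
  haveI := Fintype.ofFinite G
  constructor
  · intro h n hn
    have h1 : ¬ p ∣ Nat.card (pPrimeCore p G) := fun h2 =>
      hp.out.one_lt.ne' (Nat.Coprime.eq_one_of_dvd (Cfsg.Agent.H1.pPrimeCore_coprime p G).symm h2)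
    obtain ⟨ψ', h2, -⟩ := Cfsg.Agent.H11.inflated_block hM (pPrimeCore p G) h1
      (oneIrr (G ⧸ pPrimeCore p G)) χ h
    rw [h2]
    simp only [Function.comp_apply]
    rw [(QuotientGroup.eq_one_iff n).2 hn, QuotientGroup.mk_one]
  · intro h
    obtain ⟨ψ, h1⟩ : ∃ ψ : IrrCharacter (G ⧸ pPrimeCore p G),
        ∀ g : G, (χ : G → ℂ) g = (ψ : G ⧸ pPrimeCore p G → ℂ) (QuotientGroup.mk g) := by
      obtain ⟨ψ, h1, h2⟩ := exists_quotient_irr χ.2 h
      exact ⟨⟨ψ, h1⟩, h2⟩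
    have h2 := Cfsg.Agent.H26.sameBlock_infl hM.2.1.isPrime (one_block_quot hM hsolv
      (oneIrr (G ⧸ pPrimeCore p G)) ψ)
    have h3 : (Cfsg.Agent.H26.infl (pPrimeCore p G) (oneIrr (G ⧸ pPrimeCore p G)) : G → ℂ) =
        fun _ => 1 := by
      funext g
      rw [Cfsg.Agent.H26.infl_apply]; rfl
    have h4 : (Cfsg.Agent.H26.infl (pPrimeCore p G) ψ : G → ℂ) = (χ : G → ℂ) := by
      funext g
      rw [Cfsg.Agent.H26.infl_apply, h1]
    rw [h3, h4] at h2
    exact h2

theorem exists_ne_one [Nontrivial G] : ∃ χ : IrrCharacter G, (χ : G → ℂ) ≠ fun _ => 1 := by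
  classical
  by_contra hcon
  push Not at hcon
  haveI := Fintype.ofFinite G
  obtain ⟨g, hg⟩ := exists_ne (1 : G)
  apply hg
  have h1 : IsConj g 1 := by
    rw [isConj_iff_irr]
    intro χ
    rw [hcon χ]
  exact isConj_one_left.mp h1

end Cfsg.Agent.H7.PrinSolv
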