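import Mathlib.GroupTheory.Perm.Sign
import Mathlib.GroupTheory.Perm.Finite
import Mathlib.GroupTheory.Abelianization.Defs
import Mathlib.GroupTheory.SpecificGroups.Alternating
import Mathlib.NumberTheory.Padics.PadicVal.Basic
import Mathlib.GroupTheory.Sylow
import Mathlib.Data.Nat.Factorization.Basic

set_option autoImplicit false

/-!
The Sylow subgroups of the symmetric and the alternating groups are generated by elements of
order `p`.
-/

namespace Cfsg.Agent.H7.SylSn

open Subgroup Equiv

/-- A subgroup generated by its elements with trivial `p`-th power. -/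
def Gen {G : Type*} [Group G] (p : ℕ) (H : Subgroup G) : Prop :=
  H ≤ closure {x | x ∈ H ∧ x ^ p = 1}

theorem Gen.map {G G' : Type*} [Group G] [Group G'] {p : ℕ} {H : Subgroup G} (h : Gen p H)
    (f : G →* G') : Gen p (H.map f) := by
  unfold Gen
  refine (map_mono h).trans ?_
  rw [MonoidHom.map_closure, closure_le]
  rintro _ ⟨x, ⟨hx, hxp⟩, rfl⟩
  exact subset_closure ⟨mem_map_of_mem f hx, by rw [← map_pow, hxp, map_one]⟩

/-- The `p`-th powers lie in the derived subgroup. -/
theorem Gen.pow_mem {G : Type*} [Group G] {p : ℕ} {H : Subgroup G} (h : Gen p H) {x : G}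
    (hx : x ∈ H) : x ^ p ∈ ⁅H, H⁆ := by
  have key : ∀ y ∈ closure {x | x ∈ H ∧ x ^ p = 1}, ∃ hy : y ∈ H,
      (Abelianization.of (⟨y, hy⟩ : H)) ^ p = 1 := by
    intro y hy
    induction hy using closure_induction with
    | mem y hy =>
      refine ⟨hy.1, ?_⟩
      rw [← map_pow]
      have : (⟨y, hy.1⟩ : H) ^ p = 1 := Subtype.ext hy.2
      rw [this, map_one]
    | one => exact ⟨H.one_mem, by
        have : (⟨1, H.one_mem⟩ : H) = 1 := rfl
        rw [this, map_one, one_pow]⟩
    | mul a b _ _ ha hb =>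
      obtain ⟨ha, ha'⟩ := ha
      obtain ⟨hb, hb'⟩ := hb
      refine ⟨H.mul_mem ha hb, ?_⟩
      have : (⟨a * b, H.mul_mem ha hb⟩ : H) = ⟨a, ha⟩ * ⟨b, hb⟩ := rfl
      rw [this, map_mul, mul_pow, ha', hb', one_mul]
    | inv a _ ha =>
      obtain ⟨ha, ha'⟩ := ha
      refine ⟨H.inv_mem ha, ?_⟩
      have : (⟨a⁻¹, H.inv_mem ha⟩ : H) = (⟨a, ha⟩)⁻¹ := rfl
      rw [this, map_inv, inv_pow, ha', inv_one]
  obtain ⟨hx', h1⟩ := key x (h hx)
  rw [← map_pow, ← MonoidHom.mem_ker, Abelianization.ker_of] at h1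
  rw [← H.map_subtype_commutator]
  exact ⟨_, h1, rfl⟩

section tau

variable {α : Type*} {p : ℕ}

/-- Permuting the fibres and translating inside them. -/
def tau (h : Perm α) (f : α → ZMod p) : Perm (α × ZMod p) where
  toFun x := (h x.1, x.2 + f x.1)
  invFun x := (h⁻¹ x.1, x.2 - f (h⁻¹ x.1))
  left_inv x := by simp
  right_inv x := by simp

theorem tau_apply (h : Perm α) (f : α → ZMod p) (x : α × ZMod p) :
    tau h f x = (h x.1, x.2 + f x.1) := rfl

theorem tau_mul (h h' : Perm α) (f f' : α → ZMod p) :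
    tau h f * tau h' f' = tau (h * h') (f' + fun a => f (h' a)) := by
  ext x
  · rfl
  · simp only [Perm.mul_apply, tau_apply, Pi.add_apply]
    ring

theorem tau_one : tau (1 : Perm α) (0 : α → ZMod p) = 1 := by
  ext x <;> simp [tau_apply]

theorem tau_inj {h h' : Perm α} {f f' : α → ZMod p} (heq : tau h f = tau h' f') : h = h' ∧ f = f' := by
  constructor
  · ext a
    exact congrArg Prod.fst (Equiv.congr_fun heq (a, 0))
  · funext a
    have h1 := congrArg Prod.snd (Equiv.congr_fun heq (a, 0))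
    simpa [tau_apply] using h1

/-- The permutations of the fibres. -/
def tauHom (α : Type*) (p : ℕ) : Perm α →* Perm (α × ZMod p) where
  toFun h := tau h 0
  map_one' := tau_one
  map_mul' h h' := by
    rw [tau_mul]
    congr 1
    funext a
    simp

theorem tau_eq (h : Perm α) (f : α → ZMod p) : tau h f = tauHom α p h * tau 1 f := by
  show tau h f = tau h 0 * tau 1 f
  rw [tau_mul, mul_one]
  congr 1
  funext a
  simp

theorem tau_one_pow (f : α → ZMod p) (k : ℕ) : (tau (1 : Perm α) f) ^ k = tau 1 (k • f) := by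
  induction k with
  | zero => rw [pow_zero, zero_smul, tau_one]
  | succ k ih =>
    rw [pow_succ, ih, tau_mul, mul_one]
    congr 1
    funext a
    simp [succ_nsmul]
    ring

theorem tau_one_pow_p (f : α → ZMod p) : (tau (1 : Perm α) f) ^ p = 1 := by
  rw [tau_one_pow]
  have : p • f = 0 := by
    funext a
    simp
  rw [this, tau_one]

/-- The wreath product with the cyclic group of order `p`. -/
def wr (p : ℕ) (H : Subgroup (Perm α)) : Subgroup (Perm (α × ZMod p)) where
  carrier := {σ | ∃ h ∈ H, ∃ f : α → ZMod p, σ = tau h f}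
  one_mem' := ⟨1, H.one_mem, 0, tau_one.symm⟩
  mul_mem' := by
    rintro _ _ ⟨h, hh, f, rfl⟩ ⟨h', hh', f', rfl⟩
    exact ⟨h * h', H.mul_mem hh hh', _, tau_mul h h' f f'⟩
  inv_mem' := by
    rintro _ ⟨h, hh, f, rfl⟩
    refine ⟨h⁻¹, H.inv_mem hh, fun a => -f (h⁻¹ a), ?_⟩
    rw [inv_eq_iff_mul_eq_one, tau_mul, mul_inv_cancel]
    have : ((fun a => -f (h⁻¹ a)) + fun a => f (h⁻¹ a)) = 0 := by
      funext a
      simp
    rw [this, tau_one]

theorem mem_wr {H : Subgroup (Perm α)} {σ : Perm (α × ZMod p)} :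
    σ ∈ wr p H ↔ ∃ h ∈ H, ∃ f : α → ZMod p, σ = tau h f := Iff.rfl

theorem card_wr [Finite α] [NeZero p] (H : Subgroup (Perm α)) :
    Nat.card (wr p H) = Nat.card H * p ^ Nat.card α := by
  have e : (H × (α → ZMod p)) ≃ wr p H := Equiv.ofBijective
    (fun x => ⟨tau x.1 x.2, x.1, x.1.2, x.2, rfl⟩) (by
      constructor
      · rintro ⟨h, f⟩ ⟨h', f'⟩ heq
        have h1 := tau_inj (congrArg Subtype.val heq)
        exact Prod.ext (Subtype.ext h1.1) h1.2
      · rintro ⟨_, h, hh, f, rfl⟩
        exact ⟨⟨⟨h, hh⟩, f⟩, rfl⟩)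
  rw [← Nat.card_congr e, Nat.card_prod, Nat.card_fun, Nat.card_zmod]

theorem gen_wr {H : Subgroup (Perm α)} (h : Gen p H) : Gen p (wr p H) := by
  rintro _ ⟨s, hs, f, rfl⟩
  rw [tau_eq]
  apply mul_mem
  · have h1 : tauHom α p s ∈ H.map (tauHom α p) := mem_map_of_mem _ hs
    have h2 := (h.map (tauHom α p)) h1
    refine closure_mono ?_ h2
    rintro _ ⟨⟨y, hy, rfl⟩, hyp⟩
    exact ⟨⟨y, hy, 0, rfl⟩, hyp⟩
  · exact subset_closure ⟨⟨1, H.one_mem, f, rfl⟩, tau_one_pow_p f⟩

theorem sign_tauHom [DecidableEq α] [Fintype α] (h : Perm α) :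
    Perm.sign (tauHom α 2 h) = 1 := by
  have h1 : tauHom α 2 h = Equiv.prodCongrLeft (fun _ : ZMod 2 => h) := by
    ext x <;> simp [tauHom, tau_apply, Equiv.prodCongrLeft]
  rw [h1, Equiv.Perm.sign_prodCongrLeft, Finset.prod_const, Finset.card_univ, ZMod.card]
  exact Int.units_sq _

end tau

section main

variable {p : ℕ} [hp : Fact p.Prime]

/-- The data carried through the induction. -/
def Good (p n : ℕ) : Prop := ∃ H : Subgroup (Perm (Fin n)),
  Nat.card H = p ^ padicValNat p n.factorial ∧ Gen p H ∧ Gen p (H ⊓ alternatingGroup (Fin n))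

theorem le_alt_of_gen {α : Type*} [DecidableEq α] [Fintype α] (h2 : p ≠ 2) {H : Subgroup (Perm α)}
    (h : Gen p H) : H ≤ alternatingGroup α := by
  refine h.trans ?_
  rw [closure_le]
  rintro x ⟨-, hx⟩
  have h1 : (Perm.sign x) ^ p = 1 := by rw [← map_pow, hx, map_one]
  have hodd : Odd p := hp.out.odd_of_ne_two h2
  obtain ⟨k, hk⟩ := hodd
  have h3 : (Perm.sign x) ^ 2 = 1 := Int.units_sq _
  rw [hk, pow_add, pow_mul, h3, one_pow, one_mul, pow_one] at h1
  exact h1

theorem good (n : ℕ) : Good p n := by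
  classical
  induction n using Nat.strong_induction_on with
  | _ n ih =>
    rcases Nat.eq_zero_or_pos n with rfl | hn
    · refine ⟨⊥, ?_, ?_, ?_⟩
      · simp
      · exact bot_le
      · rw [bot_inf_eq]
        exact bot_le
    · set m := n / p with hm
      have hmn : m < n := Nat.div_lt_self hn hp.out.one_lt
      obtain ⟨H, hcard, hgen, hgenA⟩ := ih m hmn
      haveI : NeZero p := ⟨hp.out.ne_zero⟩
      let e : (Fin m × ZMod p) ⊕ Fin (n % p) ≃ Fin n := Fintype.equivOfCardEq (by
        rw [Fintype.card_sum, Fintype.card_prod, Fintype.card_fin, Fintype.card_fin, ZMod.card,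
          Fintype.card_fin, hm, mul_comm]
        exact Nat.div_add_mod n p)
      let ι : Perm (Fin m × ZMod p) →* Perm (Fin n) :=
        e.permCongrHom.toMonoidHom.comp ((Perm.sumCongrHom (Fin m × ZMod p) (Fin (n % p))).comp
          (MonoidHom.inl _ _))
      have hι : Function.Injective ι := by
        intro a b hab
        have h1 := e.permCongrHom.injective hab
        have h2 := Perm.sumCongrHom_injective h1
        exact congrArg Prod.fst h2
      have hsign : ∀ σ, Perm.sign (ι σ) = Perm.sign σ := by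
        intro σ
        show Perm.sign (e.permCongr (Perm.sumCongr σ 1)) = _
        rw [Perm.sign_permCongr, Perm.sign_sumCongr, map_one, mul_one]
      refine ⟨(wr p H).map ι, ?_, (gen_wr hgen).map ι, ?_⟩
      · rw [← Nat.card_congr ((wr p H).equivMapOfInjective ι hι).toEquiv, card_wr, hcard, ← pow_add]
        congr 1
        rw [Nat.card_eq_fintype_card, Fintype.card_fin, ← padicValNat_factorial_mul, hm,
          padicValNat_mul_div_factorial]
      · by_cases h2 : p = 2
        · subst h2
          rintro _ ⟨⟨_, ⟨s, hs, f, rfl⟩, rfl⟩, hsg⟩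
          rw [tau_eq, map_mul]
          have hsg' : Perm.sign (ι (tau s f)) = 1 := hsg
          have hT : ∀ t : Perm (Fin m), Perm.sign (tauHom (Fin m) 2 t) = 1 := sign_tauHom
          have h1f : Perm.sign (tau (1 : Perm (Fin m)) f) = 1 := by
            rw [hsign, tau_eq, map_mul, hT, one_mul] at hsg'
            exact hsg'
          apply mul_mem
          · have h1 : ι (tauHom (Fin m) 2 s) ∈ H.map (ι.comp (tauHom (Fin m) 2)) :=
              mem_map_of_mem (ι.comp (tauHom (Fin m) 2)) hs
            have h3 := (hgen.map (ι.comp (tauHom (Fin m) 2))) h1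
            refine closure_mono ?_ h3
            rintro _ ⟨⟨y, hy, rfl⟩, hyp⟩
            refine ⟨⟨⟨tauHom (Fin m) 2 y, ⟨y, hy, 0, rfl⟩, rfl⟩, ?_⟩, hyp⟩
            show Perm.sign (ι (tauHom (Fin m) 2 y)) = 1
            rw [hsign, hT]
          · apply subset_closure
            refine ⟨⟨⟨tau 1 f, ⟨1, H.one_mem, f, rfl⟩, rfl⟩, ?_⟩, ?_⟩
            · show Perm.sign (ι (tau 1 f)) = 1
              rw [hsign, h1f]
            · show ι (tau 1 f) ^ 2 = 1
              rw [← map_pow, tau_one_pow_p, map_one]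
        · rw [inf_eq_left.mpr (le_alt_of_gen h2 ((gen_wr hgen).map ι))]
          exact (gen_wr hgen).map ι

/-- Every Sylow subgroup is generated as required, together with its even part. -/
theorem sylow_gen (n : ℕ) (P : Sylow p (Perm (Fin n))) :
    Gen p (P : Subgroup (Perm (Fin n))) ∧ Gen p ((P : Subgroup (Perm (Fin n))) ⊓ alternatingGroup (Fin n)) := by
  obtain ⟨H, hcard, hgen, hgenA⟩ := good (p := p) n
  have hc : Nat.card H = p ^ (Nat.card (Perm (Fin n))).factorization p := by
    rw [hcard, Nat.card_eq_fintype_card (α := Perm (Fin n)), Fintype.card_perm, Fintype.card_fin,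
      Nat.factorization_def _ hp.out]
  let S : Sylow p (Perm (Fin n)) := Sylow.ofCard H hc
  obtain ⟨g, hg⟩ := MulAction.exists_smul_eq (Perm (Fin n)) S P
  have h1 : (P : Subgroup (Perm (Fin n))) = H.map (MulAut.conj g).toMonoidHom := by
    rw [← hg]
    rfl
  have h2 : (P : Subgroup (Perm (Fin n))) ⊓ alternatingGroup (Fin n)
      = (H ⊓ alternatingGroup (Fin n)).map (MulAut.conj g).toMonoidHom := by
    rw [h1, map_inf _ _ _ (MulAut.conj g).injective]
    congr 1
    ext x
    constructor
    · intro hx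
      refine ⟨g⁻¹ * x * g, ?_, ?_⟩
      · have := (alternatingGroup.normal (α := Fin n)).conj_mem x hx g⁻¹
        rwa [inv_inv] at this
      · show g * (g⁻¹ * x * g) * g⁻¹ = x
        group
    · rintro ⟨y, hy, rfl⟩
      exact (alternatingGroup.normal (α := Fin n)).conj_mem y hy g
  exact ⟨h1 ▸ hgen.map _, h2 ▸ hgenA.map _⟩

theorem final (n : ℕ) (P : Sylow p (Perm (Fin n))) (Q : Sylow p (alternatingGroup (Fin n))) :
    (∀ x : (P : Subgroup (Perm (Fin n))), x ^ p ∈ commutator (P : Subgroup (Perm (Fin n)))) ∧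
    (∀ x : (Q : Subgroup (alternatingGroup (Fin n))),
      x ^ p ∈ commutator (Q : Subgroup (alternatingGroup (Fin n)))) := by
  constructor
  · intro x
    have h1 := (sylow_gen n P).1.pow_mem x.2
    rw [← map_subtype_commutator] at h1
    obtain ⟨y, hy, hyx⟩ := h1
    have h2 : y = x ^ p := Subtype.ext hyx
    rwa [← h2]
  · intro x
    have hQ : IsPGroup p ((Q : Subgroup (alternatingGroup (Fin n))).map (alternatingGroup (Fin n)).subtype) :=
      Q.isPGroup'.map _
    obtain ⟨P', hP'⟩ := hQ.exists_le_sylow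
    have hQeq : (Q : Subgroup (alternatingGroup (Fin n))).map (alternatingGroup (Fin n)).subtype
        = (P' : Subgroup (Perm (Fin n))) ⊓ alternatingGroup (Fin n) := by
      apply le_antisymm
      · exact le_inf hP' (map_subtype_le _)
      · have h1 : IsPGroup p ((P' : Subgroup (Perm (Fin n))).subgroupOf (alternatingGroup (Fin n))) :=
          P'.isPGroup'.comap_subtype
        have h2 : (Q : Subgroup (alternatingGroup (Fin n)))
            ≤ (P' : Subgroup (Perm (Fin n))).subgroupOf (alternatingGroup (Fin n)) := by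
          intro y hy
          exact hP' (mem_map_of_mem _ hy)
        have h3 := Q.is_maximal' h1 h2
        rintro y ⟨hyP, hyA⟩
        refine ⟨⟨y, hyA⟩, ?_, rfl⟩
        show (⟨y, hyA⟩ : alternatingGroup (Fin n)) ∈ (Q : Subgroup (alternatingGroup (Fin n)))
        rw [← h3]
        exact hyP
    have h1 : (((x : alternatingGroup (Fin n)) : Perm (Fin n))) ^ p ∈
        ⁅(Q : Subgroup (alternatingGroup (Fin n))).map (alternatingGroup (Fin n)).subtype,
          (Q : Subgroup (alternatingGroup (Fin n))).map (alternatingGroup (Fin n)).subtype⁆ := by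
      rw [hQeq]
      apply (sylow_gen n P').2.pow_mem
      rw [← hQeq]
      exact mem_map_of_mem _ x.2
    rw [← map_commutator] at h1
    obtain ⟨y, hy, hyx⟩ := h1
    have h2 : y = (x : alternatingGroup (Fin n)) ^ p := Subtype.ext hyx
    rw [h2, ← map_subtype_commutator] at hy
    obtain ⟨z, hz, hzx⟩ := hy
    have h3 : z = x ^ p := Subtype.ext hzx
    rwa [← h3]

end main

end Cfsg.Agent.H7.SylSn
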