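import Cfsg.Agent.H7.SylSn
import Cfsg.Agent.H5.SpOrder
import Cfsg.Agent.H5.SL2Inv
import Cfsg.Agent.H1.Basic
import Mathlib.NumberTheory.Multiplicity
import Mathlib.GroupTheory.SpecificGroups.Quaternion
import Mathlib.LinearAlgebra.Matrix.Permutation

set_option autoImplicit false

/-!
Squares of elements of a Sylow 2-subgroup of the symplectic group in odd characteristic.
-/

namespace Cfsg.Agent.H7.SylSp

open Subgroup Equiv Matrix
open scoped commutatorElement

/-- If the generators have their powers in the derived subgroup, so have all elements. -/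
theorem pow_closure {G : Type*} [Group G] {p : ℕ} {T : Subgroup G} {S : Set G}
    (hS : ∀ x ∈ S, x ∈ T ∧ x ^ p ∈ ⁅T, T⁆) : ∀ x ∈ closure S, x ∈ T ∧ x ^ p ∈ ⁅T, T⁆ := by
  have hiff : ∀ (y : G) (hy : y ∈ T), y ^ p ∈ ⁅T, T⁆ ↔ (Abelianization.of (⟨y, hy⟩ : T)) ^ p = 1 := by
    intro y hy
    rw [← map_pow, ← MonoidHom.mem_ker, Abelianization.ker_of, ← T.map_subtype_commutator]
    constructor
    · rintro ⟨z, hz, hzy⟩
      have : z = (⟨y, hy⟩ : T) ^ p := Subtype.ext hzy
      rwa [← this]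
    · intro h
      exact ⟨_, h, rfl⟩
  intro y hy
  induction hy using closure_induction with
  | mem y hy => exact hS y hy
  | one => exact ⟨T.one_mem, by rw [one_pow]; exact one_mem _⟩
  | mul a b _ _ ha hb =>
    obtain ⟨ha, ha'⟩ := ha
    obtain ⟨hb, hb'⟩ := hb
    refine ⟨T.mul_mem ha hb, ?_⟩
    rw [hiff _ (T.mul_mem ha hb)]
    rw [hiff _ ha] at ha'
    rw [hiff _ hb] at hb'
    have : (⟨a * b, T.mul_mem ha hb⟩ : T) = ⟨a, ha⟩ * ⟨b, hb⟩ := rfl
    rw [this, map_mul, mul_pow, ha', hb', one_mul]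
  | inv a _ ha =>
    obtain ⟨ha, ha'⟩ := ha
    refine ⟨T.inv_mem ha, ?_⟩
    rw [hiff _ (T.inv_mem ha)]
    rw [hiff _ ha] at ha'
    have : (⟨a⁻¹, T.inv_mem ha⟩ : T) = (⟨a, ha⟩)⁻¹ := rfl
    rw [this, map_inv, inv_pow, ha', inv_one]

theorem pow_sup {G : Type*} [Group G] {p : ℕ} {A B : Subgroup G}
    (hA : ∀ x ∈ A, x ^ p ∈ ⁅A, A⁆) (hB : ∀ x ∈ B, x ^ p ∈ ⁅B, B⁆) :
    ∀ x ∈ A ⊔ B, x ^ p ∈ ⁅A ⊔ B, A ⊔ B⁆ := by
  intro x hx
  rw [sup_eq_closure] at hx
  refine (pow_closure (T := A ⊔ B) ?_ x hx).2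
  rintro y (hy | hy)
  · exact ⟨mem_sup_left hy, commutator_mono le_sup_left le_sup_left (hA y hy)⟩
  · exact ⟨mem_sup_right hy, commutator_mono le_sup_right le_sup_right (hB y hy)⟩

theorem pow_map {G G' : Type*} [Group G] [Group G'] {p : ℕ} {A : Subgroup G} (f : G →* G')
    (hA : ∀ x ∈ A, x ^ p ∈ ⁅A, A⁆) : ∀ x ∈ A.map f, x ^ p ∈ ⁅A.map f, A.map f⁆ := by
  rintro _ ⟨x, hx, rfl⟩
  rw [← map_pow, ← map_commutator]
  exact mem_map_of_mem f (hA x hx)

/-- One Sylow subgroup is enough. -/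
theorem sylow_of_one {G : Type*} [Group G] [Finite G] {p : ℕ} [Fact p.Prime] {T : Subgroup G}
    (hT : Nat.card T = p ^ (Nat.card G).factorization p) (h : ∀ x ∈ T, x ^ p ∈ ⁅T, T⁆)
    (P : Sylow p G) : ∀ x : (P : Subgroup G), x ^ p ∈ commutator (P : Subgroup G) := by
  let S : Sylow p G := Sylow.ofCard T hT
  obtain ⟨g, hg⟩ := MulAction.exists_smul_eq G S P
  have h1 : (P : Subgroup G) = T.map (MulAut.conj g).toMonoidHom := by
    rw [← hg]
    rfl
  intro x
  have h0 : ∀ y ∈ (P : Subgroup G), y ^ p ∈ ⁅(P : Subgroup G), (P : Subgroup G)⁆ := by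
    rw [h1]
    exact pow_map _ h
  have h2 : (x : G) ^ p ∈ ⁅(P : Subgroup G), (P : Subgroup G)⁆ := h0 x x.2
  rw [← map_subtype_commutator] at h2
  obtain ⟨y, hy, hyx⟩ := h2
  have h3 : y = x ^ p := Subtype.ext hyx
  rwa [← h3]

theorem quat_sq {k : ℕ} (hk : 1 ≤ k) (x : QuaternionGroup (2 ^ k)) :
    x ^ 2 ∈ commutator (QuaternionGroup (2 ^ k)) := by
  have hc : ∀ j : ZMod (2 * 2 ^ k), QuaternionGroup.a (2 * j) ∈ commutator (QuaternionGroup (2 ^ k)) := by
    intro j
    have h1 : ⁅(QuaternionGroup.a j : QuaternionGroup (2 ^ k)), QuaternionGroup.xa 0⁆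
        ∈ commutator (QuaternionGroup (2 ^ k)) := commutator_mem_commutator (mem_top _) (mem_top _)
    have h2 : ⁅(QuaternionGroup.a j : QuaternionGroup (2 ^ k)), QuaternionGroup.xa 0⁆
        = QuaternionGroup.a (2 * j) := by
      rw [commutatorElement_def, mul_inv_eq_iff_eq_mul, mul_inv_eq_iff_eq_mul,
        QuaternionGroup.a_mul_xa, QuaternionGroup.a_mul_xa, QuaternionGroup.xa_mul_a]
      congr 1
      ring
    rwa [h2] at h1
  cases x with
  | a i =>
    rw [sq, QuaternionGroup.a_mul_a, ← two_mul]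
    exact hc i
  | xa i =>
    rw [sq, QuaternionGroup.xa_mul_xa]
    obtain ⟨j, rfl⟩ : ∃ j, k = j + 1 := ⟨k - 1, by omega⟩
    have h1 : (((2 ^ (j + 1) : ℕ) : ZMod (2 * 2 ^ (j + 1))) + i - i) = 2 * ((2 ^ j : ℕ) : ZMod (2 * 2 ^ (j + 1))) := by
      push_cast
      ring
    rw [h1]
    exact hc _

section SL2

variable {F : Type*} [Field F] [Fintype F]

theorem sylow_SL2 (hF : Odd (Fintype.card F)) (Q : Sylow 2 (SpecialLinearGroup (Fin 2) F)) :
    ∀ x ∈ (Q : Subgroup (SpecialLinearGroup (Fin 2) F)),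
      x ^ 2 ∈ ⁅(Q : Subgroup (SpecialLinearGroup (Fin 2) F)), (Q : Subgroup (SpecialLinearGroup (Fin 2) F))⁆ := by
  obtain ⟨k, hk, ⟨e⟩⟩ := H5.sl2_sylow_quat (H5.two_ne_zero_of_odd hF) Q
  intro x hx
  have h1 := quat_sq hk (e ⟨x, hx⟩)
  have h2 : (⟨x, hx⟩ : (Q : Subgroup (SpecialLinearGroup (Fin 2) F))) ^ 2 ∈
      commutator (Q : Subgroup (SpecialLinearGroup (Fin 2) F)) := by
    have h3 : e.symm ((e ⟨x, hx⟩) ^ 2) ∈ (commutator (QuaternionGroup (2 ^ k))).map e.symm.toMonoidHom :=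
      mem_map_of_mem _ h1
    rw [commutator_def, map_commutator] at h3
    rw [← map_pow, MulEquiv.symm_apply_apply] at h3
    exact commutator_mono le_top le_top h3
  rw [← map_subtype_commutator]
  exact ⟨_, h2, rfl⟩

end SL2

section mats

variable {F : Type*} [Field F] {n : ℕ}

/-- The block diagonal matrix. -/
def Dmat (g : Fin n → Matrix (Fin 2) (Fin 2) F) : Matrix (Fin n ⊕ Fin n) (Fin n ⊕ Fin n) F :=
  fromBlocks (diagonal fun i => g i 0 0) (diagonal fun i => g i 0 1)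
    (diagonal fun i => g i 1 0) (diagonal fun i => g i 1 1)

theorem Dmat_mul (g h : Fin n → Matrix (Fin 2) (Fin 2) F) :
    Dmat g * Dmat h = Dmat (fun i => g i * h i) := by
  unfold Dmat
  rw [fromBlocks_multiply]
  simp only [diagonal_mul_diagonal, diagonal_add, Matrix.mul_apply, Fin.sum_univ_two]

theorem Dmat_one : Dmat (fun _ : Fin n => (1 : Matrix (Fin 2) (Fin 2) F)) = 1 := by
  unfold Dmat
  simp

theorem Dmat_mem (g : Fin n → SpecialLinearGroup (Fin 2) F) :
    Dmat (fun i => (g i : Matrix (Fin 2) (Fin 2) F)) ∈ symplecticGroup (Fin n) F := by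
  rw [SymplecticGroup.mem_iff]
  have hdet : ∀ i, (g i : Matrix (Fin 2) (Fin 2) F) 0 0 * (g i : Matrix (Fin 2) (Fin 2) F) 1 1
      - (g i : Matrix (Fin 2) (Fin 2) F) 0 1 * (g i : Matrix (Fin 2) (Fin 2) F) 1 0 = 1 := by
    intro i
    have := (g i).det_coe
    rwa [Matrix.det_fin_two] at this
  unfold Dmat Matrix.J
  rw [fromBlocks_transpose, fromBlocks_multiply, fromBlocks_multiply]
  simp only [diagonal_transpose, Matrix.mul_zero, Matrix.mul_one, Matrix.mul_neg, zero_add, add_zero,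
    Matrix.neg_mul, diagonal_mul_diagonal]
  congr 1
  · ext i j
    rcases eq_or_ne i j with rfl | h
    · simp only [Matrix.add_apply, Matrix.neg_apply, diagonal_apply_eq, Matrix.zero_apply]
      ring
    · simp only [Matrix.add_apply, Matrix.neg_apply, diagonal_apply_ne _ h, Matrix.zero_apply]
      ring
  · ext i j
    rcases eq_or_ne i j with rfl | h
    · simp only [Matrix.add_apply, Matrix.neg_apply, diagonal_apply_eq, Matrix.one_apply_eq]
      linear_combination (-1 : F) * hdet i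
    · simp only [Matrix.add_apply, Matrix.neg_apply, diagonal_apply_ne _ h, Matrix.one_apply_ne h]
      ring
  · ext i j
    rcases eq_or_ne i j with rfl | h
    · simp only [Matrix.add_apply, Matrix.neg_apply, diagonal_apply_eq, Matrix.one_apply_eq]
      linear_combination hdet i
    · simp only [Matrix.add_apply, Matrix.neg_apply, diagonal_apply_ne _ h, Matrix.one_apply_ne h]
      ring
  · ext i j
    rcases eq_or_ne i j with rfl | h
    · simp only [Matrix.add_apply, Matrix.neg_apply, diagonal_apply_eq, Matrix.zero_apply]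
      ring
    · simp only [Matrix.add_apply, Matrix.neg_apply, diagonal_apply_ne _ h, Matrix.zero_apply]
      ring

/-- The product of the groups `SL₂` inside the symplectic group. -/
def DHom (F : Type*) [Field F] (n : ℕ) : (Fin n → SpecialLinearGroup (Fin 2) F) →* symplecticGroup (Fin n) F where
  toFun g := ⟨Dmat (fun i => (g i : Matrix (Fin 2) (Fin 2) F)), Dmat_mem g⟩
  map_one' := Subtype.ext Dmat_one
  map_mul' g h := Subtype.ext (Dmat_mul _ _).symm

theorem DHom_injective : Function.Injective (DHom F n) := by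
  intro g h hgh
  have h1 : Dmat (fun i => (g i : Matrix (Fin 2) (Fin 2) F)) = Dmat (fun i => (h i : Matrix (Fin 2) (Fin 2) F)) :=
    congrArg Subtype.val hgh
  unfold Dmat at h1
  rw [fromBlocks_inj] at h1
  obtain ⟨h00, h01, h10, h11⟩ := h1
  funext i
  apply Subtype.ext
  ext a b
  fin_cases a <;> fin_cases b
  · exact congrFun (diagonal_injective h00) i
  · exact congrFun (diagonal_injective h01) i
  · exact congrFun (diagonal_injective h10) i
  · exact congrFun (diagonal_injective h11) i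

/-- The permutation matrix. -/
def Pm (F : Type*) [Field F] (σ : Perm (Fin n)) : Matrix (Fin n) (Fin n) F :=
  Matrix.of fun i j => if i = σ j then 1 else 0

theorem Pm_apply (σ : Perm (Fin n)) (i j : Fin n) : Pm F σ i j = if i = σ j then 1 else 0 := rfl

theorem Pm_mul (σ τ : Perm (Fin n)) : Pm F σ * Pm F τ = Pm F (σ * τ) := by
  ext i j
  rw [Matrix.mul_apply, Pm_apply, Finset.sum_eq_single (τ j)]
  · rw [Pm_apply, Pm_apply, if_pos rfl, mul_one]
    rfl
  · intro k _ hk
    rw [Pm_apply (σ := τ), if_neg hk, mul_zero]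
  · intro h
    exact absurd (Finset.mem_univ _) h

theorem Pm_one : Pm F (1 : Perm (Fin n)) = 1 := by
  ext i j
  rw [Pm_apply, Matrix.one_apply]
  rfl

theorem Pm_transpose (σ : Perm (Fin n)) : (Pm F σ)ᵀ = Pm F σ⁻¹ := by
  ext i j
  rw [transpose_apply, Pm_apply, Pm_apply]
  congr 1
  rw [eq_iff_iff]
  constructor
  · rintro rfl
    simp
  · rintro rfl
    simp

theorem Pm_diagonal (σ : Perm (Fin n)) (a : Fin n → F) :
    Pm F σ * diagonal a = diagonal (fun i => a (σ⁻¹ i)) * Pm F σ := by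
  ext i j
  rw [mul_diagonal, diagonal_mul, Pm_apply]
  split_ifs with h
  · subst h
    simp
  · simp

theorem Pmat_mem (σ : Perm (Fin n)) : fromBlocks (Pm F σ) 0 0 (Pm F σ) ∈ symplecticGroup (Fin n) F := by
  rw [SymplecticGroup.mem_iff]
  unfold Matrix.J
  rw [fromBlocks_transpose, fromBlocks_multiply, fromBlocks_multiply]
  simp only [transpose_zero, Matrix.mul_zero, Matrix.zero_mul, Matrix.mul_one, Matrix.mul_neg, zero_add, add_zero,
    Matrix.neg_mul, Pm_transpose, Pm_mul, mul_inv_cancel, Pm_one, neg_zero]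

/-- The symmetric group inside the symplectic group. -/
def PHom (F : Type*) [Field F] (n : ℕ) : Perm (Fin n) →* symplecticGroup (Fin n) F where
  toFun σ := ⟨fromBlocks (Pm F σ) 0 0 (Pm F σ), Pmat_mem σ⟩
  map_one' := by
    apply Subtype.ext
    show fromBlocks (Pm F 1) 0 0 (Pm F 1) = 1
    rw [Pm_one, fromBlocks_one]
  map_mul' σ τ := by
    apply Subtype.ext
    show fromBlocks (Pm F (σ * τ)) 0 0 (Pm F (σ * τ)) = fromBlocks (Pm F σ) 0 0 (Pm F σ) * fromBlocks (Pm F τ) 0 0 (Pm F τ)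
    rw [fromBlocks_multiply]
    simp only [Pm_mul, Matrix.mul_zero, Matrix.zero_mul, add_zero, zero_add]

theorem Pm_injective {σ τ : Perm (Fin n)} (h : Pm F σ = Pm F τ) : σ = τ := by
  ext j
  have h1 := congrFun (congrFun h (σ j)) j
  rw [Pm_apply, Pm_apply, if_pos rfl] at h1
  by_contra hne
  rw [if_neg (fun h => hne (by rw [h]))] at h1
  exact one_ne_zero h1

theorem PHom_injective : Function.Injective (PHom F n) := by
  intro σ τ h
  have h1 : fromBlocks (Pm F σ) 0 0 (Pm F σ) = fromBlocks (Pm F τ) 0 0 (Pm F τ) := congrArg Subtype.val h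
  rw [fromBlocks_inj] at h1
  exact Pm_injective h1.1

theorem conj_DHom (σ : Perm (Fin n)) (g : Fin n → SpecialLinearGroup (Fin 2) F) :
    PHom F n σ * DHom F n g = DHom F n (fun i => g (σ⁻¹ i)) * PHom F n σ := by
  apply Subtype.ext
  show fromBlocks (Pm F σ) 0 0 (Pm F σ) * Dmat _ = Dmat _ * fromBlocks (Pm F σ) 0 0 (Pm F σ)
  unfold Dmat
  rw [fromBlocks_multiply, fromBlocks_multiply]
  simp only [Matrix.mul_zero, Matrix.zero_mul, add_zero, zero_add, Pm_diagonal]

theorem DHom_eq_PHom {g : Fin n → SpecialLinearGroup (Fin 2) F} {σ : Perm (Fin n)}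
    (h : DHom F n g = PHom F n σ) : σ = 1 := by
  have h1 : Dmat _ = fromBlocks (Pm F σ) 0 0 (Pm F σ) := congrArg Subtype.val h
  unfold Dmat at h1
  rw [fromBlocks_inj] at h1
  ext j
  have h2 := congrFun (congrFun h1.1 (σ j)) j
  rw [Pm_apply, if_pos rfl] at h2
  by_contra hne
  rw [diagonal_apply_ne _ (fun h => hne (by rw [h]; rfl))] at h2
  exact zero_ne_one h2

end mats

end Cfsg.Agent.H7.SylSp
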