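import Cfsg.Agent.H7.SylSp
import Cfsg.Agent.H1.Hall
import Cfsg.Agent.H5.Small
import Mathlib.GroupTheory.Commutator.Finite

set_option autoImplicit false

/-!
Squares of elements of a Sylow 2-subgroup of the symplectic group: the orders.
-/

namespace Cfsg.Agent.H7.SylSp

open Subgroup Equiv Matrix

theorem val_sq {q : ℕ} (hq : Odd q) (hq1 : 1 < q) (i : ℕ) :
    (q ^ (2 * (i + 1)) - 1).factorization 2 = (q ^ 2 - 1).factorization 2 + (i + 1).factorization 2 := by
  haveI : Fact (Nat.Prime 2) := ⟨Nat.prime_two⟩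
  have hx : ¬ 2 ∣ q := by
    rw [← even_iff_two_dvd]
    exact Nat.not_even_iff_odd.mpr hq
  have hxy : 2 ∣ q - 1 := by
    obtain ⟨k, hk⟩ := hq
    exact ⟨k, by omega⟩
  have h1 := padicValNat.pow_two_sub_pow (x := q) (y := 1) hq1 hxy hx (n := 2 * (i + 1)) (by omega) (by simp)
  have h2 := padicValNat.pow_two_sub_pow (x := q) (y := 1) hq1 hxy hx (n := 2) (by omega) (by simp)
  rw [one_pow] at h1 h2
  have h3 : padicValNat 2 (2 * (i + 1)) = 1 + padicValNat 2 (i + 1) := by
    rw [padicValNat.mul (by norm_num) (by omega), padicValNat_self]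
  rw [padicValNat_self] at h2
  rw [Nat.factorization_def _ Nat.prime_two, Nat.factorization_def _ Nat.prime_two,
    Nat.factorization_def _ Nat.prime_two]
  omega

theorem val_fact (n : ℕ) : ∑ i ∈ Finset.range n, (i + 1).factorization 2 = n.factorial.factorization 2 := by
  induction n with
  | zero => simp
  | succ n ih =>
    rw [Finset.sum_range_succ, ih, Nat.factorial_succ, Nat.factorization_mul (by omega) (Nat.factorial_ne_zero n),
      Finsupp.add_apply, add_comm]

variable {F : Type*} [Field F] [Fintype F]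

theorem val_Sp {q : ℕ} (hq : Fintype.card F = q) (hodd : Odd q) (n : ℕ) :
    (Nat.card (symplecticGroup (Fin n) F)).factorization 2
      = n * (Nat.card (SpecialLinearGroup (Fin 2) F)).factorization 2 + n.factorial.factorization 2 := by
  have hq1 : 1 < q := hq ▸ Fintype.one_lt_card
  have h2q : ¬ 2 ∣ q := by
    rw [← even_iff_two_dvd]
    exact Nat.not_even_iff_odd.mpr hodd
  have hne : ∀ i, q ^ (2 * (i + 1)) - 1 ≠ 0 := by
    intro i
    have : 1 < q ^ (2 * (i + 1)) := Nat.one_lt_pow (by omega) hq1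
    omega
  have hne2 : q ^ 2 - 1 ≠ 0 := hne 0
  rw [H5.card_Sp hq, H5.card_SL2 hq, Nat.factorization_mul (pow_ne_zero _ (by omega))
    (Finset.prod_ne_zero_iff.2 (fun i _ => hne i)), Finsupp.add_apply, Nat.factorization_pow,
    Finsupp.smul_apply, Nat.factorization_eq_zero_of_not_dvd h2q, smul_zero, zero_add,
    Nat.factorization_prod (fun i _ => hne i), Finsupp.finset_sum_apply,
    Nat.factorization_mul (by omega) hne2, Finsupp.add_apply, Nat.factorization_eq_zero_of_not_dvd h2q,
    zero_add, Finset.sum_congr rfl (fun i _ => val_sq hodd hq1 i), Finset.sum_add_distrib, Finset.sum_const,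
    Finset.card_range, smul_eq_mul, val_fact]

theorem card_pi {n : ℕ} {K : Type*} [Group K] (Q : Subgroup K) :
    Nat.card (Subgroup.pi (Set.univ : Set (Fin n)) (fun _ => Q)) = Nat.card Q ^ n := by
  have e : Subgroup.pi (Set.univ : Set (Fin n)) (fun _ => Q) ≃ (Fin n → Q) :=
    { toFun := fun g i => ⟨(g : Fin n → K) i, g.2 i (Set.mem_univ i)⟩
      invFun := fun g => ⟨fun i => g i, fun i _ => (g i).2⟩
      left_inv := fun _ => rfl
      right_inv := fun _ => rfl }
  rw [Nat.card_congr e, Nat.card_fun, Nat.card_fin]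

/-- The final statement. -/
theorem sp_sq (hF : Odd (Fintype.card F)) (n : ℕ) (P : Sylow 2 (symplecticGroup (Fin n) F)) :
    ∀ x : (P : Subgroup (symplecticGroup (Fin n) F)),
      x ^ 2 ∈ commutator (P : Subgroup (symplecticGroup (Fin n) F)) := by
  classical
  haveI : Fact (Nat.Prime 2) := ⟨Nat.prime_two⟩
  haveI : Finite (symplecticGroup (Fin n) F) := by
    haveI : Finite (Matrix (Fin n ⊕ Fin n) (Fin n ⊕ Fin n) F) := inferInstance
    exact Subtype.finite
  let Q : Sylow 2 (SpecialLinearGroup (Fin 2) F) := default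
  let R : Sylow 2 (Perm (Fin n)) := default
  let A : Subgroup (symplecticGroup (Fin n) F) :=
    (Subgroup.pi (Set.univ : Set (Fin n)) (fun _ => (Q : Subgroup (SpecialLinearGroup (Fin 2) F)))).map (DHom F n)
  let B : Subgroup (symplecticGroup (Fin n) F) := (R : Subgroup (Perm (Fin n))).map (PHom F n)
  have hA : ∀ x ∈ A, x ^ 2 ∈ ⁅A, A⁆ := by
    apply pow_map
    intro g hg
    rw [Subgroup.commutator_pi_pi_of_finite]
    intro i _
    exact sylow_SL2 hF Q (g i) (hg i (Set.mem_univ i))
  have hB : ∀ x ∈ B, x ^ 2 ∈ ⁅B, B⁆ := by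
    apply pow_map
    intro g hg
    exact (SylSn.sylow_gen n R).1.pow_mem hg
  have hAB := pow_sup hA hB
  have hnorm : B ≤ normalizer (A : Set (symplecticGroup (Fin n) F)) := by
    have key : ∀ σ : Perm (Fin n), ∀ a ∈ A, PHom F n σ * a * (PHom F n σ)⁻¹ ∈ A := by
      rintro σ _ ⟨g, hg, rfl⟩
      rw [conj_DHom, mul_inv_cancel_right]
      exact ⟨_, fun i _ => hg (σ⁻¹ i) (Set.mem_univ _), rfl⟩
    rintro _ ⟨σ, -, rfl⟩
    rw [mem_normalizer_iff]
    intro a
    constructor
    · intro ha
      exact key σ a ha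
    · intro ha
      have h1 := key σ⁻¹ _ ha
      rw [map_inv, inv_inv] at h1
      have h2 : (PHom F n σ)⁻¹ * (PHom F n σ * a * (PHom F n σ)⁻¹) * PHom F n σ = a := by group
      rwa [h2] at h1
  have hinf : A ⊓ B = ⊥ := by
    rw [eq_bot_iff]
    rintro _ ⟨⟨g, -, rfl⟩, ⟨σ, -, hσ⟩⟩
    rw [mem_bot, ← hσ, DHom_eq_PHom hσ.symm, map_one]
  have hcard : Nat.card (A ⊔ B : Subgroup (symplecticGroup (Fin n) F))
      = 2 ^ (Nat.card (symplecticGroup (Fin n) F)).factorization 2 := by
    have h1 := H1.card_sup_mul_card_inf_of_le_normalizer hnorm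
    rw [hinf, card_bot, mul_one] at h1
    have h2 : Nat.card A = (2 ^ (Nat.card (SpecialLinearGroup (Fin 2) F)).factorization 2) ^ n := by
      rw [← Q.card_eq_multiplicity, ← card_pi]
      exact (Nat.card_congr (equivMapOfInjective _ (DHom F n) DHom_injective).toEquiv).symm
    have h3 : Nat.card B = 2 ^ (n.factorial.factorization 2) := by
      have h4 : (Nat.card (Perm (Fin n))) = n.factorial := by
        rw [Nat.card_eq_fintype_card, Fintype.card_perm, Fintype.card_fin]
      rw [← h4, ← R.card_eq_multiplicity]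
      exact (Nat.card_congr (equivMapOfInjective _ (PHom F n) PHom_injective).toEquiv).symm
    rw [h1, h2, h3, val_Sp rfl hF, ← pow_mul, ← pow_add]
    congr 1
    ring
  exact sylow_of_one hcard hAB P

end Cfsg.Agent.H7.SylSp
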