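import Cfsg.Agent.H3.CohI
import Cfsg.Agent.H3.IndCoh2
import Cfsg.Agent.H3.Counting
import Cfsg.Agent.H11.PF9

set_option autoImplicit false

/-! General facts on the Dade map (linearity, isometry on lattices, duality with the
coset-averaging map). -/

namespace Cfsg.Agent.T1

open Cfsg Cfsg.Agent.H3 Cfsg.Agent.H11.PF
open scoped ComplexConjugate

universe u
variable {G : Type u} [Group G] {A : Set G} {L : Subgroup G} {R : G → Subgroup G}

theorem dade_add (α β : L → ℂ) :
    dadeIsometry A L R (α + β) = dadeIsometry A L R α + dadeIsometry A L R β := by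
  funext g
  simp only [dadeIsometry, Pi.add_apply]
  split_ifs <;> simp

theorem dade_smul (c : ℂ) (α : L → ℂ) :
    dadeIsometry A L R (c • α) = c • dadeIsometry A L R α := by
  funext g
  simp only [dadeIsometry, Pi.smul_apply]
  split_ifs <;> simp

theorem dade_zsmul (n : ℤ) (α : L → ℂ) :
    dadeIsometry A L R (n • α) = n • dadeIsometry A L R α := by
  funext g
  simp only [dadeIsometry, Pi.smul_apply]
  split_ifs <;> simp

theorem dade_neg (α : L → ℂ) : dadeIsometry A L R (-α) = - dadeIsometry A L R α := by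
  funext g
  simp only [dadeIsometry, Pi.neg_apply]
  split_ifs <;> simp

theorem dade_sub (α β : L → ℂ) :
    dadeIsometry A L R (α - β) = dadeIsometry A L R α - dadeIsometry A L R β := by
  rw [sub_eq_add_neg, dade_add, dade_neg, ← sub_eq_add_neg]

theorem dade_conj (α : L → ℂ) :
    dadeIsometry A L R (conjFun α) = conjFun (dadeIsometry A L R α) := by
  funext g
  simp only [dadeIsometry, conjFun]
  split_ifs <;> simp

theorem dade_sum {ι : Type*} (s : Finset ι) (f : ι → L → ℂ) :
    dadeIsometry A L R (∑ i ∈ s, f i) = ∑ i ∈ s, dadeIsometry A L R (f i) := by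
  classical
  induction s using Finset.induction_on with
  | empty =>
    funext g
    simp only [Finset.sum_empty, dadeIsometry, Pi.zero_apply]
    split_ifs <;> rfl
  | insert a s ha ih => rw [Finset.sum_insert ha, Finset.sum_insert ha, dade_add, ih]

theorem dade_one (hD : DadeHypothesis A L R) (α : L → ℂ) : dadeIsometry A L R α 1 = 0 := by
  refine dade_zero hD ?_
  rintro ⟨a, ha, x, u, hu, h⟩
  have h1 : (a : G) * u = 1 := by rw [← h]; simp
  have h2 : (a : G) = u⁻¹ := eq_inv_of_mul_eq_one_left h1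
  have h3 : (a : G) ∈ R a ⊓ (L ⊓ Subgroup.centralizer ({(a : G)} : Set G)) := by
    refine ⟨?_, a.2, ?_⟩
    · have := (R (a : G)).inv_mem hu
      rwa [← h2] at this
    · exact mem_cent_single.2 rfl
  rw [hD.inf_eq_bot _ ha, Subgroup.mem_bot] at h3
  exact hD.one_not_mem (h3 ▸ ha)

/-- the coset-averaging map dual to the Dade map -/
noncomputable def rho (A : Set G) (L : Subgroup G) (R : G → Subgroup G) (χ : G → ℂ) : L → ℂ :=
  open Classical in
  fun a => if (a : G) ∈ A then (Nat.card (R a) : ℂ)⁻¹ * ∑ᶠ u ∈ (R (a : G) : Set G), χ (a * u) else 0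

section
variable [Fintype G]

theorem finsum_mem_sub (K : Subgroup G) [DecidablePred (· ∈ K)] (f : G → ℂ) :
    ∑ᶠ u ∈ (K : Set G), f u = ∑ u : G, if u ∈ K then f u else 0 := by
  rw [finsum_eq_sum_of_fintype]
  refine Finset.sum_congr rfl fun u _ => ?_
  by_cases h : u ∈ K
  · rw [if_pos h, finsum_eq_if, if_pos (show u ∈ (K : Set G) from h)]
  · rw [if_neg h, finsum_eq_if, if_neg (show ¬ u ∈ (K : Set G) from h)]

theorem rho_apply (χ : G → ℂ) {a : L} (ha : (a : G) ∈ A) [DecidablePred (· ∈ R (a : G))] :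
    rho A L R χ a = (Nat.card (R a) : ℂ)⁻¹ * ∑ u : G, if u ∈ R (a : G) then χ (a * u) else 0 := by
  rw [rho, if_pos ha, finsum_mem_sub]

omit [Fintype G] in
theorem rho_off (χ : G → ℂ) {a : L} (ha : (a : G) ∉ A) : rho A L R χ a = 0 := by
  rw [rho, if_neg ha]

/-- if `χ` is constant on the coset `a R(a)` then `rho χ a` is that constant -/
theorem rho_const {χ : G → ℂ} {a : L} (ha : (a : G) ∈ A) {c : ℂ}
    (h : ∀ u ∈ R (a : G), χ (a * u) = c) : rho A L R χ a = c := by
  classical
  rw [rho_apply χ ha]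
  have h1 : ∑ u : G, (if u ∈ R (a : G) then χ (a * u) else 0) = (Nat.card (R (a : G)) : ℂ) * c := by
    rw [Finset.sum_congr rfl (g := fun u => if u ∈ R (a : G) then c else 0) (fun u _ => by
      by_cases hu : u ∈ R (a : G)
      · rw [if_pos hu, if_pos hu, h u hu]
      · rw [if_neg hu, if_neg hu]), ← Finset.sum_filter, Finset.sum_const, nsmul_eq_mul,
      Nat.card_eq_fintype_card, Fintype.card_subtype]
  rw [h1, ← mul_assoc, inv_mul_cancel₀, one_mul]
  exact_mod_cast Nat.card_pos.ne'

theorem rho_add (χ ψ : G → ℂ) : rho A L R (χ + ψ) = rho A L R χ + rho A L R ψ := by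
  classical
  funext a
  by_cases ha : (a : G) ∈ A
  · rw [Pi.add_apply, rho_apply _ ha, rho_apply _ ha, rho_apply _ ha, ← mul_add,
      ← Finset.sum_add_distrib]
    congr 1
    refine Finset.sum_congr rfl fun u _ => ?_
    split_ifs <;> simp
  · rw [Pi.add_apply, rho_off _ ha, rho_off _ ha, rho_off _ ha, add_zero]

theorem rho_smul (c : ℂ) (χ : G → ℂ) : rho A L R (c • χ) = c • rho A L R χ := by
  classical
  funext a
  by_cases ha : (a : G) ∈ A
  · rw [Pi.smul_apply, rho_apply _ ha, rho_apply _ ha, smul_eq_mul, mul_left_comm]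
    congr 1
    rw [Finset.mul_sum]
    refine Finset.sum_congr rfl fun u _ => ?_
    split_ifs <;> simp
  · rw [Pi.smul_apply, rho_off _ ha, rho_off _ ha, smul_zero]

theorem rho_classFun (hD : DadeHypothesis A L R) {χ : G → ℂ} (hχ : IsClassFunction G χ) :
    IsClassFunction L (rho A L R χ) := by
  classical
  intro a x
  have hx : (x * a * x⁻¹ : L) = ((x : G) * a * (x : G)⁻¹ : G) := rfl
  by_cases ha : (a : G) ∈ A
  · have hc : ((x * a * x⁻¹ : L) : G) ∈ A := hD.conj_mem x x.2 a ha
    have hc' : (x : G) * a * (x : G)⁻¹ ∈ A := hc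
    rw [rho_apply χ ha, rho_apply χ hc]
    have e1 : Nat.card (R ((x * a * x⁻¹ : L) : G)) = Nat.card (R (a : G)) :=
      card_H_conj hD ha hc'
    rw [e1]
    congr 1
    rw [← Equiv.sum_comp (MulAut.conj (x : G)).toEquiv]
    refine Finset.sum_congr rfl fun u _ => ?_
    have e2 : (MulAut.conj (x : G)).toEquiv u = x * u * (x : G)⁻¹ := rfl
    rw [e2]
    have e3 : (x : G) * u * (x : G)⁻¹ ∈ R ((x * a * x⁻¹ : L) : G) ↔ u ∈ R (a : G) :=
      H_conj_iff hD ha hc'
    by_cases hu : u ∈ R (a : G)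
    · rw [if_pos hu, if_pos (e3.2 hu), ← hχ (a * u) x]
      congr 1
      simp [mul_assoc]
    · rw [if_neg hu, if_neg (fun h => hu (e3.1 h))]
  · rw [rho_off _ ha, rho_off]
    intro h
    apply ha
    have := hD.conj_mem (x⁻¹ : G) (L.inv_mem x.2) _ h
    rw [hx] at this
    simpa [mul_assoc] using this

variable [Fintype L]

theorem dade_duality (hD : DadeHypothesis A L R) {α : L → ℂ} (hα : IsClassFunction L α)
    (hαA : ∀ x : L, (x : G) ∉ A → α x = 0) {χ : G → ℂ} (hχ : IsClassFunction G χ) :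
    classInner (dadeIsometry A L R α) χ = classInner α (rho A L R χ) := by
  classical
  exact dade_inner hD α hα hαA χ hχ _ (fun a ha => rho_apply χ ha)

omit [Fintype L] in
/-- `rho` inverts the Dade map on class functions supported in `A` -/
theorem rho_dade (hD : DadeHypothesis A L R) {α : L → ℂ} (hα : IsClassFunction L α)
    (hαA : ∀ x : L, (x : G) ∉ A → α x = 0) : rho A L R (dadeIsometry A L R α) = α := by
  funext a
  by_cases ha : (a : G) ∈ A
  · exact rho_const ha (fun u hu => dade_apply hD hα ha (x := 1) hu (by simp))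
  · rw [rho_off _ ha, hαA a ha]

theorem dade_isometry (hD : DadeHypothesis A L R) {α β : L → ℂ} (hα : IsClassFunction L α)
    (hαA : ∀ x : L, (x : G) ∉ A → α x = 0) (hβ : IsClassFunction L β)
    (hβA : ∀ x : L, (x : G) ∉ A → β x = 0) :
    classInner (dadeIsometry A L R α) (dadeIsometry A L R β) = classInner α β := by
  rw [dade_duality hD hα hαA (dade_classFun hD hβ), rho_dade hD hβ hβA]

theorem zspan_gen {X : Type u} [Group X] {S : Set (X → ℂ)}
    (hS : ∀ φ ∈ S, IsGeneralizedCharacter X φ) {α : X → ℂ} (hα : α ∈ zspan S) :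
    IsGeneralizedCharacter X α :=
  zspan_induction (P := IsGeneralizedCharacter X) hS isGen_zero
    (fun _ _ _ _ h h' => isGen_add h h') (fun n _ _ h => isGen_zsmul n h) hα

theorem zspan_vanish {X : Type u} {S : Set (X → ℂ)} {x : X} (hS : ∀ φ ∈ S, φ x = 0)
    {α : X → ℂ} (hα : α ∈ zspan S) : α x = 0 :=
  zspan_induction (P := fun α => α x = 0) hS rfl
    (fun _ _ _ _ h h' => by rw [Pi.add_apply, h, h', add_zero])
    (fun n _ _ h => by rw [Pi.smul_apply, h, smul_zero]) hα

/-- the Dade map is an isometry on lattices of virtual characters supported in `A` -/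
theorem dade_isoOn (hD : DadeHypothesis A L R) {E : Set (L → ℂ)}
    (hE : ∀ α ∈ E, IsGeneralizedCharacter L α ∧ ∀ x : L, (x : G) ∉ A → α x = 0) :
    IsLinearIsometryOn E (dadeIsometry A L R) := by
  refine ⟨fun α _ β _ => dade_add α β, fun α _ n => dade_zsmul n α, fun α hα β hβ => ?_,
    fun α hα => dade_gen hD (hE α hα).1 (hE α hα).2⟩
  exact dade_isometry hD (isGen_classFun (hE α hα).1) (hE α hα).2 (isGen_classFun (hE β hβ).1)
    (hE β hβ).2

end

/-- coherence only depends on the values of `τ` on the lattice vanishing at `1` -/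
theorem coherent_congr {X : Type*} [Group X] [Fintype X] {Y : Type*} [Group Y] [Fintype Y]
    {S : Set (X → ℂ)} {B : Set X} {τ τ' : (X → ℂ) → (Y → ℂ)}
    (h : ∀ α ∈ zspanOn S B, τ α = τ' α) (hc : IsCoherent S B τ) : IsCoherent S B τ' := by
  obtain ⟨h1, τ₁, h2, h3⟩ := hc
  exact ⟨h1, τ₁, h2, fun α hα => by rw [h3 α hα, h α hα]⟩

theorem conjFun_ne_of_odd {X : Type*} [Group X] [Finite X] (hodd : Odd (Nat.card X)) {χ : X → ℂ}
    (hχ : IsIrrCharacter X χ) (h1 : χ ≠ fun _ => 1) : conjFun χ ≠ χ := by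
  intro h
  exact h1 (irr_real_of_odd hodd ⟨χ, hχ⟩ (Subtype.ext h))

end Cfsg.Agent.T1
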