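import Cfsg.Agent.H7.T1A
import Cfsg.Agent.PF.TypeF
import Cfsg.Agent.H23.Coprime4
import Cfsg.Agent.H21.OTUtil2
import Cfsg.Agent.OOT.Rank
import Cfsg.Agent.H1.Coprime2
import Cfsg.Agent.S1496
import Cfsg.Agent.S1536

set_option autoImplicit false

/-! Frobenius groups `X` with nilpotent Hall kernel `H`: characters induced from `H`. -/

namespace Cfsg.Agent.T1

open Cfsg Subgroup
open Cfsg.Agent.L (nz SylIn)
open Cfsg.Agent.OOT
open Cfsg.Agent.H21
open scoped ComplexConjugate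

universe u

section free
variable {G : Type u} [Group G] [Finite G]

/-- fixed-point-free coprime action excludes rank two -/
theorem free_not_ea {H E A : Subgroup G} (hn : E ≤ nz H) (hc : (Nat.card E).Coprime (Nat.card H))
    (hH : H ≠ ⊥) (hf : ∀ e ∈ E, e ≠ 1 → ∀ x ∈ H, e * x = x * e → x = 1) (hA : A ≤ E)
    (hAc : IsMulCommutative A) : IsCyclic A := by
  by_contra hnc
  have h1 := H23.iSup_centralizer_of_not_isCyclic (G := H) hAc hnc (hA.trans hn)
    (Nat.Coprime.coprime_dvd_left (Subgroup.card_dvd_of_le hA) hc)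
  apply hH
  rw [← h1, iSup_eq_bot]
  rintro ⟨a, ha, ha1⟩
  rw [Subgroup.eq_bot_iff_forall]
  rintro x ⟨hx, hxc⟩
  exact hf a (hA ha) ha1 x hx (mem_cent_singleton.1 hxc).symm

theorem free_rankLE {H E : Subgroup G} (hn : E ≤ nz H) (hc : (Nat.card E).Coprime (Nat.card H))
    (hH : H ≠ ⊥) (hf : ∀ e ∈ E, e ≠ 1 → ∀ x ∈ H, e * x = x * e → x = 1) : RankLE 1 E := by
  intro p hp
  haveI : Fact p.Prime := ⟨hp⟩
  by_contra h
  obtain ⟨A, hA, hEA, hcard⟩ := exists_ea_of_not_pRankLE h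
  have hAc : IsMulCommutative A := hEA.1
  exact not_cyclic_of_ea_sq hp hEA hcard (free_not_ea hn hc hH hf hA hAc)

theorem free_exponent {H E : Subgroup G} (hodd : Odd (Nat.card E)) (hn : E ≤ nz H)
    (hc : (Nat.card E).Coprime (Nat.card H)) (hH : H ≠ ⊥)
    (hf : ∀ e ∈ E, e ≠ 1 → ∀ x ∈ H, e * x = x * e → x = 1) :
    Monoid.exponent E = Nat.card E := by
  haveI := isZGroup_of_rankLE_one hodd (free_rankLE hn hc hH hf)
  exact IsZGroup.exponent_eq_card E

end free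

section frob
variable {X : Type u} [Group X] [Finite X] {H : Subgroup X} [hN : H.Normal]

/-- an element centralizing `k` modulo `H'`, `k ∈ H ∖ H'`, lies in `H` -/
theorem frob_mod_derived (hHall : (Nat.card H).Coprime H.index)
    (hC : ∀ h ∈ H, h ≠ 1 → centralizer ({h} : Set X) ≤ H) {k x : X} (hk : k ∈ H)
    (hk' : k ∉ ⁅H, H⁆) (hx : x * k * x⁻¹ * k⁻¹ ∈ ⁅H, H⁆) : x ∈ H := by
  by_contra hxH
  -- the subgroup centralizing `k` modulo `H'`
  have hD : (⁅H, H⁆ : Subgroup X).Normal := inferInstance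
  set y : X := x ^ Nat.card H with hy
  have hyH : y ∉ H := by
    intro h
    apply hxH
    have h1 : orderOf (QuotientGroup.mk' H x) ∣ Nat.card H := by
      apply orderOf_dvd_of_pow_eq_one
      rw [← map_pow]
      exact (QuotientGroup.eq_one_iff _).2 h
    have h2 : orderOf (QuotientGroup.mk' H x) ∣ H.index := orderOf_dvd_natCard _
    have h3 := Nat.eq_one_of_dvd_coprimes hHall h1 h2
    rw [orderOf_eq_one_iff] at h3
    exact (QuotientGroup.eq_one_iff x).1 h3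
  have hyo : (orderOf y).Coprime (Nat.card H) := by
    have h1 : orderOf y ∣ H.index := by
      apply orderOf_dvd_of_pow_eq_one
      rw [hy, ← pow_mul, Subgroup.card_mul_index]
      exact pow_card_eq_one'
    exact (Nat.Coprime.coprime_dvd_right h1 hHall).symm
  have hyk : y * k * y⁻¹ * k⁻¹ ∈ ⁅H, H⁆ := by
    have h1 : QuotientGroup.mk' (⁅H, H⁆) x * QuotientGroup.mk' (⁅H, H⁆) k =
        QuotientGroup.mk' (⁅H, H⁆) k * QuotientGroup.mk' (⁅H, H⁆) x := by
      have h2 := (QuotientGroup.eq_one_iff (N := ⁅H, H⁆) _).2 hx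
      have h3 : QuotientGroup.mk' (⁅H, H⁆) (x * k * x⁻¹ * k⁻¹) = 1 := h2
      rw [map_mul, map_mul, map_mul, map_inv, map_inv, mul_inv_eq_one, mul_inv_eq_iff_eq_mul] at h3
      exact h3
    have h4 : Commute (QuotientGroup.mk' (⁅H, H⁆) x ^ Nat.card H) (QuotientGroup.mk' (⁅H, H⁆) k) :=
      (show Commute _ _ from h1).pow_left _
    have h5 : QuotientGroup.mk' (⁅H, H⁆) (y * k * y⁻¹ * k⁻¹) = 1 := by
      rw [map_mul, map_mul, map_mul, map_inv, map_inv, mul_inv_eq_one, mul_inv_eq_iff_eq_mul, hy,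
        map_pow]
      exact h4
    exact (QuotientGroup.eq_one_iff _).1 h5
  -- `k y k⁻¹ ∈ H' y`
  have h6 : k * y * k⁻¹ * y⁻¹ ∈ ⁅H, H⁆ := by
    have := (⁅H, H⁆ : Subgroup X).inv_mem hyk
    have e : (y * k * y⁻¹ * k⁻¹)⁻¹ = k * y * k⁻¹ * y⁻¹ := by group
    rwa [e] at this
  have hDH : (⁅H, H⁆ : Subgroup X) ≤ H := Subgroup.commutator_le_left H H
  obtain ⟨x₀, hx₀, c, hc, hcy, he⟩ := S1496.result (⁅H, H⁆ : Subgroup X) y
    (by rw [Subgroup.normalizer_eq_top_iff.2 hD]; trivial)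
    (Nat.Coprime.coprime_dvd_right (Subgroup.card_dvd_of_le hDH) hyo) _ h6
  have he' : (x₀ * k) * y * (x₀ * k)⁻¹ = c * y := by
    rw [← he]; group
  have hc1 : c = 1 := by
    have h7 : (c * y) ^ orderOf y = 1 := by
      rw [← he', conj_pow, pow_orderOf_eq_one]; group
    rw [(show Commute c y from hcy).mul_pow, pow_orderOf_eq_one, mul_one] at h7
    have h8 : orderOf c ∣ orderOf y := orderOf_dvd_of_pow_eq_one h7
    have h9 : orderOf c ∣ Nat.card H := by
      have h10 := orderOf_dvd_natCard (⟨c, hDH hc⟩ : H)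
      rwa [← Subgroup.orderOf_coe] at h10
    exact orderOf_eq_one_iff.1 (Nat.eq_one_of_dvd_coprimes hyo h8 h9)
  rw [hc1, one_mul] at he'
  have h11 : x₀ * k ∈ H := H.mul_mem (hDH hx₀) hk
  have h12 : x₀ * k ≠ 1 := by
    intro e
    apply hk'
    have : k = x₀⁻¹ := by rw [eq_inv_iff_mul_eq_one]; exact (mul_eq_one_comm.1 e)
    rw [this]; exact (⁅H, H⁆ : Subgroup X).inv_mem hx₀
  refine hyH (hC _ h11 h12 ?_)
  rw [mem_cent_singleton]
  rw [mul_inv_eq_iff_eq_mul] at he'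
  exact he'.symm

end frob

section chars
variable {X : Type u} [Group X] [Fintype X] {H : Subgroup X} [hN : H.Normal]

open Cfsg.Agent.H3 (inertia cj)

theorem inertia_le_of_frob (hHall : (Nat.card H).Coprime H.index)
    (hC : ∀ h ∈ H, h ≠ 1 → centralizer ({h} : Set X) ≤ H) {θ : H → ℂ} (hθ : IsIrrCharacter H θ)
    (h1 : θ ≠ fun _ => 1) : inertia hN θ ≤ H := by
  intro x hx
  obtain ⟨h, hh, hh1, he⟩ := (S1536.result H hHall x).1 ⟨θ, hθ, h1, hx⟩
  exact hC h hh hh1 (mem_cent_singleton.2 he)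

theorem above_irr (hHall : (Nat.card H).Coprime H.index)
    (hC : ∀ h ∈ H, h ≠ 1 → centralizer ({h} : Set X) ≤ H) {χ : X → ℂ}
    (hχ : χ ∈ inducedIrrAbove H ⊥) : IsIrrCharacter X χ := by
  obtain ⟨θ, hθ, h1, -, rfl⟩ := hχ
  exact H3.isIrr_ind_of_inertia_eq hN hθ (inertia_le_of_frob hHall hC hθ h1)

omit [Fintype X] in
theorem above_vanish [Fintype X] {A : Subgroup X} {χ : X → ℂ} (hχ : χ ∈ inducedIrrAbove H A) {x : X}
    (hx : x ∉ H) : χ x = 0 := by
  obtain ⟨θ, hθ, h1, -, rfl⟩ := hχ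
  exact H3.indFun_not_mem_normal hN θ hx

theorem above_ne_one {A : Subgroup X} (hH : H ≠ ⊤) {χ : X → ℂ} (hχ : χ ∈ inducedIrrAbove H A) :
    χ ≠ fun _ => 1 := by
  rintro rfl
  obtain ⟨x, hx⟩ : ∃ x, x ∉ H := by
    by_contra h
    push_neg at h
    exact hH ((Subgroup.eq_top_iff' _).2 h)
  exact one_ne_zero (above_vanish hχ hx)

end chars

end Cfsg.Agent.T1
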