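import Cfsg.Agent.S1351
import Cfsg.Agent.S1352
import Cfsg.Agent.S1355
import Cfsg.Agent.S1357
import Cfsg.Agent.S1379
import Cfsg.Agent.H14.Types
import Cfsg.Agent.S1526

set_option autoImplicit false

/-! rows used for Peterfalvi section 12 -/

namespace Cfsg.Agent.T1.BB

alias S1351 := Cfsg.Agent.S1351.result
alias S1352 := Cfsg.Agent.S1352.result
alias S1355 := Cfsg.Agent.S1355.result
alias S1357 := Cfsg.Agent.S1357.result
alias S1379 := Cfsg.Agent.S1379.result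
alias S1526 := Cfsg.Agent.S1526.result

theorem S1381 {G : Type*} [Group G] [Finite G] (hG : Cfsg.IsMinSimpleOddOrder G)
    (M : Subgroup G) (hM : IsCoatom M) (K U : Subgroup G) (hKU : Cfsg.IsSigmaDecomposition M K U) :
    Cfsg.IsOfTypeII M ↔ (K ≠ ⊥ ∧ U ≠ ⊥) := H14.TY.typeII_iff hG hM hKU

theorem S1382 {G : Type*} [Group G] [Finite G] (hG : Cfsg.IsMinSimpleOddOrder G)
    (M : Subgroup G) (hM : IsCoatom M) (K U : Subgroup G) (hKU : Cfsg.IsSigmaDecomposition M K U) :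
    (Cfsg.IsOfTypeIII M ∨ Cfsg.IsOfTypeIV M) ↔
      (K ≠ ⊥ ∧ U = ⊥ ∧ Cfsg.fittingHallOf M ≠ Cfsg.sigmaCore M) := H14.TY.typeIII_IV_iff hG hM hKU

theorem S1383 {G : Type*} [Group G] [Finite G] (hG : Cfsg.IsMinSimpleOddOrder G)
    (M : Subgroup G) (hM : IsCoatom M) (K U : Subgroup G) (hKU : Cfsg.IsSigmaDecomposition M K U) :
    Cfsg.IsOfTypeV M ↔ (K ≠ ⊥ ∧ U = ⊥ ∧ Cfsg.fittingHallOf M = Cfsg.sigmaCore M) :=
  H14.TY.typeV_iff hG hM hKU

end Cfsg.Agent.T1.BB
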