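import Cfsg.Agent.H2.WType
import Cfsg.Agent.H21.OT16e
import Cfsg.Agent.H14.Types
import Cfsg.Agent.H7.T1B

set_option autoImplicit false

/-! Weak forms of rows S1380, S1390, S1391 for weak type I (to be replaced by the proved versions),
and the Dade hypothesis deduced from them. -/

namespace Cfsg.Agent.T1

open Cfsg Subgroup
open Cfsg.Agent.L (cj nz SylIn)
open Cfsg.Agent.OOT
open Cfsg.Agent.H21
open Cfsg.Agent.H2 (WTypeI wA wA_eq WTypeI.of_typeI)

universe u

variable {G : Type u} [Group G]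

namespace BW

/-- weak form of S1380 -/
theorem row1380w [Finite G] (hG : IsMinSimpleOddOrder G) (M : Subgroup G) (hM : IsCoatom M)
    (K U : Subgroup G) (hKU : IsSigmaDecomposition M K U) : WTypeI M ↔ (K = ⊥ ∧ U ≠ ⊥) := by
  exact H14.TY.typeI_iff hG hM hKU

/-- weak form of S1390 (type I) -/
theorem row1390w [Finite G] (hG : IsMinSimpleOddOrder G) (M : Subgroup G) (hM : IsCoatom M)
    (hW : WTypeI M) (U : Subgroup G) (hU : IsComplIn (fittingHallOf M) U M) :
    (∀ (p : ℕ), p.Prime → ∀ P : Sylow p U, IsMulCommutative (P : Subgroup U) ∧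
      PRankLE p 2 (P : Subgroup U)) ∧
    (∀ X : Set G, X ⊆ (U : Set G) \ {1} → X.Nonempty → fittingHallOf M ⊓ centralizer X ≠ ⊥ →
        centralizer X ≤ M ∧ ∀ L : Subgroup G, IsCoatom L → centralizer X ≤ L → L = M) := by
  exact H21.row1390w hG hM hW hU

/-- weak form of S1391 for `X = A(M)`, `M` of weak type I -/
theorem row1391w [Finite G] (hG : IsMinSimpleOddOrder G) (M : Subgroup G) (hM : IsCoatom M)
    (hW : WTypeI M) :
    (∀ x ∈ wA M, ∀ g : G, g * x * g⁻¹ ∈ wA M → ∃ m ∈ M, m * x * m⁻¹ = g * x * g⁻¹) ∧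
    (∀ x ∈ wA M, ¬ centralizer ({x} : Set G) ≤ M →
      x ∈ typeA1 M ∧ ∃! L : Subgroup G, IsCoatom L ∧ centralizer ({x} : Set G) ≤ L) ∧
    ∀ x ∈ wA M, ¬ centralizer ({x} : Set G) ≤ M → ∀ L : Subgroup G, IsCoatom L →
        centralizer ({x} : Set G) ≤ L →
        IsComplIn (fittingHallOf L) (M ⊓ L) L ∧
        centralizer ({x} : Set G) ≤
          normalizer ((fittingHallOf L ⊓ centralizer ({x} : Set G) : Subgroup G) : Set G) ∧
        IsComplIn (fittingHallOf L ⊓ centralizer ({x} : Set G)) (M ⊓ centralizer ({x} : Set G))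
          (centralizer ({x} : Set G)) ∧
        (∀ y ∈ wA M, (Nat.card (fittingHallOf L)).Coprime
          (Nat.card ↥(M ⊓ centralizer ({y} : Set G)))) ∧
        x ∉ typeA1 L ∧
        ((WTypeI L ∧ x ∈ wA L) ∨ (IsOfTypeII L ∧ x ∈ typeA L)) ∧
        (IsOfTypeII L → ∃ E : Subgroup ↥M, IsFrobeniusComplement E ∧
          frobeniusKernel E = ((fittingHall ↥M : Subgroup ↥M) : Set ↥M)) := by
  exact H21.row1391w hG hM hW

end BW

theorem mem_wA_iff {M : Subgroup G} {a : M} :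
    (a : G) ∈ wA M ↔ a ≠ 1 ∧ ∃ h ∈ fittingHall M, h ≠ 1 ∧ a * h = h * a := by
  constructor
  · rintro ⟨-, h1, x, ⟨y, hy, rfl⟩, hx1, e⟩
    exact ⟨fun e => h1 (congrArg Subtype.val e), y, hy, fun e => hx1 (congrArg Subtype.val e),
      Subtype.ext e⟩
  · rintro ⟨h1, h, hh, hh1, e⟩
    exact ⟨a.2, fun e => h1 (Subtype.ext e), h, ⟨h, hh, rfl⟩, fun e => hh1 (Subtype.ext e),
      congrArg Subtype.val e⟩

theorem one_not_wA {M : Subgroup G} : (1 : G) ∉ wA M := fun h => h.2.1 rfl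

theorem wA_conj {M : Subgroup G} {a m : G} (hm : m ∈ M) (ha : a ∈ wA M) : m * a * m⁻¹ ∈ wA M := by
  obtain ⟨h1, h2, x, ⟨y, hy, rfl⟩, hx1, e⟩ := ha
  refine ⟨mul_mem (mul_mem hm h1) (inv_mem hm), ?_, _,
    ⟨_, (inferInstance : (fittingHall M).Normal).conj_mem y hy ⟨m, hm⟩, rfl⟩, ?_, ?_⟩
  · intro e1
    apply h2
    have : a = m⁻¹ * (m * a * m⁻¹) * m := by group
    rw [this, e1]; group
  · intro e1
    apply hx1
    have e2 : m * (y : G) * m⁻¹ = 1 := e1
    have : (y : G) = m⁻¹ * (m * y * m⁻¹) * m := by group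
    change (y : G) = 1
    rw [this, e2]; group
  · change m * a * m⁻¹ * (m * y * m⁻¹) = m * y * m⁻¹ * (m * a * m⁻¹)
    have e' : a * y = y * a := e
    have : m * a * m⁻¹ * (m * y * m⁻¹) = m * (a * y) * m⁻¹ := by group
    rw [this, e']; group

/-- if `C_G(x)` lies in a unique maximal subgroup, this is `R(x)` -/
theorem supportR_eq {M L : Subgroup G} {x : G} (hx : ¬ centralizer ({x} : Set G) ≤ M)
    (hL : IsCoatom L) (hxL : centralizer ({x} : Set G) ≤ L)
    (hu : ∃! L : Subgroup G, IsCoatom L ∧ centralizer ({x} : Set G) ≤ L) :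
    supportR M x = fittingHallOf L ⊓ centralizer ({x} : Set G) := by
  rw [supportR, dif_pos ⟨hx, hu⟩]
  have h1 := Classical.choose_spec hu.exists
  have h2 := hu.unique h1 ⟨hL, hxL⟩
  rw [h2]

theorem supportR_eq_bot' {M : Subgroup G} {a : G} (h : centralizer ({a} : Set G) ≤ M) :
    supportR M a = ⊥ := by
  rw [supportR, dif_neg]
  rintro ⟨h1, -⟩
  exact h1 h

section
variable [Finite G] (hG : IsMinSimpleOddOrder G) {M : Subgroup G} (hM : IsCoatom M)
include hG hM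

theorem wdade (hW : WTypeI M) : DadeHypothesis (wA M) M (supportR M) := by
  obtain ⟨h1, h2, h3⟩ := BW.row1391w hG M hM hW
  have key : ∀ a ∈ wA M, centralizer ({a} : Set G) ≤ M ∧ supportR M a = ⊥ ∨
      ¬ centralizer ({a} : Set G) ≤ M ∧ ∃ L : Subgroup G, IsCoatom L ∧
        centralizer ({a} : Set G) ≤ L ∧
        supportR M a = fittingHallOf L ⊓ centralizer ({a} : Set G) := by
    intro a ha
    by_cases hc : centralizer ({a} : Set G) ≤ M
    · exact Or.inl ⟨hc, supportR_eq_bot' hc⟩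
    · obtain ⟨-, hu⟩ := h2 a ha hc
      obtain ⟨L, hL, hLa⟩ := hu.exists
      exact Or.inr ⟨hc, L, hL, hLa, supportR_eq hc hL hLa hu⟩
  refine ⟨one_not_wA, fun x hx => hx.1, fun x hx a ha => wA_conj hx ha, h1, ?_, ?_, ?_, ?_, ?_⟩
  · intro a ha
    rcases key a ha with ⟨-, h⟩ | ⟨-, L, -, -, h⟩ <;> rw [h]
    · exact bot_le
    · exact inf_le_right
  · intro a ha c hc u hu
    rcases key a ha with ⟨-, h⟩ | ⟨hc', L, hL, hLa, h⟩ <;> rw [h] at hu ⊢
    · rw [mem_bot] at hu ⊢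
      rw [hu]; group
    · have := (h3 a ha hc' L hL hLa).2.1 hc
      exact (mem_normalizer_iff.1 this u).1 hu
  · intro a ha
    rcases key a ha with ⟨-, h⟩ | ⟨hc', L, hL, hLa, h⟩ <;> rw [h]
    · exact bot_inf_eq _
    · exact (h3 a ha hc' L hL hLa).2.2.1.2.2.1
  · intro a ha
    rcases key a ha with ⟨hc', h⟩ | ⟨hc', L, hL, hLa, h⟩ <;> rw [h]
    · rw [bot_sup_eq]; exact inf_eq_right.2 hc'
    · obtain ⟨k1, k2, k3, k4⟩ := (h3 a ha hc' L hL hLa).2.2.1
      apply le_antisymm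
      · exact sup_le inf_le_right inf_le_right
      · intro x hx
        obtain ⟨u, hu, v, hv, rfl⟩ := k4 x hx
        exact mul_mem (mem_sup_left hu) (mem_sup_right hv)
  · intro a ha b hb
    rcases key a ha with ⟨hc', h⟩ | ⟨hc', L, hL, hLa, h⟩ <;> rw [h]
    · rw [card_bot]; exact Nat.coprime_one_left _
    · exact Nat.Coprime.coprime_dvd_left (card_dvd_of_le inf_le_left)
        ((h3 a ha hc' L hL hLa).2.2.2.1 b hb)

theorem tdade (hI : IsOfTypeI M) : DadeHypothesis (typeA M) M (supportR M) := by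
  rw [wA_eq hI]
  exact wdade hG hM (WTypeI.of_typeI hI)

end

end Cfsg.Agent.T1
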