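import Cfsg.Agent.H7.T1B
import Cfsg.Agent.S1517
import Cfsg.Agent.S1521
import Cfsg.Agent.S1524
import Cfsg.Agent.H7.T1W

set_option autoImplicit false

/-! Coherence for Frobenius maximal subgroups of type I (row S1542). -/

namespace Cfsg.Agent.T1

open Cfsg Subgroup
open Cfsg.Agent.L (nz SylIn)
open Cfsg.Agent.OOT
open Cfsg.Agent.H21
open Cfsg.Agent.H3 (zspanOn_one)
open scoped ComplexConjugate

universe u

namespace BBc
alias S1524 := Cfsg.Agent.S1524.result
end BBc

variable {G : Type u} [Group G]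

/-- the maximal subgroup `M` acts as a Frobenius group with kernel `M_F` -/
def FrobI (M : Subgroup G) : Prop :=
  ∀ x ∈ fittingHallOf M, x ≠ 1 → M ⊓ centralizer ({x} : Set G) ≤ fittingHallOf M

theorem mem_fhOf {M : Subgroup G} {x : M} : (x : G) ∈ fittingHallOf M ↔ x ∈ fittingHall M := by
  constructor
  · rintro ⟨y, hy, e⟩
    rwa [← Subtype.ext (show (y : G) = x from e)]
  · exact fun h => ⟨x, h, rfl⟩

theorem FrobI.sub {M : Subgroup G} (h : FrobI M) {x : M} (hx : x ∈ fittingHall M) (hx1 : x ≠ 1) :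
    centralizer ({x} : Set M) ≤ fittingHall M := by
  intro y hy
  rw [← mem_fhOf]
  refine h x (mem_fhOf.2 hx) (fun e => hx1 (Subtype.ext e)) ⟨y.2, ?_⟩
  exact mem_cent_singleton.2 (congrArg Subtype.val (mem_cent_singleton.1 hy))

theorem typeA_of_frob {M : Subgroup G} (hI : IsOfTypeI M) (h : FrobI M) :
    typeA M = {a | a ∈ fittingHallOf M ∧ a ≠ 1} := by
  ext a
  rw [typeA, if_pos hI]
  constructor
  · rintro ⟨h1, h2, x, hx, hx1, e⟩
    exact ⟨h x hx hx1 ⟨h1, mem_cent_singleton.2 e⟩, h2⟩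
  · rintro ⟨h1, h2⟩
    exact ⟨fhOf_le M h1, h2, a, h1, h2, rfl⟩

theorem mem_typeA_of_frob {M : Subgroup G} (hI : IsOfTypeI M) (h : FrobI M) {a : M} :
    (a : G) ∈ typeA M ↔ a ∈ fittingHall M ∧ a ≠ 1 := by
  rw [typeA_of_frob hI h]
  constructor
  · rintro ⟨h1, h2⟩; exact ⟨mem_fhOf.1 h1, fun e => h2 (congrArg Subtype.val e)⟩
  · rintro ⟨h1, h2⟩; exact ⟨mem_fhOf.2 h1, fun e => h2 (Subtype.ext e)⟩

theorem supportR_eq_bot {M : Subgroup G} {a : G} (h : centralizer ({a} : Set G) ≤ M) :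
    supportR M a = ⊥ := by
  rw [supportR, dif_neg (fun h' => h'.1 h)]

section
variable [Fintype G]

omit [Fintype G] in
/-- members of the lattice are virtual characters supported in `H#` -/
theorem lattice_frob {M : Subgroup G} [Fintype M] (hI : IsOfTypeI M) (h : FrobI M) {α : M → ℂ}
    (hα : α ∈ zspanOn (inducedIrrAbove (fittingHall M) ⊥) ({1}ᶜ : Set M)) :
    IsGeneralizedCharacter M α ∧ ∀ x : M, (x : G) ∉ typeA M → α x = 0 := by
  obtain ⟨h1, h2⟩ := zspanOn_one.1 hα
  refine ⟨zspan_gen ?_ h1, fun x hx => ?_⟩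
  · rintro _ ⟨θ, hθ, -, -, rfl⟩
    exact H3.isGen_ind _ (H3.isGen_of_irr hθ)
  · by_cases hx1 : x = 1
    · rw [hx1, h2]
    · refine zspan_vanish (fun φ hφ => above_vanish hφ ?_) h1
      intro hxH
      exact hx ((mem_typeA_of_frob hI h).2 ⟨hxH, hx1⟩)

theorem frob_system (hG : IsMinSimpleOddOrder G) {M : Subgroup G} [Fintype M] (hM : IsCoatom M)
    (hI : IsOfTypeI M) (h : FrobI M) : ∃ R, IsCoherenceSystem (inducedIrrAbove (fittingHall M) ⊥)
      (dadeIsometry (typeA M) M (supportR M)) R := by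
  have hD := tdade hG hM hI
  have hHall : (Nat.card (fittingHall M)).Coprime (fittingHall M).index := fittingHall_coprime M
  have hC : ∀ x ∈ fittingHall M, x ≠ 1 → centralizer ({x} : Set M) ≤ fittingHall M :=
    fun x hx hx1 => h.sub hx hx1
  obtain ⟨-, -, hne, hnt, -⟩ := hI.1
  refine H3.irr_system ?_ (fun χ hχ => above_irr hHall hC hχ) (fun χ hχ => ⟨H3.conj_above hχ, ?_⟩)
    (dade_isoOn hD (fun α hα => lattice_frob hI h hα)) (fun α _ => dade_one hD α)
  · exact H3.exists_above inferInstance inferInstance (bot_lt_iff_ne_bot.2 hne)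
  · exact conjFun_ne_of_odd (odd_sub hG M) (above_irr hHall hC hχ) (above_ne_one hnt hχ)

end

theorem cent_le_of_TI (hG : IsMinSimpleOddOrder G) [Finite G] {M : Subgroup G} (hM : IsCoatom M)
    (hne : fittingHallOf M ≠ ⊥) (hTI : IsTISubset (fittingHallOf M : Set G)) {a : G}
    (ha : a ∈ fittingHallOf M) (ha1 : a ≠ 1) : centralizer ({a} : Set G) ≤ M := by
  have hN : nz (fittingHallOf M) = M := coatom_normalizer_eq hG hM hne (fhOf_le M)
    (le_normalizer_fhOf M)
  intro c hc
  by_contra hcM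
  refine ha1 (hTI c (by change c ∉ nz _; rw [hN]; exact hcM) a ha ?_)
  rw [mem_cent_singleton] at hc
  rw [hc, mul_inv_cancel_right]
  exact ha

theorem fhOf_subgroupOf (M : Subgroup G) : (fittingHallOf M).subgroupOf M = fittingHall M :=
  Subgroup.comap_map_eq_self_of_injective M.subtype_injective _

theorem fhOf_ne_bot {M : Subgroup G} (h : fittingHall M ≠ ⊥) : fittingHallOf M ≠ ⊥ := by
  intro e
  exact h ((Subgroup.map_eq_bot_iff_of_injective _ M.subtype_injective).1 e)

theorem ti_dade_eq_ind (hG : IsMinSimpleOddOrder G) [Fintype G] {M : Subgroup G} [Fintype M]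
    (hM : IsCoatom M) (hI : IsOfTypeI M) (h : FrobI M)
    (hTI : IsTISubset (fittingHallOf M : Set G)) {α : M → ℂ}
    (hα : IsClassFunction M α) (hαA : ∀ x : M, (x : G) ∉ typeA M → α x = 0) :
    indFun M α = dadeIsometry (typeA M) M (supportR M) α := by
  have hD := tdade hG hM hI
  obtain ⟨-, -, hne, hnt, -⟩ := hI.1
  have hne' := fhOf_ne_bot hne
  have hN : nz (fittingHallOf M) = M := coatom_normalizer_eq hG hM hne' (fhOf_le M)
    (le_normalizer_fhOf M)
  have hTI' : ∀ g : G, g ∉ M → ∀ t ∈ (fittingHallOf M : Set G),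
      g * t * g⁻¹ ∈ (fittingHallOf M : Set G) → t = 1 := fun g hg t ht h' =>
    hTI g (by change g ∉ nz _; rw [hN]; exact hg) t ht h'
  have hvan : ∀ x : M, (x : G) ∉ (fittingHallOf M : Set G) → α x = 0 := by
    intro x hx
    apply hαA
    rw [typeA_of_frob hI h]
    exact fun h' => hx h'.1
  funext g
  by_cases hg : ∃ (a : M), (a : G) ∈ typeA M ∧ ∃ x : G, x * g * x⁻¹ = a
  · obtain ⟨a, ha, x, hx⟩ := hg
    rw [H11.PF.dade_apply hD hα ha (x := x) (u := 1) (one_mem _) (by rw [hx, mul_one]),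
      ← H3.indFun_classFun M α g x, hx]
    have ha' := (mem_typeA_of_frob hI h).1 ha
    exact H3.indFun_eq_of_TI M _ hTI' α hα hvan a (mem_fhOf.2 ha'.1)
      ha'.2
  · rw [H11.PF.dade_zero hD]
    · rw [indFun]
      refine mul_eq_zero_of_right _ (Finset.sum_eq_zero fun x _ => ?_)
      by_cases hx : x⁻¹ * g * x ∈ M
      · rw [H3.extendByZero_mem M α hx]
        apply hαA
        intro h'
        exact hg ⟨_, h', x⁻¹, by simp⟩
      · exact H3.extendByZero_not_mem M α hx
    · rintro ⟨a, ha, x, u, hu, e⟩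
      have ha' := ha
      rw [typeA_of_frob hI h] at ha'
      rw [supportR_eq_bot (cent_le_of_TI hG hM hne' hTI ha'.1 ha'.2), Subgroup.mem_bot] at hu
      exact hg ⟨a, ha, x, by rw [e, hu, mul_one]⟩

theorem isComplement'_of_complIn {M U : Subgroup G} (hU : IsComplIn (fittingHallOf M) U M) :
    Subgroup.IsComplement' (fittingHall M) (U.subgroupOf M) := by
  have := complIn_isComplement hU
  rwa [fhOf_subgroupOf] at this

theorem free_of_frob {M U : Subgroup G} (h : FrobI M) (hU : IsComplIn (fittingHallOf M) U M) :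
    ∀ e ∈ U, e ≠ 1 → ∀ x ∈ fittingHallOf M, e * x = x * e → x = 1 := by
  intro e he he1 x hx hex
  by_contra hx1
  have h1 : e ∈ fittingHallOf M := h x hx hx1 ⟨hU.2.1 he, mem_cent_singleton.2 hex⟩
  have h2 : e ∈ fittingHallOf M ⊓ U := ⟨h1, he⟩
  rw [hU.2.2.1] at h2
  exact he1 h2

theorem compl_exponent {M U : Subgroup G} (hU : IsComplIn (fittingHallOf M) U M) :
    Monoid.exponent (M ⧸ fittingHall M) = Monoid.exponent U := by
  have h1 := (isComplement'_of_complIn hU).symm.QuotientMulEquiv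
  have h2 : U.subgroupOf M ≃* U := Subgroup.subgroupOfEquivOfLe hU.2.1
  exact Monoid.exponent_eq_of_mulEquiv (h1.trans h2)

section final
variable [Fintype G]

theorem exponent_quotient (hG : IsMinSimpleOddOrder G) {M : Subgroup G} (hI : IsOfTypeI M)
    (h : FrobI M) : Monoid.exponent (M ⧸ fittingHall M) = (fittingHall M).index := by
  obtain ⟨V, hV1, hV, -⟩ := PF.typeF_exists hI.1
  rw [compl_exponent hV, free_exponent (odd_sub hG V) (H := fittingHallOf M)
    ((hV.2.1).trans (le_normalizer_fhOf M)) ?_ (fhOf_ne_bot hI.1.2.2.1) (free_of_frob h hV)]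
  · rw [← complIn_relIndex_left hV, relIndex_fhOf]
  · rw [← complIn_relIndex_left hV]
    exact (fhOf_coprime M).symm

theorem coherent_frob (hG : IsMinSimpleOddOrder G) (M : Subgroup G) [Fintype M] (hM : IsCoatom M)
    (hI : IsOfTypeI M) (h : FrobI M) :
    IsCoherent (inducedIrrAbove (fittingHall M) ⊥) {1}ᶜ
      (dadeIsometry (typeA M) M (supportR M)) := by
  obtain ⟨R, hR⟩ := frob_system hG hM hI h
  obtain ⟨hs, hodd, hne, hnt, -⟩ := hI.1
  have hHall : (Nat.card (fittingHall M)).Coprime (fittingHall M).index := fittingHall_coprime M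
  have hC : ∀ x ∈ fittingHall M, x ≠ 1 → centralizer ({x} : Set M) ≤ fittingHall M :=
    fun x hx hx1 => h.sub hx hx1
  have hnil : Group.IsNilpotent (fittingHall M) := fittingHall_nilpotent M
  rcases hI.2 with hTI | ⟨hab, -⟩ | ⟨hexp, -⟩
  · -- TI
    obtain ⟨V, hV1, hV, -⟩ := PF.typeF_exists hI.1
    have h1 := BBc.S1524 (fittingHallOf M) M V hodd (fhOf_le M) hV.2.1 (fhOf_ne_bot hne) hV1
      (fhOf_nilpotent M) (fun x hx a ha => (Subgroup.mem_normalizer_iff.1
        (le_normalizer_fhOf M hx) a).1 ha) hV.2.2.1 (complIn_sup hV) (free_of_frob h hV) hTI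
      (coatom_normalizer_eq hG hM (fhOf_ne_bot hne) (fhOf_le M) (le_normalizer_fhOf M))
    rw [fhOf_subgroupOf] at h1
    refine coherent_congr (fun α hα => ?_) h1
    obtain ⟨h2, h3⟩ := lattice_frob hI h hα
    exact ti_dade_eq_ind hG hM hI h hTI (H3.isGen_classFun h2) h3
  · -- abelian
    refine S1517.result _ _ R hR ?_
    have key : ∀ φ ∈ inducedIrrAbove (fittingHall M) ⊥, φ 1 = (fittingHall M).index := by
      rintro _ ⟨θ, hθ, -, -, rfl⟩
      have hab' : IsMulCommutative (fittingHall M) := by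
        rw [mulComm_iff] at hab ⊢
        intro a ha b hb
        exact Subtype.ext (hab a (mem_fhOf.2 ha) b (mem_fhOf.2 hb))
      rw [H3.indFun_one_apply, H3.irr_degree_one_of_comm hθ, mul_one]
    intro φ hφ ψ hψ
    rw [key φ hφ, key ψ hψ]
  · -- exponent
    have hbl : ⁅fittingHall M, fittingHall M⁆ < fittingHall M :=
      H1.commutator_lt_of_nilpotent hnil le_rfl (Subgroup.commutator_le_left _ _) hne
    have hsol : Group.IsSolvable (fittingHall M) := inferInstance
    refine S1521.result (fittingHall M) hsol _ R hR hodd ⊥ bot_le ?_ _ (by rw [sup_bot_eq]) hbl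
      (lt_top_iff_ne_top.2 hnt) (fun k hk hk' x hx => frob_mod_derived hHall hC hk hk' hx) ?_
    · infer_instance
    · by_cases hpp : ∃ p m : ℕ, p.Prime ∧ (⊥ : Subgroup M).relIndex (fittingHall M) = p ^ m
      · obtain ⟨p, m, hp, e⟩ := hpp
        refine Or.inr (Or.inr (Or.inr (Or.inr ⟨p, m, hp, e, ?_⟩)))
        rw [← exponent_quotient hG hI h]
        apply hexp p hp
        rw [Subgroup.relIndex_bot_left] at e
        rw [card_fhOf, e]
        apply dvd_pow_self
        rintro rfl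
        rw [pow_zero] at e
        exact hne (Subgroup.card_eq_one.1 e)
      · exact Or.inr (Or.inr (Or.inl hpp))

end final

end Cfsg.Agent.T1
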