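import Cfsg.Agent.H7.T1A
import Cfsg.Agent.H27.Util
import Cfsg.Agent.H27.Kernel
import Cfsg.Agent.H3.Gallagher2
import Cfsg.Agent.H3.Basic2

set_option autoImplicit false

/-! Averages over cosets of a normal subgroup; characters vanishing on free elements. -/

namespace Cfsg.Agent.T1

open Cfsg Subgroup Cfsg.Agent.H3
open scoped ComplexConjugate

universe u

section free
variable {X : Type u} [Group X] [Finite X] {H : Subgroup X}

/-- if `x` acts without fixed points on the normal subgroup `H`, all of `H x` is conjugate to `x` -/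
theorem conj_of_free (hH : H.Normal) {x : X} (hx : ∀ h ∈ H, x * h = h * x → h = 1) (n : X)
    (hn : n ∈ H) : ∃ h ∈ H, n * x = h * x * h⁻¹ := by
  let φ : H → H := fun h => ⟨h * (x * (h : X)⁻¹ * x⁻¹), H.mul_mem h.2
    (hH.conj_mem _ (H.inv_mem h.2) x)⟩
  have hφ : Function.Injective φ := by
    intro a b hab
    have h1 : (a : X) * (x * (a : X)⁻¹ * x⁻¹) = b * (x * (b : X)⁻¹ * x⁻¹) := congrArg Subtype.val hab
    have h2 : x * ((b : X)⁻¹ * a) = ((b : X)⁻¹ * a) * x := by
      have h3 : (a : X) * x * (a : X)⁻¹ = b * x * (b : X)⁻¹ := by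
        have := congrArg (· * x) h1
        simpa [mul_assoc] using this
      have h4 := congrArg (fun z => (b : X)⁻¹ * z * a) h3
      simp only [mul_assoc, inv_mul_cancel, mul_one, inv_mul_cancel_left] at h4
      rw [mul_assoc]
      exact h4.symm
    have h5 := hx _ (H.mul_mem (H.inv_mem b.2) a.2) h2
    exact Subtype.ext (inv_mul_eq_one.1 h5).symm
  obtain ⟨h, hh⟩ := (Finite.injective_iff_surjective.1 hφ) ⟨n, hn⟩
  refine ⟨h, h.2, ?_⟩
  have h1 : (h : X) * (x * (h : X)⁻¹ * x⁻¹) = n := congrArg Subtype.val hh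
  rw [← h1]; group

theorem classFun_const_of_free (hH : H.Normal) {x : X} (hx : ∀ h ∈ H, x * h = h * x → h = 1)
    {f : X → ℂ} (hf : IsClassFunction X f) {n : X} (hn : n ∈ H) : f (n * x) = f x := by
  obtain ⟨h, hh, e⟩ := conj_of_free hH hx n hn
  rw [e, hf]

end free

section X
variable {X : Type u} [Group X] [Fintype X] {H : Subgroup X}

theorem vanish_of_free (hH : H.Normal) {χ : X → ℂ} (hχ : IsIrrCharacter X χ)
    (hk : ∃ h ∈ H, χ h ≠ χ 1) {x : X} (hx : ∀ h ∈ H, x * h = h * x → h = 1) : χ x = 0 := by
  classical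
  obtain ⟨k, hk, hk1⟩ := hk
  have h1 := sum_coset_irr hH hχ ⟨⟨k, hk⟩, hk1⟩ x
  rw [Finset.sum_congr rfl (g := fun _ => χ x)
    (fun n _ => classFun_const_of_free hH hx (irr_classFun hχ) n.2), Finset.sum_const,
    nsmul_eq_mul, mul_eq_zero] at h1
  rcases h1 with h1 | h1
  · exfalso
    rw [Finset.card_univ] at h1
    exact Fintype.card_ne_zero (Nat.cast_eq_zero.1 h1)
  · exact h1

/-- average over the cosets `D x` -/
noncomputable def av (D : Subgroup X) (f : X → ℂ) : X → ℂ :=
  open Classical in fun x => (Nat.card D : ℂ)⁻¹ * ∑ n : D, f (n * x)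

theorem av_apply (D : Subgroup X) [Fintype D] (f : X → ℂ) (x : X) :
    av D f x = (Nat.card D : ℂ)⁻¹ * ∑ n : D, f (n * x) := by
  unfold av
  congr!

theorem av_add (D : Subgroup X) (f g : X → ℂ) : av D (f + g) = av D f + av D g := by
  classical
  funext x
  simp only [av, Pi.add_apply]
  rw [Finset.sum_add_distrib, mul_add]

theorem av_sub (D : Subgroup X) (f g : X → ℂ) : av D (f - g) = av D f - av D g := by
  classical
  funext x
  simp only [av, Pi.sub_apply]
  rw [Finset.sum_sub_distrib, mul_sub]

theorem av_smul (D : Subgroup X) (c : ℂ) (f : X → ℂ) : av D (c • f) = c • av D f := by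
  classical
  funext x
  simp only [av, Pi.smul_apply, smul_eq_mul]
  rw [← Finset.mul_sum, mul_left_comm]

theorem av_of_const {D : Subgroup X} {f : X → ℂ} {x : X} (h : ∀ n ∈ D, f (n * x) = f x) :
    av D f x = f x := by
  classical
  rw [av_apply]
  rw [Finset.sum_congr rfl (fun (n : D) _ => h n n.2), Finset.sum_const, nsmul_eq_mul, ← mul_assoc,
    Finset.card_univ, Nat.card_eq_fintype_card, inv_mul_cancel₀, one_mul]
  exact Nat.cast_ne_zero.2 Fintype.card_ne_zero

variable {D : Subgroup X} (hD : D.Normal)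
include hD

theorem av_gen {f : X → ℂ} (hf : IsGeneralizedCharacter X f) :
    IsGeneralizedCharacter X (av D f) := by
  classical
  obtain ⟨χ, ψ, hχ, hψ, rfl⟩ := hf
  rw [av_sub]
  have := hD
  have h1 := H27.isChar_avg hχ D
  have h2 := H27.isChar_avg hψ D
  refine ⟨_, _, ?_, ?_, rfl⟩
  · convert h1 using 1
    funext x
    exact av_apply D χ x
  · convert h2 using 1
    funext x
    exact av_apply D ψ x

theorem av_classFun {f : X → ℂ} (hf : IsClassFunction X f) : IsClassFunction X (av D f) := by
  classical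
  intro x y
  simp only [av]
  congr 1
  let e : D ≃ D := (MulAut.conjNormal y : MulAut D).toEquiv
  rw [← Equiv.sum_comp e]
  refine Finset.sum_congr rfl fun n _ => ?_
  have h1 : ((e n : D) : X) = y * n * y⁻¹ := rfl
  rw [h1, ← hf (n * x) y]
  congr 1
  group

theorem av_irr {χ : X → ℂ} (hχ : IsIrrCharacter X χ) [Decidable (∀ n ∈ D, χ n = χ 1)] :
    av D χ = if (∀ n ∈ D, χ n = χ 1) then χ else 0 := by
  classical
  have := hD
  funext x
  simp only [av]
  rw [H27.irr_sum_normal_eq hχ D x]
  split_ifs with h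
  · rw [← mul_assoc, inv_mul_cancel₀, one_mul]
    exact_mod_cast Nat.card_pos.ne'
  · simp

omit hD in
theorem av_coset (f : X → ℂ) {n x : X} (hn : n ∈ D) : av D f (n * x) = av D f x := by
  classical
  simp only [av]
  congr 1
  rw [← Equiv.sum_comp (Equiv.mulRight (⟨n, hn⟩ : D)⁻¹)]
  refine Finset.sum_congr rfl fun m _ => ?_
  simp [mul_assoc]

omit hD in
theorem av_self_adjoint (f g : X → ℂ) : classInner (av D f) g = classInner f (av D g) := by
  classical
  unfold classInner
  congr 1
  simp only [av, map_mul, map_sum, map_inv₀, Complex.conj_natCast, Finset.mul_sum, Finset.sum_mul]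
  rw [Finset.sum_comm]
  conv_rhs => rw [Finset.sum_comm]
  rw [← Equiv.sum_comp (Equiv.inv D)]
  refine Finset.sum_congr rfl fun n _ => ?_
  rw [← Equiv.sum_comp (Equiv.mulLeft (n : X))]
  refine Finset.sum_congr rfl fun x _ => ?_
  simp only [Equiv.inv_apply, Equiv.coe_mulLeft, InvMemClass.coe_inv, inv_mul_cancel_left]
  ring

theorem classInner_av {f χ : X → ℂ} (hχ : IsIrrCharacter X χ) :
    ((∀ n ∈ D, χ n = χ 1) → classInner (av D f) χ = classInner f χ) ∧
    (¬ (∀ n ∈ D, χ n = χ 1) → classInner (av D f) χ = 0) := by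
  classical
  constructor
  · intro h
    rw [av_self_adjoint, av_irr hD hχ, if_pos h]
  · intro h
    rw [av_self_adjoint, av_irr hD hχ, if_neg h, classInner_zero_right]

end X

section derived
variable {Y : Type u} [Group Y] [Fintype Y]

theorem linear_of_derived {χ : Y → ℂ} (hχ : IsIrrCharacter Y χ)
    (h : ∀ n ∈ commutator Y, χ n = χ 1) : χ 1 = 1 := by
  obtain ⟨ψ, hψ, e⟩ := H27.exists_quotient_irr hχ h
  have hc : IsMulCommutative (Y ⧸ commutator Y) := by
    refine ⟨⟨fun a b => ?_⟩⟩
    exact mul_comm (G := Abelianization Y) a b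
  have := irr_degree_one_of_comm hψ
  rw [e 1]
  exact this

theorem derived_of_linear {χ : Y → ℂ} (hχ : IsIrrCharacter Y χ) (h1 : χ 1 = 1) :
    ∀ n ∈ commutator Y, χ n = χ 1 := fun n hn => by
  rw [linear_commutator (irr_isChar hχ) h1 hn, h1]

/-- if all nonprincipal linear characters have the same inner product `a` with `f` then the average
of `f` over a coset of `Y'` other than `Y'` is `⟨f,1⟩ - a` -/
theorem av_derived {f : Y → ℂ} (hf : IsClassFunction Y f) {a : ℂ}
    (h : ∀ θ : Y → ℂ, IsIrrCharacter Y θ → θ 1 = 1 → θ ≠ (fun _ => 1) → classInner f θ = a) {y : Y}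
    (hy : y ∉ commutator Y) : av (commutator Y) f y = classInner f (fun _ => 1) - a := by
  classical
  have hD : (commutator Y).Normal := inferInstance
  set κ : Y → ℂ := fun z => if z ∈ commutator Y then ((commutator Y).index : ℂ) else 0 with hκ
  have hκc : IsClassFunction Y κ := by
    intro g x
    simp only [hκ]
    have : x * g * x⁻¹ ∈ commutator Y ↔ g ∈ commutator Y := by
      constructor
      · intro h
        have := hD.conj_mem _ h x⁻¹
        simpa [mul_assoc] using this
      · exact fun h => hD.conj_mem _ h x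
    simp only [this]
  have hκi : ∀ χ : Y → ℂ, IsIrrCharacter Y χ →
      classInner κ χ = if (∀ n ∈ commutator Y, χ n = χ 1) then 1 else 0 := by
    intro χ hχ
    have h1 : classInner κ χ = conj (av (commutator Y) χ 1) := by
      unfold classInner
      simp only [av, hκ, map_mul, map_inv₀, Complex.conj_natCast, map_sum, mul_one, ite_mul,
        zero_mul]
      rw [← Finset.sum_filter, ← Finset.mul_sum]
      have h2 : ∑ i with i ∈ commutator Y, conj (χ i) = ∑ n : commutator Y, conj (χ n) := by
        rw [Finset.sum_subtype (p := (· ∈ commutator Y))]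
        intro g; simp
      rw [h2, ← mul_assoc]
      congr 1
      have h3 : ((commutator Y).index : ℂ) * Nat.card (commutator Y) = Nat.card Y := by
        exact_mod_cast (commutator Y).index_mul_card
      have h4 : (Nat.card Y : ℂ) ≠ 0 := by exact_mod_cast Nat.card_pos.ne'
      have h5 : (Nat.card (commutator Y) : ℂ) ≠ 0 := by exact_mod_cast Nat.card_pos.ne'
      rw [← h3] at h4 ⊢
      have h6 : ((commutator Y).index : ℂ) ≠ 0 := left_ne_zero_of_mul h4
      field_simp
    rw [h1, av_irr hD hχ]
    split_ifs with h2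
    · rw [linear_of_derived hχ h2, map_one]
    · simp
  have key : av (commutator Y) f =
      (classInner f (fun _ => 1) - a) • (fun _ : Y => (1 : ℂ)) + a • κ := by
    apply classFun_ext_inner (av_classFun hD hf)
      (classFun_add (classFun_smul _ (classFun_const 1)) (classFun_smul _ hκc))
    rintro ⟨χ, hχ⟩
    rw [classInner_add_left, classInner_smul_left, classInner_smul_left, hκi χ hχ]
    by_cases hlin : ∀ n ∈ commutator Y, χ n = χ 1
    · rw [(classInner_av hD hχ).1 hlin, if_pos hlin]
      by_cases h1 : χ = fun _ => 1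
      · subst h1
        rw [classInner_self_of_irr isIrr_one]
        ring
      · rw [h χ hχ (linear_of_derived hχ hlin) h1, classInner_of_irr_ne isIrr_one hχ (Ne.symm h1)]
        ring
    · rw [(classInner_av hD hχ).2 hlin, if_neg hlin]
      have h1 : χ ≠ fun _ => 1 := by
        rintro rfl
        exact hlin (fun _ _ => rfl)
      rw [classInner_of_irr_ne isIrr_one hχ (Ne.symm h1)]
      ring
  rw [key]
  simp [hκ, hy]

end derived

end Cfsg.Agent.T1
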