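import Cfsg.Agent.H7.T1D
import Cfsg.Agent.H3.CohC
import Cfsg.Agent.H11.PF4
import Cfsg.Agent.S1491
import Cfsg.Agent.S1518

set_option autoImplicit false

/-! Peterfalvi (12.2)-(12.5) in an abstract setting. -/

namespace Cfsg.Agent.T1

open Cfsg Subgroup Cfsg.Agent.H3
open scoped ComplexConjugate

universe u

/-- the situation of a maximal subgroup `N` of type I: `H = N_F`, `A = A(N)`, `R = R_N`. -/
structure DSet {G : Type u} [Group G] (A : Set G) (N : Subgroup G) (R : G → Subgroup G)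
    (H : Subgroup N) : Prop where
  dade : DadeHypothesis A N R
  normal : H.Normal
  hall : (Nat.card H).Coprime H.index
  mem_A : ∀ a : N, (a : G) ∈ A ↔ a ≠ 1 ∧ ∃ h ∈ H, h ≠ 1 ∧ a * h = h * a
  ab : ∀ θ : H → ℂ, IsIrrCharacter H θ → θ ≠ (fun _ => 1) → ∀ x ∈ inertia normal θ,
    ∀ y ∈ inertia normal θ, x * y * x⁻¹ * y⁻¹ ∈ H
  off : ∀ a : N, (a : G) ∈ A → a ∉ H → R a = ⊥
  odd : Odd (Nat.card G)

section odd
variable {X : Type u} [Group X] [Finite X] {H : Subgroup X}

/-- in odd order an irreducible nonprincipal character of a normal subgroup is not conjugate to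
its complex conjugate -/
theorem conj_not_cj (hodd : Odd (Nat.card X)) (hH : H.Normal) {θ : H → ℂ}
    (hθ : IsIrrCharacter H θ) (h1 : θ ≠ fun _ => 1) (x : X) : cj hH x θ ≠ conjFun θ := by
  intro h
  have h2 : cj hH (x * x) θ = θ := by
    rw [cj_mul, h]
    have : cj hH x (conjFun θ) = conjFun (cj hH x θ) := rfl
    rw [this, h]
    funext k; simp [conjFun]
  have hx2 : x * x ∈ inertia hH θ := h2
  have hodd' : Odd (orderOf x) := Odd.of_dvd_nat hodd (orderOf_dvd_natCard x)
  obtain ⟨k, hk⟩ := hodd'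
  have hx : x ∈ inertia hH θ := by
    have : x = (x * x) ^ (k + 1) := by
      rw [← pow_two, ← pow_mul, show 2 * (k + 1) = orderOf x + 1 by omega, pow_succ,
        pow_orderOf_eq_one, one_mul]
    rw [this]
    exact pow_mem hx2 _
  have h3 : cj hH x θ = θ := hx
  rw [h3] at h
  exact conjFun_ne_of_odd (Odd.of_dvd_nat hodd (Subgroup.card_subgroup_dvd_card H)) hθ h1 h.symm

end odd

theorem isIrr_conjFun {X : Type*} [Group X] [Finite X] {f : X → ℂ} (hf : IsIrrCharacter X f) :
    IsIrrCharacter X (conjFun f) := isIrr_conj hf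

theorem classFun_conjFun {X : Type*} [Group X] {f : X → ℂ} (hf : IsClassFunction X f) :
    IsClassFunction X (conjFun f) := classFun_conj hf

theorem irr_diff_eq {G : Type u} [Group G] [Fintype G] {a b c d : G → ℂ} (ha : IsIrrCharacter G a)
    (hb : IsIrrCharacter G b) (hc : IsIrrCharacter G c) (hd : IsIrrCharacter G d) (hab : a ≠ b)
    (h : a - b = c - d) : a = c ∧ b = d := by
  classical
  have h1 : classInner (a - b) a = classInner (c - d) a := by rw [h]
  rw [classInner_sub_left, classInner_sub_left, classInner_irr ha ha, classInner_irr hb ha,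
    classInner_irr hc ha, classInner_irr hd ha, if_pos rfl, if_neg (Ne.symm hab), sub_zero] at h1
  have h2 : a = c := by
    by_contra hne
    rw [if_neg (Ne.symm hne)] at h1
    split_ifs at h1
    · norm_num at h1
    · norm_num at h1
  subst h2
  exact ⟨rfl, by rwa [sub_right_inj] at h⟩

namespace DSet
variable {G : Type u} [Group G] [Fintype G] {A : Set G} {N : Subgroup G} [Fintype N]
  {R : G → Subgroup G} {H : Subgroup N} (d : DSet A N R H)
include d

omit [Fintype G] [Fintype N] in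
theorem oddN [Finite G] : Odd (Nat.card N) :=
  Odd.of_dvd_nat d.odd (Subgroup.card_subgroup_dvd_card N)

omit [Fintype G] [Fintype N] in
theorem A_of_mem {a : N} (ha : a ∈ H) (h1 : a ≠ 1) : (a : G) ∈ A :=
  (d.mem_A a).2 ⟨h1, a, ha, h1, rfl⟩

/-- (12.2)(a) -/
theorem exists_C {θ : H → ℂ} (hθ : IsIrrCharacter H θ) (h1 : θ ≠ fun _ => 1) :
    ∃ C : Finset (N → ℂ), (∀ χ ∈ C, IsIrrCharacter N χ) ∧ indFun H θ = ∑ χ ∈ C, χ ∧
      ∃ m : ℂ, m ≠ 0 ∧ ∀ χ ∈ C, χ 1 = m * θ 1 := by
  haveI := d.normal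
  set T := inertia d.normal θ with hT
  have hcop : Nat.Coprime (Nat.card H) (H.relIndex T) :=
    Nat.Coprime.coprime_dvd_right (Subgroup.relIndex_dvd_index_of_normal H T) d.hall
  obtain ⟨C, hC1, -, hC3, hC4⟩ := S1491.result H T θ hθ (fun g => mem_inertia' d.normal θ g)
    (d.ab θ hθ h1) hcop
  refine ⟨C, hC1, hC3, (T.index : ℂ), ?_, hC4⟩
  exact Nat.cast_ne_zero.2 Subgroup.index_ne_zero_of_finite

theorem inner_C {θ : H → ℂ} {C : Finset (N → ℂ)} (hC : ∀ χ ∈ C, IsIrrCharacter N χ)
    (hI : indFun H θ = ∑ χ ∈ C, χ) {χ : N → ℂ} (hχ : IsIrrCharacter N χ) [Decidable (χ ∈ C)] :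
    classInner (indFun H θ) χ = if χ ∈ C then 1 else 0 := by
  classical
  rw [hI, classInner_sum_left]
  rw [Finset.sum_congr rfl (fun φ hφ => classInner_irr (hC φ hφ) hχ)]
  rw [Finset.sum_ite_eq' C χ]
  split_ifs <;> rfl

/-- members of `C` are nontrivial on `H` -/
theorem ker_C {θ : H → ℂ} (hθ : IsIrrCharacter H θ) (h1 : θ ≠ fun _ => 1) {χ : N → ℂ}
    (hχ : IsIrrCharacter N χ) (h : classInner (indFun H θ) χ ≠ 0) : ∃ h ∈ H, χ h ≠ χ 1 := by
  classical
  haveI : Fintype H := Fintype.ofFinite H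
  by_contra hcon
  push Not at hcon
  apply h
  rw [frobenius_reciprocity H θ (irr_classFun hχ)]
  have : (fun h : H => χ h) = χ 1 • (fun _ : H => (1 : ℂ)) := by
    funext k; simp [hcon k k.2]
  rw [this, classInner_smul_right, classInner_of_irr_ne hθ isIrr_one h1, mul_zero]

/-- every irreducible character nontrivial on `H` is in some `C` -/
theorem exists_theta {χ : N → ℂ} (hχ : IsIrrCharacter N χ) (hk : ∃ h ∈ H, χ h ≠ χ 1) :
    ∃ θ : H → ℂ, IsIrrCharacter H θ ∧ (θ ≠ fun _ => 1) ∧ classInner (indFun H θ) χ ≠ 0 := by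
  classical
  haveI : Fintype H := Fintype.ofFinite H
  haveI := Fintype.ofFinite (IrrCharacter H)
  by_contra hcon
  push Not at hcon
  obtain ⟨k, hk, hk1⟩ := hk
  apply hk1
  have h2 : (fun h : H => χ h) = classInner (fun h : H => χ h) (fun _ => 1) • (fun _ : H => (1 : ℂ)) := by
    apply classFun_ext_inner (classFun_restrict H (irr_classFun hχ))
      (classFun_smul _ (classFun_const 1))
    rintro ⟨θ, hθ⟩
    rw [classInner_smul_left]
    by_cases h1 : θ = fun _ => 1
    · subst h1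
      rw [classInner_self_of_irr isIrr_one, mul_one]
    · have h3 := hcon θ hθ h1
      rw [frobenius_reciprocity H θ (irr_classFun hχ), ← classInner_conj_symm, map_eq_zero] at h3
      rw [h3, classInner_of_irr_ne isIrr_one hθ (Ne.symm h1), mul_zero]
  have e1 := congrFun h2 ⟨k, hk⟩
  have e2 := congrFun h2 1
  simp only [Pi.smul_apply, smul_eq_mul, mul_one] at e1 e2
  rw [e1]
  exact e2.symm

/-- (12.2)(a): vanishing off `A ∪ 1` -/
theorem vanish {χ : N → ℂ} (hχ : IsIrrCharacter N χ) (hk : ∃ h ∈ H, χ h ≠ χ 1) {x : N}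
    (hx1 : x ≠ 1) (hx : (x : G) ∉ A) : χ x = 0 := by
  refine vanish_of_free d.normal hχ hk (fun h hh e => ?_)
  by_contra hh1
  exact hx ((d.mem_A x).2 ⟨hx1, h, hh, hh1, e⟩)

theorem exists_mu {χ : N → ℂ} (hχ : IsIrrCharacter N χ) (hk : ∃ h ∈ H, χ h ≠ χ 1) :
    ∃ μ : G → ℂ, IsIrrCharacter G μ ∧ dadeIsometry A N R (χ - conjFun χ) = μ - conjFun μ :=
  S1518.result A N R d.dade χ hχ (fun _ hx1 hx => d.vanish hχ hk hx1 hx)

omit d in
theorem conj_ker {χ : N → ℂ} (hk : ∃ h ∈ H, χ h ≠ χ 1) :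
    ∃ h ∈ H, conjFun χ h ≠ conjFun χ 1 := by
  obtain ⟨h, hh, h1⟩ := hk
  exact ⟨h, hh, fun e => h1 ((starRingEnd ℂ).injective e)⟩

theorem conj_ne {χ : N → ℂ} (hχ : IsIrrCharacter N χ) (hk : ∃ h ∈ H, χ h ≠ χ 1) :
    conjFun χ ≠ χ := by
  refine conjFun_ne_of_odd d.oddN hχ ?_
  rintro rfl
  obtain ⟨h, hh, h1⟩ := hk
  exact h1 rfl

/-- `χ` and `χ̄` are not both above `θ` -/
theorem not_both {θ : H → ℂ} (hθ : IsIrrCharacter H θ) (h1 : θ ≠ fun _ => 1) {χ : N → ℂ}
    (hχ : IsIrrCharacter N χ) (h : classInner (indFun H θ) χ ≠ 0) :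
    classInner (indFun H θ) (conjFun χ) = 0 := by
  classical
  haveI : Fintype H := Fintype.ofFinite H
  by_contra h2
  have hχ' : IsIrrCharacter N (conjFun χ) := isIrr_conj hχ
  have hθ' : IsIrrCharacter H (conjFun θ) := isIrr_conj hθ
  rw [frobenius_reciprocity H θ (irr_classFun hχ)] at h
  rw [frobenius_reciprocity H θ (irr_classFun hχ')] at h2
  have h3 : classInner (fun h : H => χ h) θ ≠ 0 := by
    rw [← classInner_conj_symm, map_ne_zero]; exact h
  have h4 : classInner (fun h : H => χ h) (conjFun θ) ≠ 0 := by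
    have e1 : (fun h : H => conjFun χ h) = conjFun (fun h : H => χ h) := rfl
    rw [e1] at h2
    have e2 : θ = conjFun (conjFun θ) := (conjFun_conjFun θ).symm
    rw [e2, classInner_conjFun, map_eq_zero] at h2
    rw [← classInner_conj_symm, map_ne_zero]
    exact h2
  obtain ⟨x, hx⟩ := clifford_inner d.normal hχ hθ h3 hθ' h4
  exact conj_not_cj d.oddN d.normal hθ h1 x hx

/-- the class functions of `G` orthogonal to all `R(χ)` -/
def Orth (A : Set G) (N : Subgroup G) (R : G → Subgroup G) (H : Subgroup N) (ψ : G → ℂ) : Prop :=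
  ∀ χ : N → ℂ, IsIrrCharacter N χ → (∃ h ∈ H, χ h ≠ χ 1) → ∀ μ : G → ℂ, IsIrrCharacter G μ →
    dadeIsometry A N R (χ - conjFun χ) = μ - conjFun μ →
    classInner ψ μ = 0 ∧ classInner ψ (conjFun μ) = 0

/-- (12.3): an irreducible character `η` of `G` with `η - η̄` orthogonal to the Dade images of
the functions `Ind θ - Ind θ̄` is orthogonal to all `R(χ)`. -/
theorem orth_of {η : G → ℂ} (hη : IsIrrCharacter G η)
    (h : ∀ θ : H → ℂ, IsIrrCharacter H θ → (θ ≠ fun _ => 1) →
      classInner (η - conjFun η) (dadeIsometry A N R (indFun H θ - conjFun (indFun H θ))) = 0) :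
    Orth A N R H η := by
  classical
  intro χ hχ hk μ hμ hμe
  obtain ⟨θ, hθ, h1, hne⟩ := d.exists_theta hχ hk
  have hχc := irr_classFun hχ
  have hIc : IsClassFunction N (indFun H θ) := indFun_classFun H θ
  -- `⟨χ - χ̄, Ind θ - conj⟩`
  have key : classInner (dadeIsometry A N R (χ - conjFun χ))
      (dadeIsometry A N R (indFun H θ - conjFun (indFun H θ))) ≠ 0 := by
    have hv1 : ∀ x : N, (x : G) ∉ A → (χ - conjFun χ) x = 0 := by
      intro x hx
      by_cases hx1 : x = 1
      · subst hx1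
        obtain ⟨n, -, hn⟩ := irr_one_eq_nat hχ
        simp [conjFun, hn]
      · simp [conjFun, d.vanish hχ hk hx1 hx]
    have hv2 : ∀ x : N, (x : G) ∉ A → (indFun H θ - conjFun (indFun H θ)) x = 0 := by
      intro x hx
      by_cases hx1 : x = 1
      · subst hx1
        obtain ⟨n, -, hn⟩ := irr_one_eq_nat hθ
        simp [conjFun, indFun_one_apply, hn]
      · have : x ∉ H := fun hxH => hx (d.A_of_mem hxH hx1)
        simp [conjFun, indFun_not_mem_normal d.normal θ this]
    rw [dade_isometry d.dade (classFun_sub hχc (classFun_conjFun hχc)) hv1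
      (classFun_sub hIc (classFun_conjFun hIc)) hv2, classInner_sub_left, classInner_sub_right,
      classInner_sub_right]
    have e1 : classInner χ (indFun H θ) = conj (classInner (indFun H θ) χ) :=
      (classInner_conj_symm _ _).symm
    have e2 : classInner (conjFun χ) (indFun H θ) = 0 := by
      rw [← classInner_conj_symm, d.not_both hθ h1 hχ hne, map_zero]
    have e3 : classInner χ (conjFun (indFun H θ)) = 0 := by
      have : χ = conjFun (conjFun χ) := (conjFun_conjFun χ).symm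
      rw [this, classInner_conjFun, e2, map_zero]
    have e4 : classInner (conjFun χ) (conjFun (indFun H θ)) = conj (classInner χ (indFun H θ)) :=
      classInner_conjFun _ _
    obtain ⟨n, hn⟩ := classInner_char_nat (isChar_ind H (irr_isChar hθ)) (irr_isChar hχ)
    rw [e2, e3, e4, e1, hn]
    rw [hn] at hne
    have hn0 : n ≠ 0 := fun e => hne (by rw [e]; simp)
    have : ((n : ℂ) + n) ≠ 0 := by
      exact_mod_cast (by omega : n + n ≠ 0)
    simpa using this
  have hθ0 := h θ hθ h1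
  rw [hμe] at key
  have hcμ : conjFun (conjFun μ) = μ := conjFun_conjFun μ
  constructor
  · apply classInner_of_irr_ne hη hμ
    rintro rfl
    exact key hθ0
  · apply classInner_of_irr_ne hη (isIrr_conj hμ)
    intro e
    have e' : η = conjFun μ := e
    rw [e', hcμ] at hθ0
    apply key
    have : μ - conjFun μ = -(conjFun μ - μ) := by ring
    rw [this, classInner_neg_left, hθ0, neg_zero]

end DSet

end Cfsg.Agent.T1
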