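import Cfsg.Agent.H7.T1E

set_option autoImplicit false

/-! Peterfalvi (12.4), (12.5) in the abstract setting. -/

namespace Cfsg.Agent.T1

open Cfsg Subgroup Cfsg.Agent.H3
open scoped ComplexConjugate

universe u

namespace DSet
variable {G : Type u} [Group G] [Fintype G] {A : Set G} {N : Subgroup G} [Fintype N]
  {R : G → Subgroup G} {H : Subgroup N} (d : DSet A N R H)
include d

theorem sub_conj_off {χ : N → ℂ} (hχ : IsIrrCharacter N χ) (hk : ∃ h ∈ H, χ h ≠ χ 1) (x : N)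
    (hx : (x : G) ∉ A) : (χ - conjFun χ) x = 0 := by
  by_cases hx1 : x = 1
  · subst hx1
    obtain ⟨n, -, hn⟩ := irr_one_eq_nat hχ
    simp [conjFun, hn]
  · simp [conjFun, d.vanish hχ hk hx1 hx]

theorem inner_sub_conj {χ φ : N → ℂ} (hχ : IsIrrCharacter N χ) (hk : ∃ h ∈ H, χ h ≠ χ 1)
    (hφ : IsIrrCharacter N φ) (hkφ : ∃ h ∈ H, φ h ≠ φ 1) :
    classInner (dadeIsometry A N R (χ - conjFun χ)) (dadeIsometry A N R (φ - conjFun φ)) =
      classInner (χ - conjFun χ) (φ - conjFun φ) :=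
  dade_isometry d.dade (classFun_sub (irr_classFun hχ) (classFun_conjFun (irr_classFun hχ)))
    (d.sub_conj_off hχ hk) (classFun_sub (irr_classFun hφ) (classFun_conjFun (irr_classFun hφ)))
    (d.sub_conj_off hφ hkφ)

theorem mu_ne {χ : N → ℂ} (hχ : IsIrrCharacter N χ) (hk : ∃ h ∈ H, χ h ≠ χ 1) {μ : G → ℂ}
    (hμ : dadeIsometry A N R (χ - conjFun χ) = μ - conjFun μ) : μ ≠ conjFun μ := by
  classical
  intro e
  have h1 := d.inner_sub_conj hχ hk hχ hk
  have h2 : μ - conjFun μ = 0 := sub_eq_zero.2 e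
  have hne := d.conj_ne hχ hk
  rw [hμ, h2, classInner_zero_left, classInner_sub_left, classInner_sub_right, classInner_sub_right,
    classInner_irr hχ hχ, classInner_irr hχ (isIrr_conjFun hχ), classInner_irr (isIrr_conjFun hχ) hχ,
    classInner_irr (isIrr_conjFun hχ) (isIrr_conjFun hχ), if_pos rfl, if_pos rfl,
    if_neg (Ne.symm hne), if_neg hne] at h1
  norm_num at h1

theorem mu_disjoint {χ φ : N → ℂ} (hχ : IsIrrCharacter N χ) (hk : ∃ h ∈ H, χ h ≠ χ 1)
    (hφ : IsIrrCharacter N φ) (hkφ : ∃ h ∈ H, φ h ≠ φ 1) (h1 : χ ≠ φ) (h2 : conjFun χ ≠ φ)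
    {μ ν : G → ℂ} (hμi : IsIrrCharacter G μ) (hνi : IsIrrCharacter G ν)
    (hμ : dadeIsometry A N R (χ - conjFun χ) = μ - conjFun μ)
    (hν : dadeIsometry A N R (φ - conjFun φ) = ν - conjFun ν) :
    classInner μ ν = 0 ∧ classInner μ (conjFun ν) = 0 ∧ classInner (conjFun μ) ν = 0 ∧
      classInner (conjFun μ) (conjFun ν) = 0 := by
  classical
  have hμc : IsIrrCharacter G (conjFun μ) := isIrr_conjFun hμi
  have hνc : IsIrrCharacter G (conjFun ν) := isIrr_conjFun hνi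
  have h3 := d.inner_sub_conj hχ hk hφ hkφ
  have h4 : χ ≠ conjFun φ := fun e => h2 (by rw [e, conjFun_conjFun])
  have h5 : conjFun χ ≠ conjFun φ := fun e => h1 (by
    have := congrArg conjFun e
    rwa [conjFun_conjFun, conjFun_conjFun] at this)
  have hzero : classInner (χ - conjFun χ) (φ - conjFun φ) = 0 := by
    rw [classInner_sub_left, classInner_sub_right, classInner_sub_right,
      classInner_of_irr_ne hχ hφ h1, classInner_of_irr_ne hχ (isIrr_conjFun hφ) h4,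
      classInner_of_irr_ne (isIrr_conjFun hχ) hφ h2,
      classInner_of_irr_ne (isIrr_conjFun hχ) (isIrr_conjFun hφ) h5]
    ring
  rw [hzero, hμ, hν] at h3
  have deg : ∀ μ : G → ℂ, IsIrrCharacter G μ → μ 1 = conjFun μ 1 := by
    intro μ hμ
    obtain ⟨n, -, hn⟩ := irr_one_eq_nat hμ
    simp [conjFun, hn]
  have ha : (⟨μ, hμi⟩ : IrrCharacter G) ≠ ⟨conjFun μ, hμc⟩ := fun e =>
    d.mu_ne hχ hk hμ (congrArg Subtype.val e)
  have hb : (⟨ν, hνi⟩ : IrrCharacter G) ≠ ⟨conjFun ν, hνc⟩ := fun e =>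
    d.mu_ne hφ hkφ hν (congrArg Subtype.val e)
  exact irr_diff_orth ha hb h3 (deg μ hμi) (deg ν hνi)

theorem span {ψ : G → ℂ} (hψ : Orth A N R H ψ) (C : Finset (N → ℂ)) (s : (N → ℂ) → ℤ)
    (hC : ∀ χ ∈ C, IsIrrCharacter N χ ∧ ∃ h ∈ H, χ h ≠ χ 1)
    (hs : ∀ χ ∈ C, s χ = 1 ∨ s χ = -1) (hcc : ∀ χ ∈ C, conjFun χ ∉ C)
    (h1 : ∑ χ ∈ C, (s χ : ℂ) * χ 1 = 0) :
    classInner ψ (dadeIsometry A N R (∑ χ ∈ C, (s χ : ℂ) • χ)) = 0 := by
  classical
  set α : N → ℂ := ∑ χ ∈ C, (s χ : ℂ) • χ with hα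
  have hαc : IsClassFunction N α :=
    classFun_sum _ _ fun χ hχ => classFun_smul _ (irr_classFun (hC χ hχ).1)
  have hαoff : ∀ x : N, (x : G) ∉ A → α x = 0 := by
    intro x hx
    rw [hα, Finset.sum_apply]
    by_cases hx1 : x = 1
    · subst hx1
      simpa using h1
    · refine Finset.sum_eq_zero fun χ hχ => ?_
      rw [Pi.smul_apply, d.vanish (hC χ hχ).1 (hC χ hχ).2 hx1 hx, smul_zero]
  have hαχ : ∀ χ : N → ℂ, IsIrrCharacter N χ → classInner α χ = if χ ∈ C then (s χ : ℂ) else 0 := by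
    intro χ hχ
    rw [hα, classInner_sum_left]
    rw [Finset.sum_congr rfl (g := fun φ => if φ = χ then (s φ : ℂ) else 0) (fun φ hφ => by
      rw [classInner_smul_left, classInner_irr (hC φ hφ).1 hχ]; split_ifs <;> simp)]
    rw [Finset.sum_ite_eq' C χ]
  have hαα : classInner α α = (C.card : ℂ) := by
    nth_rewrite 2 [hα]
    rw [classInner_sum_right, Finset.sum_congr rfl (g := fun _ => (1 : ℂ)), Finset.sum_const,
      nsmul_eq_mul, mul_one]
    intro χ hχ
    rw [classInner_smul_right, hαχ χ (hC χ hχ).1, if_pos hχ]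
    rcases hs χ hχ with h | h <;> rw [h] <;> simp
  set v := dadeIsometry A N R α with hv
  have hvv : classInner v v = (C.card : ℂ) := by
    rw [hv, dade_isometry d.dade hαc hαoff hαc hαoff, hαα]
  have hαgen : IsGeneralizedCharacter N α := by
    rw [hα]
    exact isGen_sum _ _ fun χ hχ => isGen_intCast_smul _ (isGen_of_irr (hC χ hχ).1)
  have hvgen : IsGeneralizedCharacter G v := H11.PF.dade_gen d.dade hαgen hαoff
  -- choose `mu`
  have hmu : ∀ χ : N → ℂ, ∃ μ : G → ℂ, χ ∈ C → IsIrrCharacter G μ ∧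
      dadeIsometry A N R (χ - conjFun χ) = μ - conjFun μ := by
    intro χ
    by_cases hχ : χ ∈ C
    · obtain ⟨μ, h⟩ := d.exists_mu (hC χ hχ).1 (hC χ hχ).2
      exact ⟨μ, fun _ => h⟩
    · exact ⟨0, fun h => absurd h hχ⟩
  choose mu hmu using hmu
  let e : (N → ℂ) × Bool → G → ℂ := fun i => if i.2 then mu i.1 else conjFun (mu i.1)
  have he : ∀ i ∈ C ×ˢ (Finset.univ : Finset Bool), ∀ j ∈ C ×ˢ (Finset.univ : Finset Bool),
      classInner (e i) (e j) = if i = j then (((1 : ℝ) : ℝ) : ℂ) else 0 := by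
    rintro ⟨χ, b⟩ hi ⟨φ, c⟩ hj
    have hχ : χ ∈ C := (Finset.mem_product.1 hi).1
    have hφ : φ ∈ C := (Finset.mem_product.1 hj).1
    obtain ⟨m1, m2⟩ := hmu χ hχ
    obtain ⟨n1, n2⟩ := hmu φ hφ
    have m1c : IsIrrCharacter G (conjFun (mu χ)) := isIrr_conjFun m1
    have n1c : IsIrrCharacter G (conjFun (mu φ)) := isIrr_conjFun n1
    by_cases hχφ : χ = φ
    · subst hχφ
      have hne := d.mu_ne (hC χ hχ).1 (hC χ hχ).2 m2
      cases b <;> cases c <;> simp only [e, Bool.false_eq_true, if_false, if_true, Prod.mk.injEq,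
        true_and, Bool.true_eq_false, Complex.ofReal_one]
      · exact classInner_self_of_irr m1c
      · exact classInner_of_irr_ne m1c m1 (Ne.symm hne)
      · exact classInner_of_irr_ne m1 m1c hne
      · exact classInner_self_of_irr m1
    · have hcne : conjFun χ ≠ φ := fun e => hcc χ hχ (e ▸ hφ)
      obtain ⟨k1, k2, k3, k4⟩ := d.mu_disjoint (hC χ hχ).1 (hC χ hχ).2 (hC φ hφ).1 (hC φ hφ).2
        hχφ hcne m1 n1 m2 n2
      rw [if_neg (fun h => hχφ (congrArg Prod.fst h))]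
      cases b <;> cases c <;> simp only [e, Bool.false_eq_true, if_false, if_true]
      · exact k4
      · exact k3
      · exact k2
      · exact k1
  have hbes := bessel_le (C ×ˢ (Finset.univ : Finset Bool)) e (fun _ => 1) (fun _ _ => one_ne_zero)
    he v
  have hlow : (C.card : ℝ) ≤ ∑ i ∈ C ×ˢ (Finset.univ : Finset Bool),
      ‖classInner v (e i)‖ ^ 2 / 1 := by
    rw [Finset.sum_product, Finset.card_eq_sum_ones, Nat.cast_sum]
    refine Finset.sum_le_sum fun χ hχ => ?_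
    rw [Fintype.sum_bool]
    simp only [e, Bool.false_eq_true, if_false, if_true, div_one, Nat.cast_one]
    obtain ⟨m1, m2⟩ := hmu χ hχ
    obtain ⟨a, ha⟩ := classInner_gen_int hvgen (isGen_of_irr m1)
    obtain ⟨b, hb⟩ := classInner_gen_int hvgen
      (isGen_of_irr (show IsIrrCharacter G (conjFun (mu χ)) from isIrr_conjFun m1))
    have hab : classInner v (mu χ - conjFun (mu χ)) = (s χ : ℂ) := by
      rw [← m2, hv, dade_isometry d.dade hαc hαoff
        (classFun_sub (irr_classFun (hC χ hχ).1) (classFun_conjFun (irr_classFun (hC χ hχ).1)))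
        (d.sub_conj_off (hC χ hχ).1 (hC χ hχ).2), classInner_sub_right, hαχ χ (hC χ hχ).1,
        hαχ _ (isIrr_conjFun (hC χ hχ).1), if_pos hχ, if_neg (hcc χ hχ), sub_zero]
    rw [classInner_sub_right, ha, hb] at hab
    have hab' : a - b = s χ := by exact_mod_cast hab
    rw [ha, hb]
    have h3 : (1 : ℤ) ≤ a ^ 2 + b ^ 2 := by
      by_contra hcon
      have ha2 := sq_nonneg a
      have hb2 := sq_nonneg b
      have e1 : a ^ 2 = 0 := by omega
      have e2 : b ^ 2 = 0 := by omega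
      have e3 : a = 0 := by simpa using e1
      have e4 : b = 0 := by simpa using e2
      rw [e3, e4] at hab'
      rcases hs χ hχ with h | h <;> omega
    have h4 : (1 : ℝ) ≤ (a : ℝ) ^ 2 + (b : ℝ) ^ 2 := by exact_mod_cast h3
    simpa using h4
  have heq : ∑ i ∈ C ×ˢ (Finset.univ : Finset Bool), ‖classInner v (e i)‖ ^ 2 / 1 =
      (classInner v v).re := by
    apply le_antisymm hbes
    rw [hvv]; simpa using hlow
  have hvexp := bessel_eq_case (C ×ˢ (Finset.univ : Finset Bool)) e (fun _ => 1)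
    (fun _ _ => one_ne_zero) he v heq
  rw [hvexp, classInner_sum_right]
  refine Finset.sum_eq_zero ?_
  rintro ⟨χ, b⟩ hi
  have hχ : χ ∈ C := (Finset.mem_product.1 hi).1
  obtain ⟨m1, m2⟩ := hmu χ hχ
  obtain ⟨o1, o2⟩ := hψ χ (hC χ hχ).1 (hC χ hχ).2 _ m1 m2
  rw [classInner_smul_right]
  cases b <;> simp [e, o1, o2]

end DSet

end Cfsg.Agent.T1
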