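import Cfsg.Agent.H7.T1F

set_option autoImplicit false

/-! Peterfalvi (12.4), (12.5) in the abstract setting. -/

namespace Cfsg.Agent.T1

open Cfsg Subgroup Cfsg.Agent.H3
open scoped ComplexConjugate

universe u

/-- each coset `H g` contains an element of order prime to `|H|` -/
theorem exists_coprime_rep {X : Type u} [Group X] [Finite X] {H : Subgroup X} (hH : H.Normal)
    (hall : (Nat.card H).Coprime H.index) (g : X) :
    ∃ x : X, (orderOf x).Coprime (Nat.card H) ∧ ∃ h ∈ H, g = h * x := by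
  obtain ⟨k, hk1, hk2⟩ := Nat.chineseRemainder hall 0 1
  refine ⟨g ^ k, ?_, g * (g ^ k)⁻¹, ?_, by group⟩
  · have h1 : orderOf (g ^ k) ∣ H.index := by
      apply orderOf_dvd_of_pow_eq_one
      obtain ⟨j, hj⟩ := (Nat.modEq_zero_iff_dvd).1 hk1
      rw [hj, ← pow_mul, mul_right_comm, Subgroup.card_mul_index, pow_mul, pow_card_eq_one',
        one_pow]
    exact (Nat.Coprime.coprime_dvd_right h1 hall).symm
  · have hidx : g ^ H.index ∈ H := Subgroup.pow_index_mem H g
    rcases Nat.eq_zero_or_pos k with h0 | hpos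
    · subst h0
      have : H.index ∣ 1 := (Nat.modEq_zero_iff_dvd).1 hk2.symm
      have h1 : H.index = 1 := Nat.dvd_one.1 this
      rw [h1, pow_one] at hidx
      simpa using hidx
    · obtain ⟨j, hj⟩ := (Nat.modEq_iff_dvd' hpos).1 hk2.symm
      have h2 : g * (g ^ k)⁻¹ = ((g ^ H.index) ^ j)⁻¹ := by
        rw [← pow_mul, ← hj, eq_inv_iff_mul_eq_one]
        have h3 : g ^ (k - 1) * g = g ^ k := by
          rw [← pow_succ]; congr 1; omega
        have h4 : (g ^ k)⁻¹ * g ^ (k - 1) = g⁻¹ := by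
          rw [← h3]; group
        rw [mul_assoc, h4, mul_inv_cancel]
      rw [h2]
      exact H.inv_mem (H.pow_mem hidx j)

namespace DSet
variable {G : Type u} [Group G] [Fintype G] {A : Set G} {N : Subgroup G} [Fintype N]
  {R : G → Subgroup G} {H : Subgroup N} (d : DSet A N R H)
include d

theorem restrict_eq {θ : H → ℂ} (hθ : IsIrrCharacter H θ) {χ φ : N → ℂ}
    (hχ : IsIrrCharacter N χ) (hφ : IsIrrCharacter N φ) (h1 : classInner (indFun H θ) χ = 1)
    (h2 : classInner (indFun H θ) φ = 1) {h : N} (hh : h ∈ H) : χ h = φ h := by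
  classical
  have : Fintype H := Fintype.ofFinite H
  have key : ∀ χ : N → ℂ, IsIrrCharacter N χ → classInner (indFun H θ) χ = 1 →
      classInner (fun h : H => χ h) θ = 1 := by
    intro χ hχ h1
    rw [frobenius_reciprocity H θ (irr_classFun hχ)] at h1
    rw [← classInner_conj_symm, h1, map_one]
  have k1 := clifford_sum d.normal hχ hθ (by rw [key χ hχ h1]; exact one_ne_zero)
  have k2 := clifford_sum d.normal hφ hθ (by rw [key φ hφ h2]; exact one_ne_zero)
  rw [key χ hχ h1] at k1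
  rw [key φ hφ h2, ← k1] at k2
  have k3 := congrFun k2 ⟨h, hh⟩
  have h0 : (Nat.card (inertia d.normal θ) : ℂ) ≠ 0 := by exact_mod_cast Nat.card_pos.ne'
  exact (mul_left_cancel₀ h0 k3).symm

/-- the part of `ρ ψ` off `H` is orthogonal to the characters nontrivial on `H` -/
theorem inner_off {ψ : G → ℂ} (hψc : IsClassFunction G ψ) (hψ : Orth A N R H ψ) {χ : N → ℂ}
    (hχ : IsIrrCharacter N χ) (hk : ∃ h ∈ H, χ h ≠ χ 1) [DecidablePred (· ∈ H)] :
    classInner (fun x : N => if x ∈ H then 0 else rho A N R ψ x) χ = 0 := by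
  classical
  have : Fintype H := Fintype.ofFinite H
  set β := rho A N R ψ with hβ
  set δ : N → ℂ := fun x => if x ∈ H then 0 else β x with hδ
  obtain ⟨θ, hθ, h1, hne⟩ := d.exists_theta hχ hk
  obtain ⟨C, hC, hI, m, hm, hdeg⟩ := d.exists_C hθ h1
  have hin : ∀ φ : N → ℂ, IsIrrCharacter N φ → classInner (indFun H θ) φ = if φ ∈ C then 1 else 0 :=
    fun φ hφ => d.inner_C hC hI hφ
  have hχC : χ ∈ C := by
    by_contra h
    rw [hin χ hχ, if_neg h] at hne
    exact hne rfl
  -- same inner products with `β`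
  have hβeq : ∀ φ ∈ C, classInner β φ = classInner β χ := by
    intro φ hφ
    by_cases hφχ : φ = χ
    · rw [hφχ]
    have hkφ : ∃ h ∈ H, φ h ≠ φ 1 := d.ker_C hθ h1 (hC φ hφ) (by
      rw [hin φ (hC φ hφ), if_pos hφ]; exact one_ne_zero)
    have hcx : ∀ φ ∈ C, conjFun φ ∉ C := by
      intro φ hφ hc
      have := d.not_both hθ h1 (hC φ hφ) (by rw [hin φ (hC φ hφ), if_pos hφ]; exact one_ne_zero)
      rw [hin _ (isIrr_conjFun (hC φ hφ)), if_pos hc] at this
      exact one_ne_zero this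
    have hsp := d.span hψ {φ, χ} (fun f => if f = φ then 1 else -1) (by
        intro f hf
        rcases Finset.mem_insert.1 hf with rfl | hf
        · exact ⟨hC f hφ, hkφ⟩
        · rw [Finset.mem_singleton.1 hf]; exact ⟨hχ, hk⟩) (by
        intro f _
        split_ifs <;> simp) (by
        intro f hf hf'
        have hsub : ∀ f ∈ ({φ, χ} : Finset (N → ℂ)), f ∈ C := by
          intro f hf
          rcases Finset.mem_insert.1 hf with rfl | hf
          · exact hφ
          · rw [Finset.mem_singleton.1 hf]; exact hχC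
        exact hcx f (hsub f hf) (hsub _ hf')) (by
        rw [Finset.sum_pair hφχ, if_pos rfl, if_neg (Ne.symm hφχ), hdeg φ hφ, hdeg χ hχC]
        push_cast; ring)
    rw [Finset.sum_pair hφχ, if_pos rfl, if_neg (Ne.symm hφχ)] at hsp
    have e1 : ((1 : ℤ) : ℂ) • φ + ((-1 : ℤ) : ℂ) • χ = φ - χ := by
      push_cast
      rw [one_smul, neg_smul, one_smul, sub_eq_add_neg]
    rw [e1] at hsp
    have e2 : classInner (dadeIsometry A N R (φ - χ)) ψ = 0 := by
      rw [← classInner_conj_symm, hsp, map_zero]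
    rw [dade_duality d.dade (classFun_sub (irr_classFun (hC φ hφ)) (irr_classFun hχ)) ?_ hψc,
      classInner_sub_left] at e2
    · have e3 := sub_eq_zero.1 e2
      rw [← classInner_conj_symm φ β, ← classInner_conj_symm χ β]
      exact congrArg conj e3
    · intro x hx
      by_cases hx1 : x = 1
      · subst hx1
        rw [Pi.sub_apply, hdeg φ hφ, hdeg χ hχC, sub_self]
      · rw [Pi.sub_apply, d.vanish (hC φ hφ) hkφ hx1 hx, d.vanish hχ hk hx1 hx, sub_self]
  -- same inner products with `δ`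
  have hδeq : ∀ φ ∈ C, classInner δ φ = classInner δ χ := by
    intro φ hφ
    have e1 : classInner (β - δ) φ = classInner (β - δ) χ := by
      unfold classInner
      congr 1
      refine Finset.sum_congr rfl fun x _ => ?_
      by_cases hx : x ∈ H
      · rw [d.restrict_eq hθ (hC φ hφ) hχ (by rw [hin φ (hC φ hφ), if_pos hφ])
          (by rw [hin χ hχ, if_pos hχC]) hx]
      · simp [hδ, hx]
    rw [classInner_sub_left, classInner_sub_left, hβeq φ hφ] at e1
    exact sub_right_injective e1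
  have hδc : IsClassFunction N δ := by
    have hβc := rho_classFun d.dade hψc (L := N)
    intro g x
    have hiff : x * g * x⁻¹ ∈ H ↔ g ∈ H := by
      constructor
      · intro h
        have := d.normal.conj_mem _ h x⁻¹
        simpa [mul_assoc] using this
      · exact fun h => d.normal.conj_mem _ h x
    simp only [hδ, hiff]
    split_ifs
    · rfl
    · exact hβc g x
  have hsum : ∑ φ ∈ C, classInner δ φ = 0 := by
    rw [← classInner_sum_right, ← hI, frobenius_reciprocity' H θ hδc]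
    have : (fun h : H => δ h) = 0 := by
      funext h
      simp [hδ]
    rw [this, classInner_zero_left]
  rw [Finset.sum_congr rfl hδeq, Finset.sum_const, nsmul_eq_mul, mul_eq_zero] at hsum
  rcases hsum with h | h
  · exfalso
    rw [Nat.cast_eq_zero, Finset.card_eq_zero] at h
    rw [h] at hχC
    simp at hχC
  · exact h

/-- `ρ ψ` is constant on the cosets `H g`, `g ∉ H` -/
theorem rho_coset {ψ : G → ℂ} (hψc : IsClassFunction G ψ) (hψ : Orth A N R H ψ) {g h : N}
    (hg : g ∉ H) (hh : h ∈ H) : rho A N R ψ (h * g) = rho A N R ψ g := by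
  classical
  have : Fintype (IrrCharacter N) := Fintype.ofFinite _
  set δ : N → ℂ := fun x => if x ∈ H then 0 else rho A N R ψ x with hδ
  have hδc : IsClassFunction N δ := by
    have hβc := rho_classFun d.dade hψc (L := N)
    intro g x
    have hiff : x * g * x⁻¹ ∈ H ↔ g ∈ H := by
      constructor
      · intro h
        have := d.normal.conj_mem _ h x⁻¹
        simpa [mul_assoc] using this
      · exact fun h => d.normal.conj_mem _ h x
    simp only [hδ, hiff]
    split_ifs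
    · rfl
    · exact hβc g x
  have e1 : δ (h * g) = δ g := by
    rw [classFun_expand_apply hδc (h * g), classFun_expand_apply hδc g]
    refine Finset.sum_congr rfl ?_
    rintro ⟨χ, hχ⟩ -
    by_cases hk : ∃ h ∈ H, χ h ≠ χ 1
    · have := d.inner_off hψc hψ hχ hk
      change classInner δ χ * _ = classInner δ χ * _
      rw [this, zero_mul, zero_mul]
    · push Not at hk
      change classInner δ χ * χ (h * g) = classInner δ χ * χ g
      rw [H27.char_ker_mul (irr_isChar hχ) (hk h hh)]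
  have hhg : h * g ∉ H := fun hc => hg ((H.mul_mem_cancel_left hh).1 hc)
  simpa [hδ, hg, hhg] using e1

theorem rho_off_H {ψ : G → ℂ} {x : N} (hx : x ∉ H) (hxA : (x : G) ∈ A) :
    rho A N R ψ x = ψ x := by
  refine rho_const hxA (fun u hu => ?_)
  rw [d.off x hxA hx, Subgroup.mem_bot] at hu
  rw [hu, mul_one]

/-- (12.4) -/
theorem const_off {ψ : G → ℂ} (hψc : IsClassFunction G ψ) (hψ : Orth A N R H ψ) {g h : N}
    (hg : g ∉ H) (hh : h ∈ H) : ψ ((h * g : N) : G) = ψ g := by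
  classical
  obtain ⟨x, hx, h₁, hh₁, rfl⟩ := exists_coprime_rep d.normal d.hall g
  have hxH : x ∉ H := fun hc => hg (H.mul_mem hh₁ hc)
  have key : ∀ h ∈ H, ψ ((h * x : N) : G) = ψ x := by
    intro h hh
    by_cases hfree : ∀ h ∈ H, x * h = h * x → h = 1
    · exact classFun_const_of_free d.normal hfree (classFun_restrict N hψc) hh
    · push Not at hfree
      obtain ⟨h₀, hh₀, hc₀, hne₀⟩ := hfree
      obtain ⟨x₀, hx₀, c, hc, hcx, he⟩ := H11.PF.conj_coset H x
        (by rw [Subgroup.normalizer_eq_top_iff.2 d.normal]; trivial) hx h hh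
      have e1 : ψ ((h * x : N) : G) = ψ ((c * x : N) : G) := by
        rw [← he]
        exact (hψc _ _).symm
      have hcxH : c * x ∉ H := fun hc' => hxH ((H.mul_mem_cancel_left hc).1 hc')
      have hcxA : ((c * x : N) : G) ∈ A := by
        refine (d.mem_A _).2 ⟨fun e => hcxH (e ▸ H.one_mem), ?_⟩
        by_cases hc1 : c = 1
        · exact ⟨h₀, hh₀, hne₀, by rw [hc1, one_mul]; exact hc₀⟩
        · exact ⟨c, hc, hc1, by rw [mul_assoc, ← hcx]⟩
      have hxA : (x : G) ∈ A :=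
        (d.mem_A _).2 ⟨fun e => hxH (e ▸ H.one_mem), h₀, hh₀, hne₀, hc₀⟩
      rw [e1, ← d.rho_off_H (ψ := ψ) hcxH hcxA, ← d.rho_off_H (ψ := ψ) hxH hxA]
      exact d.rho_coset hψc hψ hxH hc
  rw [← mul_assoc, key _ (H.mul_mem hh hh₁), key _ hh₁]

theorem const_off' {ψ : G → ℂ} (hψc : IsClassFunction G ψ) (hψ : Orth A N R H ψ) {g h : N}
    (hg : g ∉ H) (hh : h ∈ H) : ψ ((g * h : N) : G) = ψ g := by
  have e : g * h = (g * h * g⁻¹) * g := by group
  rw [e]
  exact d.const_off hψc hψ hg (d.normal.conj_mem h hh g)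

/-- (12.5), first part -/
theorem inner_linear {ψ : G → ℂ} (hψ : Orth A N R H ψ) {θ₁ θ₂ : H → ℂ}
    (h1 : IsIrrCharacter H θ₁) (h2 : IsIrrCharacter H θ₂) (n1 : θ₁ ≠ fun _ => 1)
    (n2 : θ₂ ≠ fun _ => 1) (hd : θ₁ 1 = θ₂ 1) :
    classInner ψ (dadeIsometry A N R (indFun H θ₁ - indFun H θ₂)) = 0 := by
  classical
  have : Fintype H := Fintype.ofFinite H
  -- conjugate case
  by_cases hcj : ∃ x, θ₂ = cj d.normal x θ₁
  · obtain ⟨x, rfl⟩ := hcj
    rw [H11.PF.indFun_cj, sub_self]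
    have : dadeIsometry A N R (0 : N → ℂ) = 0 := by
      have := dade_smul (A := A) (L := N) (R := R) 0 (0 : N → ℂ)
      rwa [zero_smul, zero_smul] at this
    rw [this, classInner_zero_right]
  obtain ⟨C₁, hC₁, hI₁, m₁, -, hdeg₁⟩ := d.exists_C h1 n1
  obtain ⟨C₂, hC₂, hI₂, m₂, -, hdeg₂⟩ := d.exists_C h2 n2
  have hin₁ : ∀ φ : N → ℂ, IsIrrCharacter N φ → classInner (indFun H θ₁) φ = if φ ∈ C₁ then 1 else 0 :=
    fun φ hφ => d.inner_C hC₁ hI₁ hφ
  have hin₂ : ∀ φ : N → ℂ, IsIrrCharacter N φ → classInner (indFun H θ₂) φ = if φ ∈ C₂ then 1 else 0 :=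
    fun φ hφ => d.inner_C hC₂ hI₂ hφ
  have hk₁ : ∀ φ ∈ C₁, ∃ h ∈ H, φ h ≠ φ 1 := fun φ hφ => d.ker_C h1 n1 (hC₁ φ hφ) (by
      rw [hin₁ φ (hC₁ φ hφ), if_pos hφ]; exact one_ne_zero)
  have hk₂ : ∀ φ ∈ C₂, ∃ h ∈ H, φ h ≠ φ 1 := fun φ hφ => d.ker_C h2 n2 (hC₂ φ hφ) (by
      rw [hin₂ φ (hC₂ φ hφ), if_pos hφ]; exact one_ne_zero)
  have hcx₁ : ∀ φ ∈ C₁, conjFun φ ∉ C₁ := by
    intro φ hφ hc
    have := d.not_both h1 n1 (hC₁ φ hφ) (by rw [hin₁ φ (hC₁ φ hφ), if_pos hφ]; exact one_ne_zero)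
    rw [hin₁ _ (isIrr_conjFun (hC₁ φ hφ)), if_pos hc] at this
    exact one_ne_zero this
  have hcx₂ : ∀ φ ∈ C₂, conjFun φ ∉ C₂ := by
    intro φ hφ hc
    have := d.not_both h2 n2 (hC₂ φ hφ) (by rw [hin₂ φ (hC₂ φ hφ), if_pos hφ]; exact one_ne_zero)
    rw [hin₂ _ (isIrr_conjFun (hC₂ φ hφ)), if_pos hc] at this
    exact one_ne_zero this
  -- conjugate case for the complex conjugate
  by_cases hcj' : ∃ x, θ₂ = cj d.normal x (conjFun θ₁)
  · obtain ⟨x, rfl⟩ := hcj'
    rw [H11.PF.indFun_cj]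
    have e1 : indFun H (conjFun θ₁) = conjFun (indFun H θ₁) := conj_ind.symm
    rw [e1, hI₁]
    have e2 : (∑ χ ∈ C₁, χ) - conjFun (∑ χ ∈ C₁, χ) = ∑ χ ∈ C₁, (χ - conjFun χ) := by
      funext x
      simp [conjFun, Finset.sum_sub_distrib]
    rw [e2, dade_sum, classInner_sum_right]
    refine Finset.sum_eq_zero fun χ hχ => ?_
    obtain ⟨μ, hμ, hμe⟩ := d.exists_mu (hC₁ χ hχ) (hk₁ χ hχ)
    obtain ⟨o1, o2⟩ := hψ χ (hC₁ χ hχ) (hk₁ χ hχ) μ hμ hμe
    rw [hμe, classInner_sub_right, o1, o2, sub_zero]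
  -- general case
  have hdisj : ∀ φ ∈ C₁, φ ∉ C₂ := by
    intro φ hφ hφ'
    have := H11.PF.inner_ind_ne d.normal h1 h2 (fun g e => hcj ⟨g, e⟩)
    rw [hI₂, classInner_sum_left] at this
    have h3 : ∑ i ∈ C₂, classInner i (indFun H θ₁) = ((C₂ ∩ C₁).card : ℂ) := by
      rw [Finset.card_eq_sum_ones, Nat.cast_sum, ← Finset.sum_filter_add_sum_filter_not C₂ (· ∈ C₁)]
      rw [Finset.sum_eq_zero (s := C₂.filter (fun x => ¬ x ∈ C₁)), add_zero]
      · rw [Finset.filter_mem_eq_inter]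
        refine Finset.sum_congr rfl fun χ hχ => ?_
        have hχ' := Finset.mem_inter.1 hχ
        rw [← classInner_conj_symm, hin₁ χ (hC₁ χ hχ'.2), if_pos hχ'.2]; simp
      · intro χ hχ
        have hχ' := Finset.mem_filter.1 hχ
        rw [← classInner_conj_symm, hin₁ χ (hC₂ χ hχ'.1), if_neg hχ'.2]; simp
    rw [h3, Nat.cast_eq_zero, Finset.card_eq_zero] at this
    have h4 : φ ∈ C₂ ∩ C₁ := Finset.mem_inter.2 ⟨hφ', hφ⟩
    rw [this] at h4
    simp at h4
  have hdisj' : ∀ φ ∈ C₁, conjFun φ ∉ C₂ := by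
    intro φ hφ hφ'
    have h3 : IsIrrCharacter H (conjFun θ₁) := isIrr_conjFun h1
    have := H11.PF.inner_ind_ne d.normal h3 h2 (fun g e => hcj' ⟨g, e⟩)
    have e1 : indFun H (conjFun θ₁) = conjFun (indFun H θ₁) := conj_ind.symm
    rw [e1, hI₂, hI₁] at this
    have e2 : conjFun (∑ χ ∈ C₁, χ) = ∑ χ ∈ C₁, conjFun χ := by
      funext x; simp [conjFun]
    rw [e2, classInner_sum_left, Finset.sum_congr rfl (fun χ _ => classInner_sum_right C₁ _ _)] at this
    have h5 : ∀ χ ∈ C₂, ∀ ξ ∈ C₁, classInner χ (conjFun ξ) = if χ = conjFun ξ then 1 else 0 :=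
      fun χ hχ ξ hξ => classInner_irr (hC₂ χ hχ) (isIrr_conjFun (hC₁ ξ hξ))
    have h6 : ∑ χ ∈ C₂, ∑ ξ ∈ C₁, classInner χ (conjFun ξ) =
        ((∑ χ ∈ C₂, ∑ ξ ∈ C₁, (if χ = conjFun ξ then 1 else 0) : ℕ) : ℂ) := by
      push_cast
      refine Finset.sum_congr rfl fun χ hχ => Finset.sum_congr rfl fun ξ hξ => ?_
      rw [h5 χ hχ ξ hξ]
    rw [h6, Nat.cast_eq_zero, Finset.sum_eq_zero_iff] at this
    have h7 := this _ hφ'
    rw [Finset.sum_eq_zero_iff] at h7
    have h8 := h7 φ hφ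
    rw [if_pos rfl] at h8
    exact one_ne_zero h8
  have hsp := d.span hψ (C₁ ∪ C₂) (fun f => if f ∈ C₁ then 1 else -1) (by
      intro f hf
      rcases Finset.mem_union.1 hf with hf | hf
      · exact ⟨hC₁ f hf, hk₁ f hf⟩
      · exact ⟨hC₂ f hf, hk₂ f hf⟩) (by
      intro f _
      split_ifs <;> simp) (by
      intro f hf hf'
      rcases Finset.mem_union.1 hf with hf | hf <;> rcases Finset.mem_union.1 hf' with hf' | hf'
      · exact hcx₁ f hf hf'
      · exact hdisj' f hf hf'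
      · exact hdisj' _ hf' (by rw [conjFun_conjFun]; exact hf)
      · exact hcx₂ f hf hf') (by
      rw [Finset.sum_union (Finset.disjoint_left.2 hdisj)]
      have e1 : ∑ x ∈ C₁, (((if x ∈ C₁ then 1 else -1 : ℤ)) : ℂ) * x 1 = indFun H θ₁ 1 := by
        rw [hI₁, Finset.sum_apply]
        exact Finset.sum_congr rfl fun x hx => by rw [if_pos hx]; simp
      have e2 : ∑ x ∈ C₂, (((if x ∈ C₁ then 1 else -1 : ℤ)) : ℂ) * x 1 = - indFun H θ₂ 1 := by
        rw [hI₂, Finset.sum_apply, ← Finset.sum_neg_distrib]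
        exact Finset.sum_congr rfl fun x hx => by
          rw [if_neg (fun h => hdisj x h hx)]; simp
      rw [e1, e2, indFun_one_apply, indFun_one_apply, hd, add_neg_cancel])
  rw [Finset.sum_union (Finset.disjoint_left.2 hdisj)] at hsp
  have e1 : ∑ x ∈ C₁, (((if x ∈ C₁ then 1 else -1 : ℤ)) : ℂ) • x = indFun H θ₁ := by
    rw [hI₁]
    exact Finset.sum_congr rfl fun x hx => by rw [if_pos hx]; simp
  have e2 : ∑ x ∈ C₂, (((if x ∈ C₁ then 1 else -1 : ℤ)) : ℂ) • x = - indFun H θ₂ := by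
    rw [hI₂, ← Finset.sum_neg_distrib]
    exact Finset.sum_congr rfl fun x hx => by
      rw [if_neg (fun h => hdisj x h hx)]; simp
  rw [e1, e2, ← sub_eq_add_neg] at hsp
  exact hsp

end DSet

end Cfsg.Agent.T1
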