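import Cfsg.Agent.H7.T1G
import Cfsg.Agent.H11.PF3
import Cfsg.Agent.S1525

set_option autoImplicit false

/-! The two sides of the argument of Peterfalvi (12.5)-(12.16). -/

namespace Cfsg.Agent.T1

open Cfsg Subgroup Cfsg.Agent.H3
open scoped ComplexConjugate

universe u

section avrestrict
variable {X : Type u} [Group X] [Fintype X] {H : Subgroup X}

theorem av_restrict (f : X → ℂ) (y : H) [Fintype H] :
    av (⁅H, H⁆ : Subgroup X) f y = av (commutator H) (fun h : H => f h) y := by
  classical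
  have hmap : (commutator H).map H.subtype = ⁅H, H⁆ := Subgroup.map_subtype_commutator H
  let e : commutator H ≃ (⁅H, H⁆ : Subgroup X) :=
    ((commutator H).equivMapOfInjective H.subtype H.subtype_injective).toEquiv.trans
      (MulEquiv.subgroupCongr hmap).toEquiv
  rw [av_apply, av_apply, ← Equiv.sum_comp e, Nat.card_congr e]
  rfl

end avrestrict

namespace DSet
variable {G : Type u} [Group G] [Fintype G] {A : Set G} {N : Subgroup G} [Fintype N]
  {R : G → Subgroup G} {H : Subgroup N} (d : DSet A N R H)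
include d

/-- (12.5): the average of `ψ` over the cosets of `H'` in `H ∖ H'` is a constant integer -/
theorem av_const {ψ : G → ℂ} (hψg : IsGeneralizedCharacter G ψ) (hψ : Orth A N R H ψ)
    (hρ : ∀ a ∈ H, a ≠ 1 → rho A N R ψ a = ψ a) :
    ∃ c : ℤ, ∀ y ∈ H, y ∉ ⁅H, H⁆ → av ⁅H, H⁆ (fun x : N => ψ x) y = c := by
  classical
  have : Fintype H := Fintype.ofFinite H
  have hψc := isGen_classFun hψg
  set f : H → ℂ := fun h => ψ h with hf
  have hfg : IsGeneralizedCharacter H f :=
    isGen_restrict H (isGen_restrict N hψg)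
  by_cases hex : ∃ θ : H → ℂ, IsIrrCharacter H θ ∧ θ 1 = 1 ∧ θ ≠ fun _ => 1
  swap
  · refine ⟨0, fun y hy hy' => ?_⟩
    exfalso
    have key := av_derived (Y := H) (f := fun _ => 1) (classFun_const 1) (a := 0)
      (fun θ h1 h2 h3 => absurd ⟨θ, h1, h2, h3⟩ hex)
      (y := ⟨y, hy⟩) (fun h => hy' (by
        rw [← Subgroup.map_subtype_commutator H]
        exact ⟨_, h, rfl⟩))
    have key' := av_derived (Y := H) (f := fun _ => 1) (classFun_const 1) (a := 1)
      (fun θ h1 h2 h3 => absurd ⟨θ, h1, h2, h3⟩ hex)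
      (y := ⟨y, hy⟩) (fun h => hy' (by
        rw [← Subgroup.map_subtype_commutator H]
        exact ⟨_, h, rfl⟩))
    rw [key] at key'
    have h10 : (1 : ℂ) = 0 := by linear_combination key'
    exact one_ne_zero h10
  obtain ⟨θ₀, hθ₀, hd₀, hn₀⟩ := hex
  have hconst : ∀ θ : H → ℂ, IsIrrCharacter H θ → θ 1 = 1 → θ ≠ (fun _ => 1) →
      classInner f θ = classInner f θ₀ := by
    intro θ hθ hd hn
    have h1 := d.inner_linear hψ hθ hθ₀ hn hn₀ (by rw [hd, hd₀])
    have h2 : classInner (dadeIsometry A N R (indFun H θ - indFun H θ₀)) ψ = 0 := by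
      rw [← classInner_conj_symm, h1, map_zero]
    have hoff : ∀ x : N, (x : G) ∉ A → (indFun H θ - indFun H θ₀) x = 0 := by
      intro x hx
      by_cases hx1 : x = 1
      · subst hx1
        rw [Pi.sub_apply, indFun_one_apply, indFun_one_apply, hd, hd₀, sub_self]
      · have : x ∉ H := fun hxH => hx (d.A_of_mem hxH hx1)
        rw [Pi.sub_apply, indFun_not_mem_normal d.normal θ this,
          indFun_not_mem_normal d.normal θ₀ this, sub_self]
    rw [dade_duality d.dade (classFun_sub (indFun_classFun H θ) (indFun_classFun H θ₀)) hoff hψc,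
      ← indFun_sub, frobenius_reciprocity H _ (rho_classFun d.dade hψc)] at h2
    have h3 : classInner (θ - θ₀) f = 0 := by
      rw [← h2]
      unfold classInner
      congr 1
      refine Finset.sum_congr rfl fun h _ => ?_
      by_cases h1 : h = 1
      · subst h1
        simp [hd, hd₀]
      · change (θ - θ₀) h * conj (f h) = (θ - θ₀) h * conj (rho A N R ψ h)
        rw [hρ h h.2 (fun e => h1 (Subtype.ext e))]
    rw [classInner_sub_left, sub_eq_zero] at h3
    rw [← classInner_conj_symm θ f, ← classInner_conj_symm θ₀ f, h3]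
  obtain ⟨a, ha⟩ := classInner_gen_int hfg (isGen_of_irr hθ₀)
  obtain ⟨b, hb⟩ := classInner_gen_int hfg (isGen_of_irr (isIrr_one (G := H)))
  refine ⟨b - a, fun y hy hy' => ?_⟩
  have hyc : (⟨y, hy⟩ : H) ∉ commutator H := fun h => hy' (by
    rw [← Subgroup.map_subtype_commutator H]
    exact ⟨_, h, rfl⟩)
  have h1 := av_restrict (fun x : N => ψ x) (⟨y, hy⟩ : H)
  have h2 := av_derived (isGen_classFun hfg) hconst hyc
  rw [ha, hb] at h2
  change av ⁅H, H⁆ (fun x : N => ψ x) (⟨y, hy⟩ : H) = _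
  rw [h1, h2]
  push_cast
  ring

/-- (12.5): congruence -/
theorem av_congr {ψ : G → ℂ} (hψg : IsGeneralizedCharacter G ψ) (hψ : Orth A N R H ψ) {c : ℤ}
    (hc : ∀ y ∈ H, y ∉ ⁅H, H⁆ → av ⁅H, H⁆ (fun x : N => ψ x) y = c) {p : ℕ} (hp : p.Prime)
    {x y : N} (hx : x ∉ H) (hxp : x ^ p = 1) (hy : y ∈ H) (hy' : y ∉ ⁅H, H⁆)
    (hxy : x * y = y * x) :
    ∃ ω : ℂ, IsIntegral ℤ ω ∧ ψ x - c = (1 - Complex.exp (2 * Real.pi * Complex.I / p)) * ω := by
  have hN := d.normal
  have hD : (⁅H, H⁆ : Subgroup N).Normal := inferInstance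
  have hgen : IsGeneralizedCharacter N (av ⁅H, H⁆ (fun x : N => ψ x)) :=
    av_gen hD (isGen_restrict N hψg)
  obtain ⟨ω, hω, he⟩ := H11.PF.gen_congr hgen p hp x y hxp hxy
  refine ⟨ω, hω, ?_⟩
  rw [← he, hc y hy hy']
  congr 1
  have hle : (⁅H, H⁆ : Subgroup N) ≤ H := Subgroup.commutator_le_left H H
  have h1 : ∀ n ∈ (⁅H, H⁆ : Subgroup N), ψ ((n * (x * y) : N) : G) = ψ x := by
    intro n hn
    have e : n * (x * y) = (n * (x * y * x⁻¹)) * x := by group
    rw [e]
    exact d.const_off (isGen_classFun hψg) hψ hx (H.mul_mem (hle hn) (hN.conj_mem y hy x))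
  have h2 : av ⁅H, H⁆ (fun x : N => ψ x) (x * y) = ψ ((x * y : N) : G) :=
    av_of_const (fun n hn => by
      have := h1 1 (one_mem _)
      rw [one_mul] at this
      rw [h1 n hn, this])
  have := h1 1 (one_mem _)
  rw [one_mul] at this
  rw [h2, this]

omit d in
open Classical in
/-- Cauchy-Schwarz on `H ∖ H'` -/
theorem norm_lower {D : Subgroup N} (hDH : D ≤ H) {f : N → ℂ} {c : ℤ} (hc : ∀ y ∈ H, y ∉ D → av D f y = c) :
    ((Nat.card H : ℝ) - Nat.card D) * c ^ 2 ≤ ∑ x : N, if x ∈ H ∧ x ≠ 1 then ‖f x‖ ^ 2 else 0 := by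
  classical
  set S : Finset N := Finset.univ.filter (fun x => x ∈ H ∧ x ∉ D) with hS
  have hcard : (S.card : ℝ) = (Nat.card H : ℝ) - Nat.card D := by
    have h1 : S.card + Nat.card D = Nat.card H := by
      have e1 : (Finset.univ.filter (fun x : N => x ∈ H)).card = Nat.card H := by
        rw [Nat.card_eq_fintype_card, Fintype.card_subtype]
      have e2 : (Finset.univ.filter (fun x : N => x ∈ D)).card = Nat.card D := by
        rw [Nat.card_eq_fintype_card, Fintype.card_subtype]
      rw [← e1, ← e2, ← Finset.card_union_of_disjoint]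
      · congr 1
        ext x
        simp only [hS, Finset.mem_union, Finset.mem_filter, Finset.mem_univ, true_and]
        constructor
        · rintro (⟨h, -⟩ | h)
          · exact h
          · exact hDH h
        · intro h
          by_cases h' : x ∈ D
          · exact Or.inr h'
          · exact Or.inl ⟨h, h'⟩
      · rw [Finset.disjoint_left]
        intro x hx hx'
        exact (Finset.mem_filter.1 hx).2.2 (Finset.mem_filter.1 hx').2
    rw [← h1]; push_cast; ring
  have hsum : ∑ x ∈ S, f x = (S.card : ℂ) * c := by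
    have h1 : ∑ x ∈ S, av D f x = (S.card : ℂ) * c := by
      rw [Finset.sum_congr rfl (g := fun _ => (c : ℂ)), Finset.sum_const, nsmul_eq_mul]
      intro x hx
      have := (Finset.mem_filter.1 hx).2
      exact hc x this.1 this.2
    rw [← h1]
    simp only [av_apply]
    rw [← Finset.mul_sum, Finset.sum_comm]
    have h2 : ∀ n : D, ∑ x ∈ S, f (n * x) = ∑ x ∈ S, f x := by
      intro n
      refine Finset.sum_bij' (fun x _ => (n : N) * x) (fun x _ => (n : N)⁻¹ * x) ?_ ?_ ?_ ?_ ?_
      · intro x hx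
        have := (Finset.mem_filter.1 hx).2
        refine Finset.mem_filter.2 ⟨Finset.mem_univ _, H.mul_mem (hDH n.2) this.1, ?_⟩
        exact fun h => this.2 ((D.mul_mem_cancel_left n.2).1 h)
      · intro x hx
        have := (Finset.mem_filter.1 hx).2
        refine Finset.mem_filter.2 ⟨Finset.mem_univ _, H.mul_mem (H.inv_mem (hDH n.2)) this.1, ?_⟩
        exact fun h => this.2 ((D.mul_mem_cancel_left (D.inv_mem n.2)).1 h)
      · intro x _; simp
      · intro x _; simp
      · intro x _; rfl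
    rw [Finset.sum_congr rfl (fun n _ => h2 n), Finset.sum_const, nsmul_eq_mul, ← mul_assoc,
      Finset.card_univ, ← Nat.card_eq_fintype_card, inv_mul_cancel₀, one_mul]
    exact_mod_cast Nat.card_pos.ne'
  have hpos : 0 ≤ ∑ x ∈ S, ‖f x - c‖ ^ 2 := Finset.sum_nonneg fun _ _ => sq_nonneg _
  have hexp : ∑ x ∈ S, ‖f x - c‖ ^ 2 = ∑ x ∈ S, ‖f x‖ ^ 2 - (S.card : ℝ) * c ^ 2 := by
    have h1 : ∀ x : N, ‖f x - c‖ ^ 2 = ‖f x‖ ^ 2 - 2 * c * (f x).re + (c : ℝ) ^ 2 := by
      intro x
      rw [← Complex.normSq_eq_norm_sq, ← Complex.normSq_eq_norm_sq, Complex.normSq_apply,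
        Complex.normSq_apply]
      simp
      ring
    rw [Finset.sum_congr rfl (fun x _ => h1 x), Finset.sum_add_distrib, Finset.sum_sub_distrib,
      ← Finset.mul_sum, ← Complex.re_sum, hsum, Finset.sum_const, nsmul_eq_mul]
    simp
    ring
  rw [hexp] at hpos
  have hle : ∑ x ∈ S, ‖f x‖ ^ 2 ≤ ∑ x : N, if x ∈ H ∧ x ≠ 1 then ‖f x‖ ^ 2 else 0 := by
    rw [← Finset.sum_filter]
    refine Finset.sum_le_sum_of_subset_of_nonneg ?_ (fun _ _ _ => sq_nonneg _)
    intro x hx
    have := (Finset.mem_filter.1 hx).2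
    refine Finset.mem_filter.2 ⟨Finset.mem_univ _, this.1, ?_⟩
    rintro rfl
    exact this.2 D.one_mem
  rw [← hcard]
  linarith

end DSet

end Cfsg.Agent.T1
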