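import Cfsg.Agent.H7.T1H
import Cfsg.Agent.H3.CohE

set_option autoImplicit false

/-! The side of the Frobenius group `M` in the argument of Peterfalvi (12.16). -/

namespace Cfsg.Agent.T1

open Cfsg Subgroup Cfsg.Agent.H3
open scoped ComplexConjugate

universe u

namespace DSet
variable {G : Type u} [Group G] [Fintype G] {A : Set G} {M : Subgroup G} [Fintype M]
  {R : G → Subgroup G} {K : Subgroup M} (d : DSet A M R K)
include d

variable (hA : ∀ a : M, (a : G) ∈ A ↔ a ∈ K ∧ a ≠ 1)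
  (hirr : ∀ χ ∈ inducedIrrAbove K ⊥, IsIrrCharacter M χ) {τ₁ : (M → ℂ) → (G → ℂ)}
  (hτ : CohMap (inducedIrrAbove K ⊥) (dadeIsometry A M R) τ₁)

include hA

theorem rho_one (ψ : G → ℂ) : rho A M R ψ 1 = 0 := by
  apply rho_off
  intro h
  exact d.dade.one_not_mem h

include hirr hτ

theorem rho_coh {θ₀ : K → ℂ} (hθ₀ : IsIrrCharacter K θ₀) (hn₀ : θ₀ ≠ fun _ => 1)
    (hd₀ : θ₀ 1 = 1) :
    ∃ c : ℤ, ∀ a ∈ K, a ≠ 1 → rho A M R (τ₁ (indFun K θ₀)) a = indFun K θ₀ a + c := by
  classical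
  have hK := d.normal
  have : Fintype K := Fintype.ofFinite K
  have : Fintype (IrrCharacter K) := Fintype.ofFinite _
  set lam : M → ℂ := indFun K θ₀ with hlam
  have hlS : lam ∈ inducedIrrAbove K ⊥ :=
    ⟨θ₀, hθ₀, hn₀, fun a ha => by
      have : a = 1 := Subtype.ext ha
      rw [this], rfl⟩
  set ψ : G → ℂ := τ₁ lam with hψ
  have hψg : IsGeneralizedCharacter G ψ := hτ.gen (zspan_mem hlS)
  have hψc := isGen_classFun hψg
  set β := rho A M R ψ with hβ
  have hβc : IsClassFunction M β := rho_classFun d.dade hψc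
  have hlamc : IsClassFunction M lam := indFun_classFun K θ₀
  have hlam1 : lam 1 = (K.index : ℂ) := by rw [hlam, indFun_one_apply, hd₀, mul_one]
  have hlami : IsIrrCharacter M lam := hirr lam hlS
  set g : M → ℂ := β - lam with hg
  have hgc : IsClassFunction M g := classFun_sub hβc hlamc
  -- inner products with members of `S`
  have hS : ∀ θ : K → ℂ, IsIrrCharacter K θ → θ ≠ (fun _ => 1) →
      classInner θ (fun k : K => g k) = θ 1 * classInner lam g := by
    intro θ hθ hn
    have hχS : indFun K θ ∈ inducedIrrAbove K ⊥ :=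
      ⟨θ, hθ, hn, fun a ha => by
        have : a = 1 := Subtype.ext ha
        rw [this], rfl⟩
    obtain ⟨n, -, hn1⟩ := irr_one_eq_nat hθ
    have hα : indFun K θ - (n : ℤ) • lam ∈ zspanOn (inducedIrrAbove K ⊥) ({1}ᶜ : Set M) := by
      rw [zspanOn_one]
      refine ⟨zspan_sub (zspan_mem hχS) (zspan_smul _ (zspan_mem hlS)), ?_⟩
      rw [Pi.sub_apply, Pi.smul_apply, indFun_one_apply, hn1, hlam1]
      simp
      ring
    have hαoff : ∀ x : M, (x : G) ∉ A → (indFun K θ - (n : ℤ) • lam) x = 0 := by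
      intro x hx
      by_cases hx1 : x = 1
      · subst hx1; exact (zspanOn_one.1 hα).2
      · have hxK : x ∉ K := fun h => hx ((hA x).2 ⟨h, hx1⟩)
        rw [Pi.sub_apply, Pi.smul_apply, hlam, indFun_not_mem_normal hK θ hxK,
          indFun_not_mem_normal hK θ₀ hxK, smul_zero, sub_zero]
    have hαc : IsClassFunction M (indFun K θ - (n : ℤ) • lam) := by
      rw [zsmul_eq_smul]
      exact classFun_sub (indFun_classFun K θ) (classFun_smul _ hlamc)
    have h1 := dade_duality d.dade hαc hαoff hψc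
    rw [← hτ.2 _ hα, hψ, hτ.inner hα.1 (zspan_mem hlS)] at h1
    -- `⟨α, lam⟩ = ⟨α, β⟩`
    have h2 : classInner (indFun K θ - (n : ℤ) • lam) g = 0 := by
      rw [hg, classInner_sub_right, hβ, ← h1, sub_self]
    rw [classInner_sub_left, classInner_zsmul_left, sub_eq_zero, frobenius_reciprocity K θ hgc] at h2
    rw [h2, hn1]
    simp
  -- expand `g` on `K`
  set gK : K → ℂ := fun k => g k with hgK
  have hgKc : IsClassFunction K gK := classFun_restrict K hgc
  set b : ℂ := classInner g lam with hb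
  set a₁ : ℂ := classInner gK (fun _ => 1) with ha₁
  have hcoef : ∀ θ : IrrCharacter K, classInner gK θ =
      (if (θ : K → ℂ) = (fun _ => 1) then a₁ - b else 0) + b * (θ : K → ℂ) 1 := by
    rintro ⟨θ, hθ⟩
    obtain ⟨n, -, hn1⟩ := irr_one_eq_nat hθ
    by_cases h1 : θ = fun _ => 1
    · subst h1; simp [ha₁]
    · rw [if_neg h1, zero_add]
      have := hS θ hθ h1
      rw [← classInner_conj_symm, this, map_mul, classInner_conj_symm, mul_comm]
      change _ = b * θ 1
      rw [hn1, hb]; simp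
  have hgval : ∀ k : K, k ≠ 1 → gK k = a₁ - b := by
    intro k hk
    rw [classFun_expand_apply hgKc k]
    have h1 := sum_degree_mul (G := K) k
    rw [if_neg hk] at h1
    have h2 : ∀ θ : IrrCharacter K, classInner gK θ * (θ : K → ℂ) k =
        (if θ = ⟨fun _ => 1, isIrr_one⟩ then a₁ - b else 0) + b * ((θ : K → ℂ) 1 * (θ : K → ℂ) k) := by
      intro θ
      rw [hcoef θ]
      by_cases h1 : (θ : K → ℂ) = (fun _ => 1)
      · have h3 : θ = ⟨fun _ => 1, isIrr_one⟩ := Subtype.ext h1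
        rw [if_pos h1, if_pos h3, h1]; ring
      · rw [if_neg h1, if_neg (fun e => h1 (congrArg Subtype.val e))]; ring
    rw [Finset.sum_congr rfl (fun θ _ => h2 θ), Finset.sum_add_distrib, ← Finset.mul_sum, h1,
      mul_zero, add_zero, Finset.sum_ite_eq' Finset.univ, if_pos (Finset.mem_univ _)]
  -- integrality
  have hint : ∃ c : ℤ, a₁ - b = c := by
    set φ : M → ℂ := indFun K (fun _ => 1) - lam with hφ
    have hφg : IsGeneralizedCharacter M φ :=
      isGen_sub (isGen_ind K (isGen_of_irr isIrr_one)) (isGen_of_irr hlami)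
    have hφoff : ∀ x : M, (x : G) ∉ A → φ x = 0 := by
      intro x hx
      by_cases hx1 : x = 1
      · subst hx1
        rw [hφ, Pi.sub_apply, indFun_one_apply, hlam1, mul_one, sub_self]
      · have hxK : x ∉ K := fun h => hx ((hA x).2 ⟨h, hx1⟩)
        rw [hφ, Pi.sub_apply, hlam, indFun_not_mem_normal hK _ hxK,
          indFun_not_mem_normal hK θ₀ hxK, sub_self]
    obtain ⟨n, hn⟩ := classInner_gen_int hψg (H11.PF.dade_gen d.dade hφg hφoff)
    have h1 : classInner (dadeIsometry A M R φ) ψ = classInner φ β :=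
      dade_duality d.dade (isGen_classFun hφg) hφoff hψc
    have h2 : classInner β φ = n := by
      rw [← classInner_conj_symm, ← h1, classInner_conj_symm, hn]
    refine ⟨n + 1, ?_⟩
    have h3 : classInner lam (indFun K (fun _ : K => (1 : ℂ))) = 0 := by
      refine H11.PF.inner_ind_ne hK isIrr_one hθ₀ (fun g e => hn₀ ?_)
      rw [e]; rfl
    have h4 : a₁ = classInner β (indFun K (fun _ : K => (1 : ℂ))) := by
      rw [ha₁, ← frobenius_reciprocity' K (fun _ : K => (1 : ℂ)) hgc, hg, classInner_sub_left, h3,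
        sub_zero]
    have h5 : b = classInner β lam - 1 := by
      rw [hb, hg, classInner_sub_left, classInner_self_of_irr hlami]
    rw [h4, h5]
    rw [hφ, classInner_sub_right] at h2
    push_cast
    rw [← h2]; ring
  obtain ⟨c, hc⟩ := hint
  refine ⟨c, fun a ha ha1 => ?_⟩
  have := hgval ⟨a, ha⟩ (fun e => ha1 (congrArg Subtype.val e))
  rw [hc] at this
  have h6 : g a = c := this
  rw [hg, Pi.sub_apply] at h6
  change β a = lam a + c
  linear_combination h6

omit hA hirr hτ in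
open Classical in
theorem norm_coh {θ₀ : K → ℂ} (hθ₀ : IsIrrCharacter K θ₀) (hn₀ : θ₀ ≠ fun _ => 1)
    (hd₀ : θ₀ 1 = 1) (hli : IsIrrCharacter M (indFun K θ₀)) (c : ℤ) :
    ∑ x : M, (if x ∈ K ∧ x ≠ 1 then ‖indFun K θ₀ x + c‖ ^ 2 else 0) =
      (Nat.card M : ℝ) + Nat.card K * c ^ 2 - (K.index + c) ^ 2 := by
  have hK := d.normal
  have : Fintype K := Fintype.ofFinite K
  set lam : M → ℂ := indFun K θ₀ with hlam
  have hM0 : (Nat.card M : ℝ) ≠ 0 := by exact_mod_cast Nat.card_pos.ne'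
  have e1 : ∑ x : M, ‖lam x‖ ^ 2 = (Nat.card M : ℝ) := by
    have h1 := classInner_self_eq lam
    rw [classInner_self_of_irr hli] at h1
    have h2 : (1 : ℝ) = (Nat.card M : ℝ)⁻¹ * ∑ g : M, ‖lam g‖ ^ 2 := by exact_mod_cast h1
    field_simp at h2
    linarith
  have e2 : ∑ x : M, lam x = 0 := by
    have h1 : classInner lam (fun _ => 1) = 0 := by
      rw [hlam, frobenius_reciprocity K θ₀ (classFun_const 1)]
      exact classInner_of_irr_ne hθ₀ isIrr_one hn₀
    unfold classInner at h1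
    have h2 : (Nat.card M : ℂ)⁻¹ ≠ 0 := inv_ne_zero (by exact_mod_cast Nat.card_pos.ne')
    have h3 := (mul_eq_zero.1 h1).resolve_left h2
    simpa using h3
  have hoff : ∀ x : M, x ∉ K → lam x = 0 := fun x hx => indFun_not_mem_normal hK θ₀ hx
  have hexp : ∀ x : M, ‖lam x + c‖ ^ 2 = ‖lam x‖ ^ 2 + 2 * c * (lam x).re + (c : ℝ) ^ 2 := by
    intro x
    rw [← Complex.normSq_eq_norm_sq, ← Complex.normSq_eq_norm_sq, Complex.normSq_apply,
      Complex.normSq_apply]
    simp
    ring
  have e3 : ∑ x : M, (if x ∈ K then ‖lam x + c‖ ^ 2 else 0) = (Nat.card M : ℝ) + Nat.card K * c ^ 2 := by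
    have h1 : ∀ x : M, (if x ∈ K then ‖lam x + c‖ ^ 2 else 0) =
        ‖lam x‖ ^ 2 + 2 * c * (lam x).re + (if x ∈ K then (c : ℝ) ^ 2 else 0) := by
      intro x
      by_cases hx : x ∈ K
      · rw [if_pos hx, if_pos hx, hexp]
      · rw [if_neg hx, if_neg hx, hoff x hx]; simp
    rw [Finset.sum_congr rfl (fun x _ => h1 x), Finset.sum_add_distrib, Finset.sum_add_distrib, e1,
      ← Finset.mul_sum, ← Complex.re_sum, e2, ← Finset.sum_filter, Finset.sum_const, nsmul_eq_mul]
    have h2 : (Finset.univ.filter (fun x : M => x ∈ K)).card = Nat.card K := by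
      rw [Nat.card_eq_fintype_card, Fintype.card_subtype]
    rw [h2]
    simp
  have e4 : ∑ x : M, (if x ∈ K then ‖lam x + c‖ ^ 2 else 0) =
      ∑ x : M, (if x ∈ K ∧ x ≠ 1 then ‖lam x + c‖ ^ 2 else 0) + ‖lam 1 + c‖ ^ 2 := by
    have h1 : ∀ x : M, (if x ∈ K then ‖lam x + c‖ ^ 2 else 0) =
        (if x ∈ K ∧ x ≠ 1 then ‖lam x + c‖ ^ 2 else 0) + (if x = 1 then ‖lam x + c‖ ^ 2 else 0) := by
      intro x
      by_cases hx1 : x = 1
      · subst hx1; simp [K.one_mem]
      · simp [hx1]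
    rw [Finset.sum_congr rfl (fun x _ => h1 x), Finset.sum_add_distrib, Finset.sum_ite_eq'
      Finset.univ, if_pos (Finset.mem_univ _)]
  have e5 : ‖lam 1 + c‖ ^ 2 = (K.index + c : ℝ) ^ 2 := by
    rw [hlam, indFun_one_apply, hd₀, mul_one]
    have : ((K.index : ℂ) + (c : ℂ)) = (((K.index : ℝ) + (c : ℝ) : ℝ) : ℂ) := by push_cast; rfl
    rw [this, Complex.norm_real, Real.norm_eq_abs, sq_abs]
  rw [e3, e5] at e4
  linarith

end DSet

end Cfsg.Agent.T1
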