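import Cfsg.Agent.H7.T1I

set_option autoImplicit false

/-! Combination of the two sides: an inequality and a congruence. -/

namespace Cfsg.Agent.T1

open Cfsg Subgroup Cfsg.Agent.H3
open scoped ComplexConjugate

universe u

variable {G : Type u} [Group G]

/-- the union of the conjugates of the cosets `a R(a)`, `a ∈ A` -/
def supp (A : Set G) (R : G → Subgroup G) : Set G :=
  {g | ∃ a ∈ A, ∃ u ∈ R a, ∃ x : G, x * g * x⁻¹ = a * u}

theorem dade_supp [Fintype G] {B B₁ : Set G} {N : Subgroup G} {S : G → Subgroup G}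
    (hD : DadeHypothesis B N S) {α : N → ℂ} (hα : IsClassFunction N α)
    (hoff : ∀ x : N, (x : G) ∉ B₁ → α x = 0) {g : G} (hg : g ∉ supp B₁ S) :
    dadeIsometry B N S α g = 0 := by
  by_cases h : ∃ a : ↥N, (a : G) ∈ B ∧ ∃ x : G, ∃ u ∈ S (a : G), x * g * x⁻¹ = (a : G) * u
  · obtain ⟨a, ha, x, u, hu, he⟩ := h
    rw [H11.PF.dade_apply hD hα ha hu he]
    apply hoff
    intro ha1
    exact hg ⟨a, ha1, u, hu, x, he⟩
  · exact H11.PF.dade_zero hD h

theorem norm_two_supp [Fintype G] {A B : Set G} {M L : Subgroup G} [Fintype M] [Fintype L]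
    {R S : G → Subgroup G} (hD : DadeHypothesis A M R) (hE : DadeHypothesis B L S)
    (hdisj : Disjoint (supp A R) (supp B S)) {ψ : G → ℂ} (hψ : IsClassFunction G ψ)
    {f : M → ℂ} {h : L → ℂ} (hf : ∀ a : M, (a : G) ∈ A → rho A M R ψ a = f a)
    (hh : ∀ a : L, (a : G) ∈ B → rho B L S ψ a = h a) [DecidablePred (· ∈ A)]
    [DecidablePred (· ∈ B)] :
    (Nat.card M : ℝ)⁻¹ * (∑ a : M, if (a : G) ∈ A then ‖f a‖ ^ 2 else 0) +
      (Nat.card L : ℝ)⁻¹ * (∑ a : L, if (a : G) ∈ B then ‖h a‖ ^ 2 else 0) ≤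
        (classInner ψ ψ).re := by
  classical
  have key : ∀ (A : Set G) (M : Subgroup G) [Fintype M] (R : G → Subgroup G)
      (hD : DadeHypothesis A M R) (f : M → ℂ) (hf : ∀ a : M, (a : G) ∈ A → rho A M R ψ a = f a),
      (Nat.card M : ℝ)⁻¹ * (∑ a : M, if (a : G) ∈ A then ‖f a‖ ^ 2 else 0) ≤
        (Nat.card G : ℝ)⁻¹ * ∑ g : G, if g ∈ supp A R then ‖ψ g‖ ^ 2 else 0 := by
    intro A M _ R hD f hf
    have h1 := S1525.result A M R hD ψ hψ f (fun a ha => by
      rw [← hf a ha, rho, if_pos ha])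
    have e1 : ∑ᶠ a ∈ {a : M | (a : G) ∈ A}, ‖f a‖ ^ 2 =
        ∑ a : M, if (a : G) ∈ A then ‖f a‖ ^ 2 else 0 := by
      rw [finsum_eq_sum_of_fintype]
      refine Finset.sum_congr rfl fun a _ => ?_
      rw [finsum_eq_if]
      rfl
    have e2 : ∑ᶠ g ∈ {g : G | ∃ a ∈ A, ∃ u ∈ R a, ∃ x : G, x * g * x⁻¹ = a * u}, ‖ψ g‖ ^ 2 =
        ∑ g : G, if g ∈ supp A R then ‖ψ g‖ ^ 2 else 0 := by
      rw [finsum_eq_sum_of_fintype]
      refine Finset.sum_congr rfl fun a _ => ?_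
      rw [finsum_eq_if]
      have hiff : a ∈ {g : G | ∃ a ∈ A, ∃ u ∈ R a, ∃ x : G, x * g * x⁻¹ = a * u} ↔
        a ∈ supp A R := Iff.rfl
      by_cases h : a ∈ supp A R
      · rw [if_pos h, if_pos (hiff.2 h)]
      · rw [if_neg h, if_neg (fun h' => h (hiff.1 h'))]
    rw [e1, e2] at h1
    exact h1
  have h1 := key A M R hD f hf
  have h2 := key B L S hE h hh
  have h3 : (classInner ψ ψ).re = (Nat.card G : ℝ)⁻¹ * ∑ g : G, ‖ψ g‖ ^ 2 := by
    rw [classInner_self_eq, Complex.ofReal_re]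
  have h4 : (∑ g : G, if g ∈ supp A R then ‖ψ g‖ ^ 2 else 0) +
      (∑ g : G, if g ∈ supp B S then ‖ψ g‖ ^ 2 else 0) ≤ ∑ g : G, ‖ψ g‖ ^ 2 := by
    rw [← Finset.sum_add_distrib]
    refine Finset.sum_le_sum fun g _ => ?_
    by_cases hA : g ∈ supp A R
    · have hB : g ∉ supp B S := fun hB => Set.disjoint_left.1 hdisj hA hB
      rw [if_pos hA, if_neg hB, add_zero]
    · rw [if_neg hA, zero_add]
      split_ifs
      · exact le_rfl
      · exact sq_nonneg _
  have hpos : (0 : ℝ) ≤ (Nat.card G : ℝ)⁻¹ := by positivity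
  have h5 := mul_le_mul_of_nonneg_left h4 hpos
  rw [mul_add] at h5
  rw [h3]
  have e3 : ∀ (A : Set G) [DecidablePred (· ∈ A)] (M : Subgroup G) [Fintype M] (f : M → ℂ),
      (∑ a : M, if (a : G) ∈ A then ‖f a‖ ^ 2 else 0) =
      (∑ a : M, @ite _ ((a : G) ∈ A) (Classical.propDecidable _) (‖f a‖ ^ 2) 0) := by
    intro A _ M _ f
    refine Finset.sum_congr rfl fun a _ => ?_
    split_ifs <;> rfl
  rw [e3 A M f, e3 B L h]
  linarith

namespace DSet
variable [Fintype G] {A : Set G} {M : Subgroup G} [Fintype M]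
  {R : G → Subgroup G} {K : Subgroup M} (d : DSet A M R K)
  (hA : ∀ a : M, (a : G) ∈ A ↔ a ∈ K ∧ a ≠ 1)
  (hirr : ∀ χ ∈ inducedIrrAbove K ⊥, IsIrrCharacter M χ) {τ₁ : (M → ℂ) → (G → ℂ)}
  (hτ : CohMap (inducedIrrAbove K ⊥) (dadeIsometry A M R) τ₁)

include d hirr hτ in
omit hA in
/-- `τ₁ λ` is a signed irreducible character `ε η` with `η - η̄ = ε τ(λ - λ̄)` -/
theorem coh_irr (hKt : K ≠ ⊤) {lam : M → ℂ} (hlS : lam ∈ inducedIrrAbove K ⊥) :
    ∃ ε : ℂ, (ε = 1 ∨ ε = -1) ∧ IsIrrCharacter G (ε • τ₁ lam) ∧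
      (ε • τ₁ lam) - conjFun (ε • τ₁ lam) = ε • dadeIsometry A M R (lam - conjFun lam) := by
  have hK := d.normal
  have hli := hirr lam hlS
  have hlcS := conj_above hlS
  have hlci := hirr _ hlcS
  have hl1 : lam ≠ fun _ => 1 := by
    rintro rfl
    obtain ⟨θ, hθ, h1, -, h2⟩ := hlS
    obtain ⟨x, hx⟩ : ∃ x, x ∉ K := by
      by_contra h
      push Not at h
      exact hKt ((Subgroup.eq_top_iff' _).2 h)
    have := congrFun h2 x
    rw [indFun_not_mem_normal hK θ hx] at this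
    exact one_ne_zero this
  have hne : conjFun lam ≠ lam := conjFun_ne_of_odd d.oddN hli hl1
  obtain ⟨ε, hε, h1, h2⟩ := coh_sign hirr ⟨lam, hlS, _, hlcS, Ne.symm hne⟩ hτ.1 (by
    intro α hα h1
    rw [hτ.2 α (zspanOn_one.2 ⟨hα, h1⟩)]
    exact dade_one d.dade α)
  have hεε : ε * ε = 1 := by rcases hε with h | h <;> rw [h] <;> norm_num
  refine ⟨ε, hε, h1 lam hlS, ?_⟩
  have hk : ∃ h ∈ K, lam h ≠ lam 1 := by
    obtain ⟨θ, hθ, hn, -, rfl⟩ := hlS
    exact d.ker_C hθ hn hli (by rw [classInner_self_of_irr hli]; exact one_ne_zero)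
  obtain ⟨μ, hμ, hμe⟩ := d.exists_mu hli hk
  have e1 : τ₁ lam - τ₁ (conjFun lam) = μ - conjFun μ := by
    rw [← hμe, ← hτ.sub (zspan_mem hlS) (zspan_mem hlcS), hτ.2]
    rw [zspanOn_one]
    refine ⟨zspan_sub (zspan_mem hlS) (zspan_mem hlcS), ?_⟩
    obtain ⟨n, -, hn⟩ := irr_one_eq_nat hli
    simp [conjFun, hn]
  have hηη : ε • τ₁ lam ≠ ε • τ₁ (conjFun lam) := by
    intro e
    apply hne
    refine (h2 lam hlS _ hlcS ?_).symm
    have := congrArg (ε • ·) e
    simpa [smul_smul, hεε] using this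
  have hμc := isIrr_conjFun hμ
  have hconj : ε • τ₁ (conjFun lam) = conjFun (ε • τ₁ lam) := by
    rcases hε with h | h
    · subst h
      rw [one_smul, one_smul] at *
      obtain ⟨k1, k2⟩ := irr_diff_eq (by simpa using h1 lam hlS) (by simpa using h1 _ hlcS)
        hμ hμc hηη e1
      rw [k1, k2]
    · subst h
      have e2 : (-1 : ℂ) • τ₁ (conjFun lam) - (-1 : ℂ) • τ₁ lam = μ - conjFun μ := by
        rw [← e1]; simp only [neg_smul, one_smul]; ring
      obtain ⟨k1, k2⟩ := irr_diff_eq (h1 _ hlcS) (h1 lam hlS) hμ hμc (Ne.symm hηη) e2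
      rw [k1, k2, conjFun_conjFun]
  rw [← hconj, hμe, ← e1, smul_sub]

include d hA hirr hτ in
/-- (12.3) for `τ₁ λ` -/
theorem orth_coh (hKt : K ≠ ⊤) {lam : M → ℂ} (hlS : lam ∈ inducedIrrAbove K ⊥)
    {B B₁ : Set G} {N : Subgroup G} [Fintype N] {S : G → Subgroup G} {H : Subgroup N}
    (dN : DSet B N S H) (hB₁ : ∀ a : N, (a : G) ∈ B₁ ↔ a ∈ H ∧ a ≠ 1)
    (hdisj : Disjoint (supp A R) (supp B₁ S)) : Orth B N S H (τ₁ lam) := by
  obtain ⟨ε, hε, h1, h2⟩ := d.coh_irr hirr hτ hKt hlS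
  have hεε : ε * ε = 1 := by rcases hε with h | h <;> rw [h] <;> norm_num
  have hεc : conj ε = ε := by rcases hε with h | h <;> rw [h] <;> simp
  have hO : Orth B N S H (ε • τ₁ lam) := by
    refine dN.orth_of h1 (fun θ hθ hn => ?_)
    rw [h2, classInner_smul_left]
    have : classInner (dadeIsometry A M R (lam - conjFun lam))
        (dadeIsometry B N S (indFun H θ - conjFun (indFun H θ))) = 0 := by
      unfold classInner
      refine mul_eq_zero_of_right _ (Finset.sum_eq_zero fun g _ => ?_)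
      by_cases hg : g ∈ supp A R
      · have hg' : g ∉ supp B₁ S := fun h => Set.disjoint_left.1 hdisj hg h
        rw [dade_supp dN.dade (classFun_sub (indFun_classFun H θ)
          (classFun_conjFun (indFun_classFun H θ))) ?_ hg', map_zero, mul_zero]
        intro x hx
        by_cases hx1 : x = 1
        · subst hx1
          obtain ⟨n, -, hn⟩ := irr_one_eq_nat hθ
          simp [conjFun, indFun_one_apply, hn]
        · have : x ∉ H := fun hxH => hx ((hB₁ x).2 ⟨hxH, hx1⟩)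
          simp [conjFun, indFun_not_mem_normal dN.normal θ this]
      · have hlc : IsClassFunction M lam := irr_classFun (hirr lam hlS)
        rw [dade_supp d.dade (B₁ := A) (classFun_sub hlc (classFun_conjFun hlc)) ?_ hg, zero_mul]
        intro x hx
        obtain ⟨θ', hθ', hn', -, rfl⟩ := hlS
        by_cases hx1 : x = 1
        · subst hx1
          obtain ⟨n, -, hn⟩ := irr_one_eq_nat hθ'
          simp [conjFun, indFun_one_apply, hn]
        · have : x ∉ K := fun hxH => hx ((hA x).2 ⟨hxH, hx1⟩)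
          simp [conjFun, indFun_not_mem_normal d.normal θ' this]
    rw [this, mul_zero]
  intro χ hχ hk μ hμ hμe
  obtain ⟨o1, o2⟩ := hO χ hχ hk μ hμ hμe
  rw [classInner_smul_left] at o1 o2
  have hε0 : ε ≠ 0 := fun e => by rw [e] at hεε; simp at hεε
  exact ⟨(mul_eq_zero.1 o1).resolve_left hε0, (mul_eq_zero.1 o2).resolve_left hε0⟩

include d hirr hτ in
omit hA in
theorem norm_one_coh {lam : M → ℂ} (hlS : lam ∈ inducedIrrAbove K ⊥) :
    classInner (τ₁ lam) (τ₁ lam) = 1 := by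
  rw [hτ.inner (zspan_mem hlS) (zspan_mem hlS), classInner_self_of_irr (hirr lam hlS)]

end DSet

end Cfsg.Agent.T1
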