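import Cfsg.Agent.H7.T1J

set_option autoImplicit false

/-! The character-theoretic core of Peterfalvi (12.7) and its arithmetic. -/

namespace Cfsg.Agent.T1

open Cfsg Subgroup Cfsg.Agent.H3
open scoped ComplexConjugate

universe u

variable {G : Type u} [Group G]

theorem char_core [Fintype G] {A : Set G} {M : Subgroup G} [Fintype M]
    {R : G → Subgroup G} {K : Subgroup M} (d : DSet A M R K)
    (hA : ∀ a : M, (a : G) ∈ A ↔ a ∈ K ∧ a ≠ 1)
    (hirr : ∀ χ ∈ inducedIrrAbove K ⊥, IsIrrCharacter M χ) {τ₁ : (M → ℂ) → (G → ℂ)}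
    (hτ : CohMap (inducedIrrAbove K ⊥) (dadeIsometry A M R) τ₁)
    {θ₀ : K → ℂ} (hθ₀ : IsIrrCharacter K θ₀) (hn₀ : θ₀ ≠ fun _ => 1) (hd₀ : θ₀ 1 = 1)
    {B B₁ : Set G} {L : Subgroup G} [Fintype L] {S : G → Subgroup G} {H : Subgroup L}
    (dL : DSet B L S H) (hB₁ : ∀ a : L, (a : G) ∈ B₁ ↔ a ∈ H ∧ a ≠ 1)
    (hD₁ : DadeHypothesis B₁ L S) (hdisj : Disjoint (supp A R) (supp B₁ S))
    (hO : DSet.Orth B L S H (τ₁ (indFun K θ₀)))
    (hρL : ∀ a ∈ H, a ≠ 1 → rho B L S (τ₁ (indFun K θ₀)) a = τ₁ (indFun K θ₀) a)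
    {p : ℕ} (hp : p.Prime) {x : M} {x' y : L} (hxx : (x' : G) = x) (hx : x ∈ K) (hx1 : x ≠ 1)
    (hxp : x ^ p = 1) (hx' : x' ∉ H)
    (hρM : rho A M R (τ₁ (indFun K θ₀)) x = τ₁ (indFun K θ₀) x)
    (hy : y ∈ H) (hy' : y ∉ ⁅H, H⁆) (hxy : x' * y = y * x') :
    ∃ c c' : ℤ, (p : ℤ) ∣ (K.index + c - c') ∧
      (Nat.card M : ℝ)⁻¹ * ((Nat.card M : ℝ) + Nat.card K * c ^ 2 - (K.index + c) ^ 2) +
      (Nat.card L : ℝ)⁻¹ * (((Nat.card H : ℝ) - Nat.card (⁅H, H⁆ : Subgroup L)) * c' ^ 2) ≤ 1 := by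
  classical
  set lam : M → ℂ := indFun K θ₀ with hlam
  set ψ : G → ℂ := τ₁ lam with hψ
  have hlS : lam ∈ inducedIrrAbove K ⊥ :=
    ⟨θ₀, hθ₀, hn₀, fun a ha => by
      have : a = 1 := Subtype.ext ha
      rw [this], rfl⟩
  have hli := hirr lam hlS
  have hψg : IsGeneralizedCharacter G ψ := hτ.gen (zspan_mem hlS)
  have hψc := isGen_classFun hψg
  obtain ⟨c, hc⟩ := d.rho_coh hA hirr hτ hθ₀ hn₀ hd₀
  obtain ⟨c', hc'⟩ := dL.av_const hψg hO hρL
  refine ⟨c, c', ?_, ?_⟩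
  · -- congruence
    have hxp' : x' ^ p = 1 := by
      apply Subtype.ext
      have h1 := congrArg Subtype.val hxp
      change (x' : G) ^ p = 1
      rw [hxx]; exact h1
    obtain ⟨ω, hω, e1⟩ := dL.av_congr hψg hO hc' hp hx' hxp' hy hy' hxy
    obtain ⟨ω', hω', e2⟩ := H11.PF.gen_congr (isGen_of_irr hli) p hp x 1 hxp (by simp)
    rw [mul_one, hlam, indFun_one_apply, hd₀, mul_one] at e2
    have e3 := hc x hx hx1
    rw [hρM] at e3
    have e4 : ψ (x' : G) = ψ x := by rw [hxx]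
    refine H11.PF.prime_dvd_of_eq p hp _ (ω - ω') (hω.sub hω') ?_
    have e5 : (1 - Complex.exp (2 * Real.pi * Complex.I / p)) * (ω - ω') =
        (ψ x' - c') - (indFun K θ₀ x - K.index) := by
      rw [e1, e2]; ring
    rw [e5, e4, e3]
    push_cast
    ring
  · have h1 := norm_two_supp d.dade hD₁ hdisj hψc (f := fun a => lam a + c) (h := fun a => ψ a)
      (fun a ha => hc a ((hA a).1 ha).1 ((hA a).1 ha).2)
      (fun a ha => by
        have ha' := (hB₁ a).1 ha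
        have h2 := hρL a ha'.1 ha'.2
        have haB : (a : G) ∈ B := dL.A_of_mem ha'.1 ha'.2
        rw [← h2, rho, rho, if_pos ha, if_pos haB])
    rw [hψ, hτ.inner (zspan_mem hlS) (zspan_mem hlS), classInner_self_of_irr hli, Complex.one_re] at h1
    have h2 := d.norm_coh hθ₀ hn₀ hd₀ hli c
    have hHn := dL.normal
    have h3 := DSet.norm_lower (N := L) (Subgroup.commutator_le_left H H) hc'
    have e1 : ∑ a : M, (if (a : G) ∈ A then ‖lam a + c‖ ^ 2 else 0) =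
        ∑ x : M, (if x ∈ K ∧ x ≠ 1 then ‖indFun K θ₀ x + c‖ ^ 2 else 0) := by
      refine Finset.sum_congr rfl fun a _ => ?_
      by_cases ha : (a : G) ∈ A
      · rw [if_pos ha, if_pos ((hA a).1 ha)]
      · rw [if_neg ha, if_neg (fun h => ha ((hA a).2 h))]
    have e2 : ∑ a : L, (if (a : G) ∈ B₁ then ‖τ₁ lam a‖ ^ 2 else 0) =
        ∑ x : L, (if x ∈ H ∧ x ≠ 1 then ‖(fun x : L => ψ x) x‖ ^ 2 else 0) := by
      refine Finset.sum_congr rfl fun a _ => ?_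
      by_cases ha : (a : G) ∈ B₁
      · rw [if_pos ha, if_pos ((hB₁ a).1 ha)]
      · rw [if_neg ha, if_neg (fun h => ha ((hB₁ a).2 h))]
    rw [e1, h2, e2] at h1
    have hpos : (0 : ℝ) ≤ (Nat.card L : ℝ)⁻¹ := by positivity
    have h4 := mul_le_mul_of_nonneg_left h3 hpos
    linarith

/-- the arithmetic inequality behind the final contradictions -/
theorem arith_ineq {p e k m h h' E l : ℕ} {c c' : ℤ} (hm : m = e * k) (hl : l = h * E)
    (he : 0 < e) (hk : 0 < k) (hh : 0 < h) (hE : 0 < E) (hhh : (2 * p + 1) * h' ≤ h)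
    (h1 : (m : ℝ)⁻¹ * ((m : ℝ) + k * c ^ 2 - (e + c) ^ 2) +
      (l : ℝ)⁻¹ * (((h : ℝ) - h') * c' ^ 2) ≤ 1) :
    2 * p * c' ^ 2 * e * k ≤ (2 * p + 1) * ((e + c) ^ 2 - k * c ^ 2) * E := by
  have he' : (0 : ℝ) < e := by exact_mod_cast he
  have hk' : (0 : ℝ) < k := by exact_mod_cast hk
  have hh' : (0 : ℝ) < h := by exact_mod_cast hh
  have hE' : (0 : ℝ) < E := by exact_mod_cast hE
  have hm' : (m : ℝ) = e * k := by exact_mod_cast hm
  have hl' : (l : ℝ) = h * E := by exact_mod_cast hl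
  have hhh' : (2 * (p : ℝ) + 1) * h' ≤ h := by exact_mod_cast hhh
  rw [hm', hl'] at h1
  have hek : (0 : ℝ) < e * k := by positivity
  have hhE : (0 : ℝ) < h * E := by positivity
  have h2 : ((h : ℝ) - h') * c' ^ 2 * (e * k) ≤ ((e + c) ^ 2 - k * c ^ 2) * (h * E) := by
    have h3 := mul_le_mul_of_nonneg_right h1 (mul_pos hek hhE).le
    have e1 : ((((e : ℝ) * k)⁻¹ * ((e * k : ℝ) + k * c ^ 2 - (e + c) ^ 2) +
      ((h : ℝ) * E)⁻¹ * (((h : ℝ) - h') * c' ^ 2)) * ((e * k) * (h * E))) =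
      ((e * k : ℝ) + k * c ^ 2 - (e + c) ^ 2) * (h * E) + (((h : ℝ) - h') * c' ^ 2) * (e * k) := by
      field_simp
    rw [e1] at h3
    linarith
  have h3 : (2 * (p : ℝ)) * h ≤ (2 * p + 1) * (h - h') := by linarith
  have hc2 : (0 : ℝ) ≤ (c' : ℝ) ^ 2 * (e * k) := by positivity
  have h4 : (2 * (p : ℝ)) * h * (c' ^ 2 * (e * k)) ≤ (2 * p + 1) * (((e + c) ^ 2 - k * c ^ 2) * (h * E)) := by
    have h5 := mul_le_mul_of_nonneg_right h3 hc2
    have h6 : (0 : ℝ) ≤ 2 * p + 1 := by positivity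
    have h7 := mul_le_mul_of_nonneg_left h2 h6
    calc (2 * (p : ℝ)) * h * (c' ^ 2 * (e * k)) ≤ (2 * p + 1) * (h - h') * (c' ^ 2 * (e * k)) := h5
      _ = (2 * p + 1) * ((h - h') * c' ^ 2 * (e * k)) := by ring
      _ ≤ _ := h7
  have h5 : (2 * (p : ℝ) * c' ^ 2 * e * k) * h ≤ ((2 * p + 1) * ((e + c) ^ 2 - k * c ^ 2) * E) * h := by
    linarith
  have h6 := le_of_mul_le_mul_right h5 hh'
  exact_mod_cast h6

/-- `c = 0` -/
theorem arith_c {p e k E : ℕ} {c c' : ℤ} (hp : 5 ≤ p) (hpk : p ^ 2 ≤ k) (he : 2 * e ≤ p + 1)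
    (hE : 0 < E) (h : 2 * p * c' ^ 2 * e * k ≤ (2 * p + 1) * ((e + c) ^ 2 - k * c ^ 2) * E) :
    c = 0 := by
  have h0 : (0 : ℤ) ≤ 2 * p * c' ^ 2 * e * k := by positivity
  have h1 : (0 : ℤ) ≤ (e + c) ^ 2 - k * c ^ 2 := by
    by_contra hcon
    push Not at hcon
    have hE' : (0 : ℤ) < E := by exact_mod_cast hE
    have h2 : (0 : ℤ) < 2 * p + 1 := by positivity
    have : (2 * (p : ℤ) + 1) * ((e + c) ^ 2 - k * c ^ 2) * E < 0 := by
      apply mul_neg_of_neg_of_pos _ hE'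
      exact mul_neg_of_pos_of_neg h2 hcon
    linarith
  have hpk' : (p : ℤ) ^ 2 ≤ k := by exact_mod_cast hpk
  have h2 : ((p : ℤ) * c) ^ 2 ≤ (e + c) ^ 2 := by
    have := mul_le_mul_of_nonneg_right hpk' (sq_nonneg c)
    nlinarith
  have h3 := sq_le_sq.1 h2
  rw [abs_mul] at h3
  have h4 : |(e : ℤ) + c| ≤ e + |c| := by
    have := abs_add_le (e : ℤ) c
    simpa using this
  have h5 : |(p : ℤ)| = p := by simp
  rw [h5] at h3
  by_contra hc
  have h6 : 1 ≤ |c| := Int.one_le_abs hc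
  have h7 : ((p : ℤ) - 1) * |c| ≤ e := by linarith
  have h8 : ((p : ℤ) - 1) ≤ ((p : ℤ) - 1) * |c| := by
    have : (0 : ℤ) ≤ (p : ℤ) - 1 := by omega
    nlinarith
  have h9 : (2 * e : ℤ) ≤ p + 1 := by exact_mod_cast he
  have h10 : (5 : ℤ) ≤ p := by exact_mod_cast hp
  linarith

/-- the case `K` abelian -/
theorem arith_A {p e k : ℕ} {c c' : ℤ} (he3 : 3 ≤ e) (hpk : p ^ 2 ≤ k)
    (he : 2 * e ≤ p + 1) (hd : (p : ℤ) ∣ e + c - c')
    (h : 2 * p * c' ^ 2 * e * k ≤ (2 * p + 1) * ((e + c) ^ 2 - k * c ^ 2) * k) : False := by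
  have hp5 : 5 ≤ p := by omega
  have hk : 0 < k := lt_of_lt_of_le (by positivity) hpk
  have hc := arith_c hp5 hpk he hk h
  subst hc
  have hk' : (0 : ℤ) < k := by exact_mod_cast hk
  have h1 : 2 * (p : ℤ) * c' ^ 2 * e ≤ (2 * p + 1) * e ^ 2 := by
    have h2 : (2 * (p : ℤ) * c' ^ 2 * e) * k ≤ ((2 * p + 1) * e ^ 2) * k := by
      calc _ ≤ _ := h
        _ = _ := by ring
    exact le_of_mul_le_mul_right h2 hk'
  have he' : (0 : ℤ) < e := by omega
  have h2 : 2 * (p : ℤ) * c' ^ 2 ≤ (2 * p + 1) * e := by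
    have h3 : (2 * (p : ℤ) * c' ^ 2) * e ≤ ((2 * p + 1) * e) * e := by
      calc _ ≤ _ := h1
        _ = _ := by ring
    exact le_of_mul_le_mul_right h3 he'
  obtain ⟨j, hj⟩ := hd
  have h9 : (2 * e : ℤ) ≤ p + 1 := by exact_mod_cast he
  have h10 : (3 : ℤ) ≤ e := by exact_mod_cast he3
  -- `(e-1)² ≤ c'²`
  have h3 : ((e : ℤ) - 1) ^ 2 ≤ c' ^ 2 := by
    have hc' : c' = e - p * j := by linarith
    rcases lt_trichotomy j 0 with hj0 | hj0 | hj0
    · have : (p : ℤ) * j ≤ -p := by nlinarith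
      have : (e : ℤ) - 1 ≤ c' := by linarith
      nlinarith
    · subst hj0
      have : c' = e := by linarith
      subst this
      nlinarith
    · have : (p : ℤ) ≤ p * j := by nlinarith
      have : c' ≤ -((e : ℤ) - 1) := by linarith
      nlinarith
  have hp' : (0 : ℤ) < p := by omega
  have h4 : 2 * (p : ℤ) * (e - 1) ^ 2 ≤ (2 * p + 1) * e := by
    have := mul_le_mul_of_nonneg_left h3 (by linarith : (0 : ℤ) ≤ 2 * p)
    linarith
  -- `3 (e-1)^2 ≥ 4 e`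
  have h5 : 4 * (e : ℤ) ≤ 3 * (e - 1) ^ 2 := by nlinarith
  have h6 : 2 * (p : ℤ) * (4 * e) ≤ 3 * ((2 * p + 1) * e) := by
    have := mul_le_mul_of_nonneg_left h5 (by linarith : (0 : ℤ) ≤ 2 * p)
    linarith
  have h7 : (8 * (p : ℤ) - 6 * p - 3) * e ≤ 0 := by linarith
  have h8 : (0 : ℤ) < 8 * (p : ℤ) - 6 * p - 3 := by omega
  have := mul_pos h8 he'
  linarith

/-- the case `K` nonabelian -/
theorem arith_B {p e k E : ℕ} {c c' : ℤ} (he0 : 0 < e) (hpk : p ^ 2 ≤ k) (hp : 3 ≤ p)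
    (he : 2 * e + 1 ≤ p) (hE : 0 < E) (hpE : p * E ≤ k) (hd : (p : ℤ) ∣ e + c - c')
    (h : 2 * p * c' ^ 2 * e * k ≤ (2 * p + 1) * ((e + c) ^ 2 - k * c ^ 2) * E) : False := by
  have hk : 0 < k := lt_of_lt_of_le (by positivity) hpk
  have hc : c = 0 := by
    have h0 : (0 : ℤ) ≤ 2 * p * c' ^ 2 * e * k := by positivity
    have h1 : (0 : ℤ) ≤ (e + c) ^ 2 - k * c ^ 2 := by
      by_contra hcon
      push Not at hcon
      have hE' : (0 : ℤ) < E := by exact_mod_cast hE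
      have h2 : (0 : ℤ) < 2 * p + 1 := by positivity
      have : (2 * (p : ℤ) + 1) * ((e + c) ^ 2 - k * c ^ 2) * E < 0 := by
        apply mul_neg_of_neg_of_pos _ hE'
        exact mul_neg_of_pos_of_neg h2 hcon
      linarith
    have hpk' : (p : ℤ) ^ 2 ≤ k := by exact_mod_cast hpk
    have h2 : ((p : ℤ) * c) ^ 2 ≤ (e + c) ^ 2 := by
      have := mul_le_mul_of_nonneg_right hpk' (sq_nonneg c)
      nlinarith
    have h3 := sq_le_sq.1 h2
    rw [abs_mul] at h3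
    have h4 : |(e : ℤ) + c| ≤ e + |c| := by
      have := abs_add_le (e : ℤ) c
      simpa using this
    have h5 : |(p : ℤ)| = p := by simp
    rw [h5] at h3
    by_contra hc
    have h6 : 1 ≤ |c| := Int.one_le_abs hc
    have h7 : ((p : ℤ) - 1) * |c| ≤ e := by linarith
    have h8 : ((p : ℤ) - 1) ≤ ((p : ℤ) - 1) * |c| := by
      have : (0 : ℤ) ≤ (p : ℤ) - 1 := by omega
      nlinarith
    have h9 : (2 * e + 1 : ℤ) ≤ p := by exact_mod_cast he
    have h10 : (3 : ℤ) ≤ p := by exact_mod_cast hp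
    linarith
  subst hc
  have hk' : (0 : ℤ) < k := by exact_mod_cast hk
  have he' : (0 : ℤ) < e := by exact_mod_cast he0
  have hE' : (0 : ℤ) < E := by exact_mod_cast hE
  have hp' : (0 : ℤ) < p := by omega
  have h1 : 2 * (p : ℤ) * c' ^ 2 * k ≤ (2 * p + 1) * e * E := by
    have h2 : (2 * (p : ℤ) * c' ^ 2 * k) * e ≤ ((2 * p + 1) * e * E) * e := by
      calc _ = 2 * (p : ℤ) * c' ^ 2 * e * k := by ring
        _ ≤ _ := h
        _ = _ := by ring
    exact le_of_mul_le_mul_right h2 he'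
  have hpE' : (p : ℤ) * E ≤ k := by exact_mod_cast hpE
  have h2 : 2 * (p : ℤ) * c' ^ 2 * p ≤ (2 * p + 1) * e := by
    have h3 : (2 * (p : ℤ) * c' ^ 2 * p) * E ≤ ((2 * p + 1) * e) * E := by
      calc _ = 2 * (p : ℤ) * c' ^ 2 * (p * E) := by ring
        _ ≤ 2 * (p : ℤ) * c' ^ 2 * k := by
            apply mul_le_mul_of_nonneg_left hpE'; positivity
        _ ≤ _ := h1
    exact le_of_mul_le_mul_right h3 hE'
  have h9 : (2 * e + 1 : ℤ) ≤ p := by exact_mod_cast he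
  have hc' : c' = 0 := by
    by_contra hne
    have h3 : 1 ≤ c' ^ 2 := by
      have : 0 < c' ^ 2 := by positivity
      omega
    have h4 : 2 * (p : ℤ) * 1 * p ≤ 2 * (p : ℤ) * c' ^ 2 * p := by
      apply mul_le_mul_of_nonneg_right _ hp'.le
      apply mul_le_mul_of_nonneg_left h3; positivity
    nlinarith
  subst hc'
  obtain ⟨j, hj⟩ := hd
  have hj' : (e : ℤ) = p * j := by linarith
  rcases le_or_gt j 0 with hj0 | hj0
  · have : (p : ℤ) * j ≤ 0 := by nlinarith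
    linarith
  · have : (p : ℤ) ≤ p * j := by nlinarith
    linarith

end Cfsg.Agent.T1
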