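import Cfsg.Agent.H7.T1BB
import Cfsg.Agent.H7.T1C
import Cfsg.Agent.H7.T1K
import Cfsg.Agent.H21.OTUtil

set_option autoImplicit false

/-! Maximal subgroups of type I give the abstract situation `DSet`. -/

namespace Cfsg.Agent.T1

open Cfsg Subgroup
open Cfsg.Agent.L (cj nz SylIn)
open Cfsg.Agent.OOT
open Cfsg.Agent.H21
open Cfsg.Agent.H3 (inertia)
open Cfsg.Agent.H2 (WTypeI wA wA_eq)
open scoped ComplexConjugate Pointwise

universe u

variable {G : Type u} [Group G]

section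
variable [Finite G] (hG : IsMinSimpleOddOrder G) {M : Subgroup G} (hM : IsCoatom M)
include hG hM

theorem exists_dec : ∃ K U : Subgroup G, IsSigmaDecomposition M K U := by
  obtain ⟨⟨K, hK⟩, h2⟩ := BB.S1351 hG M hM
  obtain ⟨⟨U, hU⟩, -⟩ := BB.S1352 hG M hM K (h2 K hK) hK
  exact ⟨K, U, hU⟩

theorem not_III_of_I (h : WTypeI M) : ¬ (IsOfTypeIII M ∨ IsOfTypeIV M) := by
  obtain ⟨K, U, hd⟩ := exists_dec hG hM
  rw [BB.S1382 hG M hM K U hd]
  rw [BW.row1380w hG M hM K U hd] at h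
  exact fun h' => h'.1 h.1

theorem typeCore_I (h : WTypeI M) : typeCore M = fittingHallOf M := by
  rw [typeCore, if_neg (not_III_of_I hG hM h)]

theorem typeA1_I (h : WTypeI M) : typeA1 M = (fittingHallOf M : Set G) \ {1} := by
  rw [typeA1, typeCore_I hG hM h]

theorem fh_eq_sigma (h : WTypeI M) : fittingHallOf M = sigmaCore M := by
  obtain ⟨K, U, hd⟩ := exists_dec hG hM
  rw [BW.row1380w hG M hM K U hd] at h
  by_contra hne
  exact h.2 (BB.S1357 hG M hM K U hd hne).1

theorem kappa_empty (h : WTypeI M) : kappa M = ∅ := by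
  obtain ⟨K, U, hd⟩ := exists_dec hG hM
  rw [BW.row1380w hG M hM K U hd] at h
  rw [Set.eq_empty_iff_forall_notMem]
  intro p hp
  have h1 := hd.hall
  rw [h.1] at h1
  apply h1.2.2 p hp.1 hp
  rw [Subgroup.relIndex_bot_left]
  exact hp.2.1

theorem sigma_le_core : sigmaCore M ≤ typeCore M := by
  obtain ⟨K, U, hd⟩ := exists_dec hG hM
  by_cases h : IsOfTypeIII M ∨ IsOfTypeIV M
  · rw [typeCore, if_pos h]
    exact (BB.S1355 hG M hM).2.2.1
  · rw [typeCore, if_neg h]
    by_cases hne : fittingHallOf M = sigmaCore M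
    · exact hne.ge
    · exfalso
      obtain ⟨h1, -, h2⟩ := BB.S1357 hG M hM K U hd hne
      apply h
      rw [BB.S1382 hG M hM K U hd]
      refine ⟨?_, h1, hne⟩
      rintro rfl
      rw [Subgroup.card_bot] at h2
      exact Nat.not_prime_one h2

end

theorem fittingHall_ne_top' {M : Subgroup G} (hI : WTypeI M) : fittingHall M ≠ ⊤ := hI.1.2.2.2.1

section
variable [Finite G] (hG : IsMinSimpleOddOrder G) {M : Subgroup G} (hM : IsCoatom M)
include hG hM

theorem mem_typeA1 (hI : WTypeI M) {a : M} :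
    (a : G) ∈ typeA1 M ↔ a ∈ fittingHall M ∧ a ≠ 1 := by
  rw [typeA1_I hG hM hI]
  constructor
  · rintro ⟨h1, h2⟩; exact ⟨mem_fhOf.1 h1, fun e => h2 (congrArg Subtype.val e)⟩
  · rintro ⟨h1, h2⟩; exact ⟨mem_fhOf.2 h1, fun e => h2 (Subtype.ext e)⟩

theorem dset (hI : WTypeI M) : DSet (wA M) M (supportR M) (fittingHall M) where
  dade := wdade hG hM hI
  normal := inferInstance
  hall := fittingHall_coprime M
  mem_A := fun a => mem_wA_iff
  ab := by
    intro θ hθ h1 x hx y hy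
    obtain ⟨V, hV1, hV, ⟨V₁, hV₁, -, hab, hcent⟩, -⟩ := PF.typeF_exists hI.1
    rw [mulComm_iff] at hab
    have hcl := H3.irr_classFun hθ
    -- decompose
    have key : ∀ x ∈ inertia (fittingHall_normal M) θ, ∃ h ∈ fittingHall M, ∃ v : M,
        (v : G) ∈ V₁ ∧ x = h * v := by
      intro x hx
      obtain ⟨a, ha, b, hb, e⟩ := hV.2.2.2 x x.2
      have haM := fhOf_le M ha
      have hbM := hV.2.1 hb
      have e' : x = (⟨a, haM⟩ : M) * ⟨b, hbM⟩ := Subtype.ext e
      have hb' : (⟨b, hbM⟩ : M) ∈ inertia (fittingHall_normal M) θ := by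
        have h2 : (⟨b, hbM⟩ : M) = (⟨a, haM⟩ : M)⁻¹ * x := by rw [e']; group
        rw [h2]
        exact mul_mem (inv_mem (H3.le_inertia _ hcl (mem_fhOf.1 ha))) hx
      obtain ⟨h, hh, hh1, he⟩ := (S1536.result (fittingHall M) (fittingHall_coprime M)
        (⟨b, hbM⟩ : M)).1 ⟨θ, hθ, h1, hb'⟩
      refine ⟨⟨a, haM⟩, mem_fhOf.1 ha, ⟨b, hbM⟩, ?_, e'⟩
      refine hcent h (mem_fhOf.2 hh) (fun e => hh1 (Subtype.ext e)) ⟨hb, ?_⟩
      exact mem_cent_singleton.2 (congrArg Subtype.val he)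
    obtain ⟨h, hh, v, hv, rfl⟩ := key x hx
    obtain ⟨k, hk, w, hw, rfl⟩ := key y hy
    have hvw : v * w = w * v := Subtype.ext (hab v hv w hw)
    have hq : QuotientGroup.mk' (fittingHall M) (h * v * (k * w) * (h * v)⁻¹ * (k * w)⁻¹) = 1 := by
      have e1 : QuotientGroup.mk' (fittingHall M) h = 1 := (QuotientGroup.eq_one_iff h).2 hh
      have e2 : QuotientGroup.mk' (fittingHall M) k = 1 := (QuotientGroup.eq_one_iff k).2 hk
      simp only [map_mul, map_inv, e1, e2, one_mul]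
      rw [← map_mul, hvw, map_mul]
      group
    exact (QuotientGroup.eq_one_iff _).1 hq
  off := by
    intro a ha haH
    apply supportR_eq_bot
    by_contra hc
    have h1 := ((BW.row1391w hG M hM hI).2.1 a ha hc).1
    exact haH ((mem_typeA1 hG hM hI).1 h1).1
  odd := odd_card hG

theorem typeA1_sub (hI : WTypeI M) : typeA1 M ⊆ wA M := by
  rw [typeA1_I hG hM hI]
  rintro a ⟨h1, h2⟩
  exact ⟨fhOf_le M h1, h2, a, h1, h2, rfl⟩

theorem dade1 (hI : WTypeI M) : DadeHypothesis (typeA1 M) M (supportR M) := by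
  have h := wdade hG hM hI
  have hs := typeA1_sub hG hM hI
  refine ⟨fun h1 => h.one_not_mem (hs h1), hs.trans h.subset, ?_, ?_, fun a ha => h.le_centralizer a (hs ha),
    fun a ha => h.conj_mem_H a (hs ha), fun a ha => h.inf_eq_bot a (hs ha), fun a ha => h.sup_eq a (hs ha),
    fun a ha b hb => h.coprime a (hs ha) b (hs hb)⟩
  · intro x hx a ha
    rw [typeA1_I hG hM hI] at ha ⊢
    refine ⟨(mem_normalizer_iff.1 (le_normalizer_fhOf M hx) a).1 ha.1, ?_⟩
    intro e
    apply ha.2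
    have e' : x * a * x⁻¹ = 1 := e
    have : a = x⁻¹ * (x * a * x⁻¹) * x := by group
    change a = 1
    rw [this, e']; group
  · intro a ha g hg
    exact h.fusion a (hs ha) g (hs hg)

end

/-- supports of nonconjugate type I subgroups -/
theorem supp_eq_tilde (M : Subgroup G) (A : Set G) : supp A (supportR M) = tildeOf M A := by
  ext g
  constructor
  · rintro ⟨a, ha, u, hu, x, e⟩
    refine ⟨a, ha, u, hu, x⁻¹, ?_⟩
    rw [← e]; group
  · rintro ⟨a, ha, r, hr, y, rfl⟩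
    exact ⟨a, ha, r, hr, y⁻¹, by group⟩

theorem supp_disjoint [Finite G] (hG : IsMinSimpleOddOrder G) {M N : Subgroup G} (hM : IsCoatom M)
    (hN : IsCoatom N) (hIM : WTypeI M) (hIN : WTypeI N) (hnc : ∀ g : G, N ≠ cj g M) :
    Disjoint (supp (typeA1 M) (supportR M)) (supp (typeA1 N) (supportR N)) := by
  have h1 := (BB.S1379 hG).1 M N hM hN hnc
  rw [Set.disjoint_iff_inter_eq_empty, supp_eq_tilde, supp_eq_tilde, typeA1_I hG hM hIM,
    typeA1_I hG hN hIN, fh_eq_sigma hG hM hIM, fh_eq_sigma hG hN hIN]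
  exact h1

end Cfsg.Agent.T1
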