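import Cfsg.Agent.H7.T1L
import Cfsg.Agent.H22.FrobFixed
import Cfsg.Agent.H1.FrobComp

set_option autoImplicit false

/-! Group-theoretic lemmas for Peterfalvi (12.7). -/

namespace Cfsg.Agent.T1

open Cfsg Subgroup
open Cfsg.Agent.L (cj nz SylIn)
open Cfsg.Agent.H14 (IsPiSub)
open Cfsg.Agent.OOT
open Cfsg.Agent.H21
open Cfsg.Agent.H2 (WTypeI wA wA_eq)
open scoped Pointwise

universe u

variable {G : Type u} [Group G]

/-- centralizers of kernel elements lie in the kernel -/
theorem frobKernel_cent' {E : Subgroup G} (hE : IsFrobeniusComplement E) {x y : G}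
    (hx : x ∈ frobeniusKernel E) (hx1 : x ≠ 1) (hy : x * y = y * x) : y ∈ frobeniusKernel E := by
  by_cases hy1 : y = 1
  · exact Or.inl hy1
  right
  intro g hg
  have h1 := H1.frob_centralizer_le (H1.frob_conj hE g) hg hy1
    (Subgroup.mem_centralizer_singleton_iff.2 (show x * y = y * x from hy))
  rcases hx with h | h
  · exact hx1 h
  · exact h g h1

theorem frobI_of_frobenius {M : Subgroup G} (h : ∃ E : Subgroup ↥M, IsFrobeniusComplement E ∧
      frobeniusKernel E = ((fittingHall ↥M : Subgroup ↥M) : Set ↥M)) : FrobI M := by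
  obtain ⟨E, hE, hK⟩ := h
  rintro x ⟨x', hx', rfl⟩ hx1 y ⟨hyM, hyc⟩
  have h1 : (⟨y, hyM⟩ : M) ∈ frobeniusKernel E := by
    refine frobKernel_cent' hE (x := x') ?_ ?_ ?_
    · rw [hK]; exact hx'
    · rintro rfl; exact hx1 rfl
    · apply Subtype.ext
      exact (mem_cent_singleton.1 hyc).symm
  rw [hK] at h1
  exact mem_fhOf.2 h1

variable [Finite G]

/-- if a complement acts freely, `M` is Frobenius -/
theorem frobI_of_free {M E : Subgroup G} (hs : Group.IsSolvable M)
    (hE : IsComplIn (fittingHallOf M) E M)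
    (hf : ∀ e ∈ E, e ≠ 1 → ∀ x ∈ fittingHallOf M, e * x = x * e → x = 1) : FrobI M := by
  intro x hx hx1 y hy
  obtain ⟨hyM, hyc⟩ := hy
  have hyx := mem_cent_singleton.1 hyc
  have hH := fhOf_hall M
  set π : Set ℕ := {p | p ∣ Nat.card (fittingHallOf M)} with hπ
  have hEh : IsPiHallOf {p | p ∉ π} E M := complIn_hall (fun p _ => Iff.rfl) hE hH
  obtain ⟨a, ha, b, hb, e, hab, hpa, hpb⟩ := exists_piPart π y
  have hbM : b ∈ M := (zpowers_le.2 hyM) hb
  have hbx : b * x = x * b := by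
    have h1 : zpowers y ≤ centralizer ({x} : Set G) := zpowers_le.2 hyc
    exact mem_cent_singleton.1 (h1 hb)
  have hb1 : b = 1 := by
    by_contra hb1
    obtain ⟨m, hm, hle⟩ := OOT.IsPiHallOf.exists_conj_le hs hEh (K := zpowers b)
      (zpowers_le.2 hbM) (piSub_zpowers.2 hpb)
    have h2 : m * b * m⁻¹ ∈ E := hle (L.conj_mem_cj (mem_zpowers b))
    have h3 : m * x * m⁻¹ ∈ fittingHallOf M :=
      (mem_normalizer_iff.1 (le_normalizer_fhOf M hm) x).1 hx
    have h4 := hf _ h2 (fun e => hb1 (by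
        have : b = m⁻¹ * (m * b * m⁻¹) * m := by group
        rw [this, e]; group)) _ h3 (by
      have e1 : m * b * m⁻¹ * (m * x * m⁻¹) = m * (b * x) * m⁻¹ := by group
      rw [e1, hbx]; group)
    apply hx1
    have : x = m⁻¹ * (m * x * m⁻¹) * m := by group
    rw [this, h4]; group
  subst hb1
  rw [mul_one] at e
  subst e
  exact piElt_mem_normal_hall hH (le_normalizer_fhOf M) hyM hpa

theorem cyclic_of_sylIn {E : Subgroup G} (h : ∀ p : ℕ, p.Prime → ∀ P : Subgroup G, SylIn p P E → IsCyclic P) :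
    IsZGroup E := by
  refine (isZGroup_iff E).2 fun p hp P => ?_
  haveI : Fact p.Prime := ⟨hp⟩
  have h1 := h p hp _ (L.sylIn_of_sylow P)
  exact H2.isCyclic_map_iff _ |>.1 h1

/-- a type F group which is not Frobenius has a noncyclic Sylow subgroup in a complement -/
theorem exists_noncyclic {M E : Subgroup G} (hF : IsOfTypeF M) (hE : IsComplIn (fittingHallOf M) E M)
    (hn : ¬ FrobI M) : ∃ p : ℕ, p.Prime ∧ ∃ P : Subgroup G, SylIn p P E ∧ ¬ IsCyclic P := by
  by_contra hcon
  push Not at hcon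
  haveI hz : IsZGroup E := cyclic_of_sylIn hcon
  obtain ⟨-, -, U₀, hU₀, hexp, hfree⟩ := PF.typeF_compl hF hE
  rw [IsZGroup.exponent_eq_card E] at hexp
  have h1 : Nat.card E ∣ Nat.card U₀ := by
    rw [← hexp]
    exact Group.exponent_dvd_nat_card
  have h2 : U₀ = E := L.eq_of_le_of_card_le hU₀ (Nat.le_of_dvd Nat.card_pos h1)
  subst h2
  exact hn (frobI_of_free hF.1 hE hfree)

/-- a fixed-point-free element of order `p` on `D` gives `|D| ≡ 1 (mod p)` -/
theorem card_modEq_one {D : Subgroup G} {u : G} {p : ℕ} (hp : p.Prime) (hu : u ^ p = 1)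
    (hn : u ∈ nz D) (hf : ∀ x ∈ D, u * x = x * u → x = 1) : Nat.card D ≡ 1 [MOD p] := by
  classical
  haveI : Fact p.Prime := ⟨hp⟩
  haveI : Fintype D := Fintype.ofFinite D
  let f : Function.End D := fun x => ⟨u * x * u⁻¹, (mem_normalizer_iff.1 hn x).1 x.2⟩
  have hf' : ∀ n : ℕ, ∀ x : D, (((f ^ n) x : D) : G) = u ^ n * x * (u ^ n)⁻¹ := by
    intro n
    induction n with
    | zero =>
      intro x
      rw [pow_zero, pow_zero]
      change (x : G) = 1 * x * 1⁻¹
      simp
    | succ n ih =>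
      intro x
      rw [pow_succ']
      change u * (((f ^ n) x : D) : G) * u⁻¹ = _
      rw [ih x, pow_succ']
      group
  have h1 : f ^ p ^ 1 = 1 := by
    funext x
    apply Subtype.ext
    rw [hf', pow_one, hu]
    change 1 * (x : G) * 1⁻¹ = x
    simp
  have h2 := Equiv.Perm.card_fixedPoints_modEq h1
  have h3 : Fintype.card f.fixedPoints = 1 := by
    rw [Fintype.card_eq_one_iff]
    refine ⟨⟨1, ?_⟩, ?_⟩
    · apply Subtype.ext
      change u * ((1 : D) : G) * u⁻¹ = 1
      simp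
    · rintro ⟨y, hy⟩
      apply Subtype.ext
      apply Subtype.ext
      have h4 : u * (y : G) * u⁻¹ = y := congrArg Subtype.val hy
      exact hf y y.2 (by rw [mul_inv_eq_iff_eq_mul.1 h4])
  rw [h3] at h2
  rwa [Nat.card_eq_fintype_card]

/-- a Frobenius group `Q⟨y⟩` cannot act on `H` with everything free -/
theorem no_free_frob {H K U₀ : Subgroup G} {y : G} {r : ℕ} (hH : Group.IsNilpotent H) (hH1 : H ≠ ⊥)
    (hn : U₀ ≤ nz H) (hnK : U₀ ≤ nz K) (hc : (Nat.card U₀).Coprime (Nat.card H))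
    (hf : ∀ u ∈ U₀, u ≠ 1 → ∀ x ∈ H, u * x = x * u → x = 1) (hr : r.Prime) (hy : y ∈ U₀)
    (hyr : y ^ r = 1) (hy1 : y ≠ 1) (hQ : U₀ ⊓ K ≠ ⊥) (hyK : ∀ x ∈ K, y * x = x * y → x = 1) :
    False := by
  classical
  set Z : Subgroup G := (center H).map H.subtype with hZ
  have hZH : Z ≤ H := map_subtype_le _
  have hZn : U₀ ≤ nz Z := hn.trans (H23.normalizer_le_normalizer_map _)
  have hcomm : ∀ a ∈ Z, ∀ b ∈ H, a * b = b * a := by
    rintro a ⟨a', ha', rfl⟩ b hb
    exact congrArg Subtype.val ((mem_center_iff.1 ha' ⟨b, hb⟩).symm)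
  letI : CommGroup Z := { (inferInstance : Group Z) with
    mul_comm := fun a b => Subtype.ext (hcomm a a.2 b (hZH b.2)) }
  let ρ : U₀ →* MulAut Z := Z.normalizerMonoidHom.comp (inclusion hZn)
  obtain ⟨q, hq, hq1⟩ := exists_ne_one hQ
  have hconj : ∀ u : U₀, ∀ a : Z, ρ u a = a → (u : G) * a = a * u := by
    intro u a h
    have h1 : (u : G) * a * (u : G)⁻¹ = a := congrArg Subtype.val h
    exact mul_inv_eq_iff_eq_mul.1 h1
  have hall := H22.frob_fixed ρ (K.subgroupOf U₀) ⟨y, hy⟩ hr (Subtype.ext hyr)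
    (fun x hx => (mem_normalizer_iff.1 (hnK hy) x).1 hx)
    (fun a ha => by
      have h1 := hconj _ _ (ha ⟨q, hq.1⟩ hq.2)
      exact Subtype.ext (hf q hq.1 hq1 a (hZH a.2) h1))
    (fun x hx hxy => by
      apply Subtype.ext
      exact hyK x hx (congrArg Subtype.val hxy))
    (fun a ha => by
      have h1 : (Nat.card (K.subgroupOf U₀)) ∣ Nat.card U₀ := card_subgroup_dvd_card _
      have h2 : orderOf (a : G) ∣ Nat.card (K.subgroupOf U₀) := by
        apply orderOf_dvd_of_pow_eq_one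
        exact congrArg Subtype.val ha
      have h3 : orderOf (a : G) ∣ Nat.card H := by
        have := orderOf_dvd_natCard (⟨a, hZH a.2⟩ : H)
        rwa [Subgroup.orderOf_mk] at this
      have h4 : orderOf (a : G) = 1 := Nat.eq_one_of_dvd_coprimes hc (h2.trans h1) h3
      exact Subtype.ext (orderOf_eq_one_iff.1 h4))
    (fun a ha => Subtype.ext (hf y hy hy1 a (hZH a.2) (hconj _ _ ha)))
  have hZ1 : center H ≠ ⊥ := by
    have : Nontrivial H := (nontrivial_iff_ne_bot H).2 hH1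
    exact Group.IsNilpotent.center_ne_bot H
  obtain ⟨z, hz, hz1⟩ := exists_ne_one hZ1
  apply hz1
  have := hall ⟨z, z, hz, rfl⟩
  have h2 : (z : G) = 1 := congrArg Subtype.val this
  exact Subtype.ext h2

end Cfsg.Agent.T1
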