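import Cfsg.Agent.H7.T1M

set_option autoImplicit false

/-! More group-theoretic lemmas for Peterfalvi (12.7): counting. -/

namespace Cfsg.Agent.T1

open Cfsg Subgroup
open Cfsg.Agent.L (cj nz SylIn)
open Cfsg.Agent.H14 (IsPiSub)
open Cfsg.Agent.OOT
open Cfsg.Agent.H21
open Cfsg.Agent.H2 (WTypeI wA wA_eq)
open scoped Pointwise

universe u

variable {G : Type u} [Group G] [Finite G]

/-- `|H : H'| ≥ 2p+1` -/
theorem derived_bound {H : Subgroup G} (hH : Group.IsSolvable H) (hH1 : H ≠ ⊥)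
    (hodd : Odd (Nat.card H)) {u : G} {p : ℕ} (hp : p.Prime) (hp2 : p ≠ 2) (hu : u ^ p = 1)
    (hn : u ∈ nz H) (hf : ∀ x ∈ H, u * x = x * u → x = 1) :
    (2 * p + 1) * Nat.card (⁅H, H⁆ : Subgroup G) ≤ Nat.card H := by
  have hle : ⁅H, H⁆ ≤ H := by
    rw [commutator_le]
    intro a ha b hb
    exact mul_mem (mul_mem (mul_mem ha hb) (inv_mem ha)) (inv_mem hb)
  have h1 := card_modEq_one hp hu hn hf
  have h2 := card_modEq_one (D := ⁅H, H⁆) hp hu (by
    rw [L.mem_nz_iff] at hn ⊢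
    rw [L.cj_commutator, hn]) (fun x hx => hf x (hle hx))
  obtain ⟨n, hn'⟩ := card_dvd_of_le hle
  rw [hn'] at h1
  have h3 : n ≡ 1 [MOD p] := by
    have h4 : Nat.card (⁅H, H⁆ : Subgroup G) * n ≡ 1 * n [MOD p] := h2.mul_right n
    rw [one_mul] at h4
    exact h4.symm.trans h1
  have hlt : ⁅H, H⁆ < H := by
    refine lt_of_le_of_ne hle ?_
    intro e
    haveI := hH
    haveI : Nontrivial H := (nontrivial_iff_ne_bot H).2 hH1
    have h5 := Group.IsSolvable.commutator_lt_top_of_nontrivial H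
    have h6 : (commutator H).map H.subtype = ⁅H, H⁆ := map_subtype_commutator H
    rw [e] at h6
    have h7 : (commutator H).map H.subtype = (⊤ : Subgroup H).map H.subtype := by
      rw [h6, ← MonoidHom.range_eq_map, range_subtype]
    exact h5.ne (map_injective H.subtype_injective h7)
  have hn0 : n ≠ 0 := by
    rintro rfl
    rw [mul_zero] at hn'
    exact Nat.card_pos.ne' hn'
  have hn1 : n ≠ 1 := by
    rintro rfl
    rw [mul_one] at hn'
    exact hlt.ne (L.eq_of_le_of_card_le hle hn'.le)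
  have hnodd : Odd n := by
    rw [hn'] at hodd
    exact (Nat.odd_mul.1 hodd).2
  have h5 : 2 * p + 1 ≤ n := by
    have h6 : p ∣ n - 1 := (Nat.modEq_iff_dvd' (by omega)).1 h3.symm
    obtain ⟨j, hj⟩ := h6
    have hj1 : n = p * j + 1 := by omega
    rcases j with _ | _ | j
    · omega
    · exfalso
      have hpo := hp.odd_of_ne_two hp2
      rw [hj1, zero_add, mul_one] at hnodd
      exact (Nat.not_odd_iff_even.2 (hpo.add_one)) hnodd
    · rw [hj1]; nlinarith
  rw [hn', mul_comm]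
  exact Nat.mul_le_mul_left _ h5

/-- free action: `|V|` divides `|A| - 1` -/
theorem free_dvd {V A : Subgroup G} (hn : V ≤ nz A)
    (hf : ∀ v ∈ V, v ≠ 1 → ∀ x ∈ A, v * x = x * v → x = 1) : Nat.card V ∣ Nat.card A - 1 := by
  classical
  let Y := {a : A // a ≠ 1}
  have hconj : ∀ v : V, ∀ a : A, (v : G) * a * (v : G)⁻¹ ∈ A :=
    fun v a => (mem_normalizer_iff.1 (hn v.2) a).1 a.2
  letI : MulAction V Y :=
    { smul := fun v y => ⟨⟨(v : G) * y.1 * (v : G)⁻¹, hconj v y.1⟩, by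
        intro e
        have e1 : (v : G) * (y.1 : G) * (v : G)⁻¹ = 1 := congrArg Subtype.val e
        apply y.2
        apply Subtype.ext
        have : (y.1 : G) = (v : G)⁻¹ * ((v : G) * (y.1 : G) * (v : G)⁻¹) * v := by group
        rw [this, e1]
        change (v : G)⁻¹ * 1 * v = 1
        group⟩
      one_smul := fun y => Subtype.ext (Subtype.ext (by
        change ((1 : V) : G) * (y.1 : G) * ((1 : V) : G)⁻¹ = y.1
        simp))
      mul_smul := fun v w y => Subtype.ext (Subtype.ext (by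
        change ((v * w : V) : G) * (y.1 : G) * ((v * w : V) : G)⁻¹ =
          (v : G) * ((w : G) * (y.1 : G) * (w : G)⁻¹) * (v : G)⁻¹
        push_cast
        group)) }
  have hfree : ∀ y : Y, MulAction.stabilizer V y = ⊥ := by
    intro y
    rw [eq_bot_iff]
    intro v hv
    rw [mem_bot]
    by_contra hv1
    have h1 : (v : G) * (y.1 : G) * (v : G)⁻¹ = y.1 :=
      congrArg (fun z : Y => ((z.1 : A) : G)) hv
    have h2 := hf v v.2 (fun e => hv1 (Subtype.ext e)) y.1 y.1.2 (mul_inv_eq_iff_eq_mul.1 h1)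
    exact y.2 (Subtype.ext h2)
  have h1 : Nat.card Y = Nat.card A - 1 := by
    haveI : Fintype A := Fintype.ofFinite A
    rw [Nat.card_eq_fintype_card, Nat.card_eq_fintype_card, Fintype.card_subtype_compl,
      Fintype.card_subtype_eq]
  rw [← h1, Nat.card_congr (MulAction.selfEquivOrbitsQuotientProd hfree), Nat.card_prod]
  exact Dvd.intro_left _ rfl

/-- counting the conjugates of a line -/
theorem lines_bound {V A : Subgroup G} {x : G} (hx : x ∈ A) (hn : V ≤ nz A)
    (hp : (orderOf x).Prime) (hV : V ⊓ nz (zpowers x) = ⊥)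
    (hf : ∀ v ∈ V, v ≠ 1 → ∀ x ∈ A, v * x = x * v → x = 1) :
    Nat.card V * (orderOf x - 1) ≤ Nat.card A - 1 := by
  classical
  let X := {a : zpowers x // a ≠ 1}
  let Y := {a : A // a ≠ 1}
  have hconj : ∀ v : V, ∀ a : A, (v : G) * a * (v : G)⁻¹ ∈ A :=
    fun v a => (mem_normalizer_iff.1 (hn v.2) a).1 a.2
  have hxA : zpowers x ≤ A := zpowers_le.2 hx
  let F : V × X → Y := fun q => ⟨⟨(q.1 : G) * q.2.1 * (q.1 : G)⁻¹, hconj q.1 ⟨q.2.1, hxA q.2.1.2⟩⟩, by
        intro e
        have e1 : (q.1 : G) * (q.2.1 : G) * (q.1 : G)⁻¹ = 1 := congrArg Subtype.val e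
        apply q.2.2
        apply Subtype.ext
        have : (q.2.1 : G) = (q.1 : G)⁻¹ * ((q.1 : G) * (q.2.1 : G) * (q.1 : G)⁻¹) * q.1 := by group
        rw [this, e1]
        change (q.1 : G)⁻¹ * 1 * q.1 = 1
        group⟩
  have hgen : ∀ y ∈ zpowers x, y ≠ 1 → zpowers y = zpowers x := by
    intro y hy hy1
    have hle : zpowers y ≤ zpowers x := zpowers_le.2 hy
    refine L.eq_of_le_of_card_le hle ?_
    have h1 := card_dvd_of_le hle
    rw [Nat.card_zpowers, Nat.card_zpowers] at h1 ⊢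
    rcases (Nat.dvd_prime hp).1 h1 with h | h
    · exact absurd (orderOf_eq_one_iff.1 h) hy1
    · exact h.ge
  have hinj : Function.Injective F := by
    rintro ⟨v, y⟩ ⟨w, z⟩ h
    have h1 : (v : G) * (y.1 : G) * (v : G)⁻¹ = (w : G) * (z.1 : G) * (w : G)⁻¹ :=
      congrArg (fun t : Y => ((t.1 : A) : G)) h
    have h2 : ((w⁻¹ * v : V) : G) ∈ V ⊓ nz (zpowers x) := by
      refine ⟨(w⁻¹ * v).2, ?_⟩
      change ((w⁻¹ * v : V) : G) ∈ nz (zpowers x)
      rw [L.mem_nz_iff, ← hgen y.1 y.1.2 (fun e => y.2 (Subtype.ext e))]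
      have h3 : cj ((w⁻¹ * v : V) : G) (zpowers (y.1 : G)) = zpowers (z.1 : G) := by
        have e0 : cj ((w⁻¹ * v : V) : G) (zpowers (y.1 : G)) =
            zpowers (((w⁻¹ * v : V) : G) * (y.1 : G) * ((w⁻¹ * v : V) : G)⁻¹) := by
          rw [L.cj, MonoidHom.map_zpowers]
          rfl
        rw [e0]
        have e1 : ((w⁻¹ * v : V) : G) * (y.1 : G) * ((w⁻¹ * v : V) : G)⁻¹ = z.1 := by
          have : ((w⁻¹ * v : V) : G) * (y.1 : G) * ((w⁻¹ * v : V) : G)⁻¹ =
              (w : G)⁻¹ * ((v : G) * (y.1 : G) * (v : G)⁻¹) * w := by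
            push_cast; group
          rw [this, h1]; group
        rw [e1]
      rw [h3, hgen z.1 z.1.2 (fun e => z.2 (Subtype.ext e)),
        hgen y.1 y.1.2 (fun e => y.2 (Subtype.ext e))]
    rw [hV, mem_bot] at h2
    have h3 : w⁻¹ * v = 1 := Subtype.ext h2
    have h4 : v = w := (inv_mul_eq_one.1 h3).symm
    subst h4
    have h5 : (y.1 : G) = z.1 := by
      have := mul_right_cancel h1
      exact mul_left_cancel this
    have h6 : y = z := Subtype.ext (Subtype.ext h5)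
    rw [h6]
  have h1 := Nat.card_le_card_of_injective F hinj
  rw [Nat.card_prod] at h1
  have h2 : Nat.card X = orderOf x - 1 := by
    haveI : Fintype (zpowers x) := Fintype.ofFinite _
    rw [Nat.card_eq_fintype_card, Fintype.card_subtype_compl, Fintype.card_subtype_eq,
      ← Nat.card_eq_fintype_card, Nat.card_zpowers]
  have h3 : Nat.card Y = Nat.card A - 1 := by
    haveI : Fintype A := Fintype.ofFinite A
    rw [Nat.card_eq_fintype_card, Nat.card_eq_fintype_card, Fintype.card_subtype_compl,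
      Fintype.card_subtype_eq]
  rwa [h2, h3] at h1

/-- the case `E = K` -/
theorem arith_A' {p e k : ℕ} {c c' : ℤ} (hp : p.Prime) (hp2 : p ≠ 2) (he3 : 3 ≤ e) (heo : Odd e)
    (hpk : p ^ 2 ≤ k) (hdvd : e ∣ p ^ 2 - 1) (hle : e * (p - 1) ≤ p ^ 2 - 1)
    (hd : (p : ℤ) ∣ e + c - c')
    (h : 2 * p * c' ^ 2 * e * k ≤ (2 * p + 1) * ((e + c) ^ 2 - k * c ^ 2) * k) : False := by
  have hpo := hp.odd_of_ne_two hp2
  have hp3 : 3 ≤ p := by
    have := hp.two_le
    omega
  -- `e ≤ p - 2`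
  have he1 : e ≤ p + 1 := by
    have h1 : p ^ 2 - 1 = (p + 1) * (p - 1) := by
      obtain ⟨q, rfl⟩ : ∃ q, p = q + 1 := ⟨p - 1, by omega⟩
      simp only [Nat.add_sub_cancel]
      have : (q + 1) ^ 2 = (q + 1 + 1) * q + 1 := by ring
      omega
    rw [h1] at hle
    exact Nat.le_of_mul_le_mul_right hle (by omega)
  have he2 : e ≠ p + 1 := by
    rintro rfl
    exact (Nat.not_odd_iff_even.2 hpo.add_one) heo
  have he4 : e ≠ p := by
    rintro rfl
    have h1 : e ∣ e ^ 2 := dvd_pow_self e two_ne_zero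
    have h2 : e ^ 2 - (e ^ 2 - 1) = 1 := by
      have : 1 ≤ e ^ 2 := Nat.one_le_pow _ _ (by omega)
      omega
    have h3 := Nat.dvd_sub h1 hdvd
    rw [h2] at h3
    exact hp.one_lt.ne' (Nat.dvd_one.1 h3)
  have he5 : e ≠ p - 1 := by
    intro h1
    have : Even e := by
      rw [h1]
      exact hpo.tsub_odd odd_one
    exact (Nat.not_odd_iff_even.2 this) heo
  have he6 : e + 2 ≤ p := by omega
  have hk : 0 < k := lt_of_lt_of_le (by positivity) hpk
  have hpk' : (p : ℤ) ^ 2 ≤ k := by exact_mod_cast hpk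
  have hk' : (0 : ℤ) < k := by exact_mod_cast hk
  have he6' : (e : ℤ) + 2 ≤ p := by exact_mod_cast he6
  have he3' : (3 : ℤ) ≤ e := by exact_mod_cast he3
  have hp' : (0 : ℤ) < p := by omega
  have hc : c = 0 := by
    have h0 : (0 : ℤ) ≤ 2 * p * c' ^ 2 * e * k := by positivity
    have h1 : (0 : ℤ) ≤ (e + c) ^ 2 - k * c ^ 2 := by
      by_contra hcon
      push Not at hcon
      have h2 : (0 : ℤ) < 2 * p + 1 := by positivity
      have : (2 * (p : ℤ) + 1) * ((e + c) ^ 2 - k * c ^ 2) * k < 0 := by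
        apply mul_neg_of_neg_of_pos _ hk'
        exact mul_neg_of_pos_of_neg h2 hcon
      linarith
    have h2 : ((p : ℤ) * c) ^ 2 ≤ (e + c) ^ 2 := by
      have := mul_le_mul_of_nonneg_right hpk' (sq_nonneg c)
      nlinarith
    have h3 := sq_le_sq.1 h2
    rw [abs_mul] at h3
    have h4 : |(e : ℤ) + c| ≤ e + |c| := by
      have := abs_add_le (e : ℤ) c
      simpa using this
    have h5 : |(p : ℤ)| = p := by simp
    rw [h5] at h3
    by_contra hc
    have h6 : 1 ≤ |c| := Int.one_le_abs hc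
    have h7 : ((p : ℤ) - 1) * |c| ≤ e := by linarith
    have h8 : ((p : ℤ) - 1) ≤ ((p : ℤ) - 1) * |c| := by
      have : (0 : ℤ) ≤ (p : ℤ) - 1 := by omega
      nlinarith
    linarith
  subst hc
  have h1 : 2 * (p : ℤ) * c' ^ 2 * e ≤ (2 * p + 1) * e ^ 2 := by
    have h2 : (2 * (p : ℤ) * c' ^ 2 * e) * k ≤ ((2 * p + 1) * e ^ 2) * k := by
      calc _ ≤ _ := h
        _ = _ := by ring
    exact le_of_mul_le_mul_right h2 hk'
  have he' : (0 : ℤ) < e := by omega
  have h2 : 2 * (p : ℤ) * c' ^ 2 ≤ (2 * p + 1) * e := by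
    have h3 : (2 * (p : ℤ) * c' ^ 2) * e ≤ ((2 * p + 1) * e) * e := by
      calc _ ≤ _ := h1
        _ = _ := by ring
    exact le_of_mul_le_mul_right h3 he'
  have h3 : c' ^ 2 ≤ e := by
    by_contra hcon
    push Not at hcon
    have h4 : (e : ℤ) + 1 ≤ c' ^ 2 := hcon
    have h5 : 2 * (p : ℤ) * (e + 1) ≤ 2 * (p : ℤ) * c' ^ 2 := by
      apply mul_le_mul_of_nonneg_left h4; positivity
    nlinarith
  obtain ⟨j, hj⟩ := hd
  have hc' : c' = e - p * j := by linarith
  rcases lt_trichotomy j 0 with hj0 | hj0 | hj0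
  · have : (p : ℤ) * j ≤ -p := by nlinarith
    have h4 : (e : ℤ) + p ≤ c' := by linarith
    nlinarith
  · subst hj0
    have : c' = e := by linarith
    subst this
    nlinarith
  · rcases eq_or_lt_of_le (show (1 : ℤ) ≤ j by omega) with hj1 | hj1
    · subst hj1
      have hg : c' = e - p := by linarith
      -- `e ∣ (p-e)² - 1`
      have hd1 : (e : ℤ) ∣ (p : ℤ) ^ 2 - 1 := by
        have h4 : ((p ^ 2 - 1 : ℕ) : ℤ) = (p : ℤ) ^ 2 - 1 := by
          have : 1 ≤ p ^ 2 := Nat.one_le_pow _ _ (by omega)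
          push_cast [Nat.cast_sub this]
          ring
        rw [← h4]
        exact_mod_cast hdvd
      have hd2 : (e : ℤ) ∣ c' ^ 2 - 1 := by
        have : c' ^ 2 - 1 = ((p : ℤ) ^ 2 - 1) + e * (e - 2 * p) := by rw [hg]; ring
        rw [this]
        exact dvd_add hd1 (Dvd.intro _ rfl)
      have h4 : (0 : ℤ) < c' ^ 2 - 1 := by
        rw [hg]
        nlinarith
      have h5 := Int.le_of_dvd h4 hd2
      linarith
    · have : (p : ℤ) * 2 ≤ p * j := by nlinarith
      have h4 : c' ≤ -(p : ℤ) := by linarith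
      nlinarith

/-- the subgroup `Ω₁` of a noncyclic abelian `p`-group of rank at most two -/
theorem exists_omega {P : Subgroup G} {p : ℕ} [hp : Fact p.Prime] (hp2 : p ≠ 2)
    (hP : IsPGroup p P) (hab : IsMulCommutative P) (hrk : PRankLE p 2 P) (hnc : ¬ IsCyclic P) :
    ∃ A ≤ P, IsElementaryAbelian p A ∧ (∀ a : G, a ∈ A ↔ a ∈ P ∧ a ^ p = 1) ∧
      Nat.card A = p ^ 2 ∧ nz P ≤ nz A := by
  have hab' := mulComm_iff.1 hab
  let A : Subgroup G :=
    { carrier := {a | a ∈ P ∧ a ^ p = 1}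
      one_mem' := ⟨one_mem _, one_pow _⟩
      mul_mem' := by
        rintro a b ⟨ha, ha'⟩ ⟨hb, hb'⟩
        refine ⟨mul_mem ha hb, ?_⟩
        have : Commute a b := hab' a ha b hb
        rw [this.mul_pow, ha', hb', one_mul]
      inv_mem' := by
        rintro a ⟨ha, ha'⟩
        exact ⟨inv_mem ha, by rw [inv_pow, ha', inv_one]⟩ }
  have hAP : A ≤ P := fun a ha => ha.1
  have hA1 : IsElementaryAbelian p A := by
    refine ⟨mulComm_iff.2 fun a ha b hb => hab' a ha.1 b hb.1, fun a ha => ha.2⟩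
  have hle : Nat.card A ≤ p ^ 2 := by
    by_contra hcon
    push Not at hcon
    obtain ⟨n, hn⟩ := IsPGroup.iff_card.1 (hP.to_le hAP)
    rw [hn] at hcon
    have hn3 : 2 < n := (Nat.pow_lt_pow_iff_right hp.out.one_lt).1 hcon
    refine not_pRankLE_of_ea hAP hA1 ?_ hrk
    rw [hn]
    exact Nat.pow_le_pow_right hp.out.pos hn3
  have hge : p ^ 2 ≤ Nat.card A := by
    have h1 : ¬ PRankLE p 1 P := fun h => hnc (isCyclic_of_pRankLE_one hp2 hP h)
    obtain ⟨E, hEP, hE, hcard⟩ := exists_ea_of_not_pRankLE h1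
    rw [← hcard]
    exact L.card_le_of_le (fun a ha => ⟨hEP ha, hE.2 a ha⟩)
  refine ⟨A, hAP, hA1, fun a => Iff.rfl, le_antisymm hle hge, ?_⟩
  intro g hg
  have key : ∀ g ∈ nz P, cj g A ≤ A := by
    intro g hg
    refine L.cj_le_of_forall fun x hx => ⟨(mem_normalizer_iff.1 hg x).1 hx.1, ?_⟩
    rw [conj_pow, hx.2]; group
  rw [L.mem_nz_iff]
  refine L.eq_of_le_of_card_le (key g hg) ?_
  rw [L.card_cj]

/-- `Q` a `q`-group acting on an elementary group of order `p²`, `q > p` odd: trivial action -/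
theorem centralizes_of_gt {A Q : Subgroup G} {p q : ℕ} [hp : Fact p.Prime] [hq : Fact q.Prime]
    (hp2 : p ≠ 2) (hq2 : q ≠ 2)
    (hpq : p < q) (hA : Nat.card A = p ^ 2) (hQ : IsPGroup q Q) (hn : Q ≤ nz A) :
    ∀ u ∈ Q, ∀ a ∈ A, u * a = a * u := by
  classical
  have hconj : ∀ v : Q, ∀ a : A, (v : G) * a * (v : G)⁻¹ ∈ A :=
    fun v a => (mem_normalizer_iff.1 (hn v.2) a).1 a.2
  letI : MulAction Q A :=
    { smul := fun v y => ⟨(v : G) * y * (v : G)⁻¹, hconj v y⟩
      one_smul := fun y => Subtype.ext (by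
        change ((1 : Q) : G) * (y : G) * ((1 : Q) : G)⁻¹ = y
        simp)
      mul_smul := fun v w y => Subtype.ext (by
        change ((v * w : Q) : G) * (y : G) * ((v * w : Q) : G)⁻¹ =
          (v : G) * ((w : G) * (y : G) * (w : G)⁻¹) * (v : G)⁻¹
        push_cast
        group) }
  have h1 := hQ.card_modEq_card_fixedPoints A
  set F : Subgroup G := A ⊓ centralizer (Q : Set G) with hF
  have h2 : Nat.card (MulAction.fixedPoints Q A) = Nat.card F := by
    refine Nat.card_congr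
      { toFun := fun a => ⟨a.1, a.1.2, ?_⟩
        invFun := fun a => ⟨⟨a.1, a.2.1⟩, ?_⟩
        left_inv := fun a => rfl
        right_inv := fun a => rfl }
    · change (a.1 : G) ∈ centralizer (Q : Set G)
      rw [mem_cent_iff]
      intro x hx
      have h3 : (x : G) * (a.1 : G) * (x : G)⁻¹ = a.1 := congrArg Subtype.val (a.2 ⟨x, hx⟩)
      exact (mul_inv_eq_iff_eq_mul.1 h3).symm
    · intro v
      apply Subtype.ext
      change (v : G) * (a : G) * (v : G)⁻¹ = a
      rw [mul_inv_eq_iff_eq_mul]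
      exact ((mem_cent_iff.1 a.2.2) v v.2).symm
  rw [h2, hA] at h1
  have h3 : Nat.card F ∣ p ^ 2 := by
    rw [← hA]; exact card_dvd_of_le inf_le_left
  obtain ⟨i, hi, hc⟩ := (Nat.dvd_prime_pow hp.out).1 h3
  have hp1 := hp.out.two_le
  have hqp : ¬ q ∣ p - 1 := fun h => by
    have := Nat.le_of_dvd (by omega) h
    omega
  have hqp' : ¬ q ∣ p + 1 := fun h => by
    have h4 := Nat.le_of_dvd (by omega) h
    have h5 : q = p + 1 := by omega
    have h6 := hp.out.odd_of_ne_two hp2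
    have h7 := hq.out.odd_of_ne_two hq2
    rw [h5] at h7
    exact (Nat.not_odd_iff_even.2 h6.add_one) h7
  have hqp'' : ¬ q ∣ p := fun h => by
    have := Nat.le_of_dvd (by omega) h
    omega
  have hi2 : i = 2 := by
    interval_cases i
    · exfalso
      rw [hc, pow_zero] at h1
      have h4 : q ∣ p ^ 2 - 1 := (Nat.modEq_iff_dvd' (Nat.one_le_pow _ _ (by omega))).1 h1.symm
      have h5 : p ^ 2 - 1 = (p + 1) * (p - 1) := by
        obtain ⟨t, rfl⟩ : ∃ t, p = t + 1 := ⟨p - 1, by omega⟩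
        simp only [Nat.add_sub_cancel]
        have : (t + 1) ^ 2 = (t + 1 + 1) * t + 1 := by ring
        omega
      rw [h5] at h4
      exact (hq.out.dvd_mul.1 h4).elim hqp' hqp
    · exfalso
      rw [hc, pow_one] at h1
      have h4 : q ∣ p ^ 2 - p := (Nat.modEq_iff_dvd' (by nlinarith)).1 h1.symm
      have h5 : p ^ 2 - p = p * (p - 1) := by rw [sq, Nat.mul_sub, mul_one]
      rw [h5] at h4
      exact (hq.out.dvd_mul.1 h4).elim hqp'' hqp
    · rfl
  have hFA : F = A := L.eq_of_le_of_card_le inf_le_left (by rw [hc, hi2, hA])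
  intro u hu a ha
  rw [← hFA] at ha
  exact ((mem_cent_iff.1 ha.2) u hu).symm

end Cfsg.Agent.T1
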