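import Cfsg.Agent.H7.T1N

set_option autoImplicit false
set_option linter.unusedSectionVars false
set_option linter.style.haveILetI false

/-! The configuration of Peterfalvi (12.7). -/

namespace Cfsg.Agent.T1

open Cfsg Subgroup
open Cfsg.Agent.L (cj nz SylIn)
open Cfsg.Agent.H14 (IsPiSub)
open Cfsg.Agent.OOT
open Cfsg.Agent.H21
open Cfsg.Agent.H2 (WTypeI wA wA_eq)
open scoped Pointwise

universe u

variable {G : Type u} [Group G] [Finite G]

/-- `q` is a prime for which some weak type I maximal subgroup has a complement with a noncyclic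
Sylow `q`-subgroup -/
def Bad (G : Type u) [Group G] (q : ℕ) : Prop :=
  q.Prime ∧ ∃ L E P : Subgroup G, IsCoatom L ∧ WTypeI L ∧ IsComplIn (fittingHallOf L) E L ∧
    SylIn q P E ∧ ¬ IsCyclic P

structure Conf (L M : Subgroup G) (p : ℕ) (P : Subgroup G) (x y : G) : Prop where
  hL : IsCoatom L
  hM : IsCoatom M
  wL : WTypeI L
  wM : WTypeI M
  hp : p.Prime
  syl : SylIn p P (M ⊓ L)
  noncyc : ¬ IsCyclic P
  ab : IsMulCommutative P
  rk : PRankLE p 2 P
  x_mem : x ∈ P
  x_ne : x ≠ 1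
  x_pow : x ^ p = 1
  y_mem : y ∈ fittingHallOf L
  y_not : y ∉ ⁅fittingHallOf L, fittingHallOf L⁆
  xy : x * y = y * x
  PK : P ≤ fittingHallOf M
  cent_le : centralizer ({x} : Set G) ≤ L
  uniq : ∀ N, IsCoatom N → centralizer ({x} : Set G) ≤ N → N = L
  nz_le : nz (zpowers x) ≤ L
  cent_not : ¬ centralizer ({x} : Set G) ≤ M
  nconj : ∀ g, M ≠ cj g L
  compl : IsComplIn (fittingHallOf L) (M ⊓ L) L

namespace Conf

variable {L M : Subgroup G} {p : ℕ} {P : Subgroup G} {x y : G} (hG : IsMinSimpleOddOrder G)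
  (c : Conf L M p P x y)

section
include c

theorem ne_LM : M ≠ L := by
  have := c.nconj 1
  rwa [Cfsg.Agent.L.cj_one] at this

theorem P_le_L : P ≤ L := c.syl.le.trans inf_le_right
theorem P_le_M : P ≤ M := c.syl.le.trans inf_le_left
theorem xK : x ∈ fittingHallOf M := c.PK c.x_mem
theorem x_order : orderOf x = p := by
  haveI : Fact p.Prime := ⟨c.hp⟩
  exact orderOf_eq_prime c.x_pow c.x_ne

theorem p_dvd_P : p ∣ Nat.card P := by
  have h1 := orderOf_dvd_natCard (⟨x, c.x_mem⟩ : P)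
  rwa [Subgroup.orderOf_mk, c.x_order] at h1

theorem p_dvd_K : p ∣ Nat.card (fittingHallOf M) := c.p_dvd_P.trans (card_dvd_of_le c.PK)

theorem P_ne : P ≠ ⊥ := by
  intro h
  have := c.x_mem
  rw [h, mem_bot] at this
  exact c.x_ne this

theorem coprimeL : (Nat.card ↥(M ⊓ L)).Coprime (Nat.card (fittingHallOf L)) := by
  have h := fhOf_coprime L
  rw [complIn_relIndex_left c.compl] at h
  exact h.symm

theorem x_wA : x ∈ wA M := ⟨c.P_le_M c.x_mem, c.x_ne, x, c.xK, c.x_ne, rfl⟩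
theorem x_wAL : x ∈ wA L := by
  refine ⟨c.P_le_L c.x_mem, c.x_ne, y, c.y_mem, ?_, c.xy⟩
  rintro rfl
  exact c.y_not (one_mem _)

theorem H_ne : fittingHallOf L ≠ ⊥ := fhOf_ne_bot c.wL.1.2.2.1
theorem K_ne : fittingHallOf M ≠ ⊥ := fhOf_ne_bot c.wM.1.2.2.1

theorem p_sq_le : p ^ 2 ≤ Nat.card (fittingHallOf M) := by
  haveI : Fact p.Prime := ⟨c.hp⟩
  refine le_trans ?_ (Cfsg.Agent.L.card_le_of_le c.PK)
  obtain ⟨n, hn⟩ := IsPGroup.iff_card.1 c.syl.isPGroup
  rw [hn]
  refine Nat.pow_le_pow_right c.hp.pos ?_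
  by_contra hcon
  push Not at hcon
  apply c.noncyc
  interval_cases n
  · rw [pow_zero, Subgroup.card_eq_one] at hn
    rw [hn]; infer_instance
  · rw [pow_one] at hn
    exact isCyclic_of_prime_card hn

end

include hG c

theorem p_ne_two : p ≠ 2 := prime_ne_two hG c.p_dvd_P

/-- `M` is Frobenius -/
theorem frobM (hmin : ∀ q, Bad G q → p ≤ q) : FrobI M := by
  by_contra hn
  haveI : Fact p.Prime := ⟨c.hp⟩
  obtain ⟨V, hV1, hV, -⟩ := PF.typeF_exists c.wM.1
  obtain ⟨q, hq, Q, hQ, hQc⟩ := exists_noncyclic c.wM.1 hV hn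
  haveI : Fact q.Prime := ⟨hq⟩
  have hpq : p ≤ q := hmin q ⟨hq, M, V, Q, c.hM, c.wM, hV, hQ, hQc⟩
  have hVc : (Nat.card (fittingHallOf M)).Coprime (Nat.card V) := by
    have h := fhOf_coprime M
    rwa [complIn_relIndex_left hV] at h
  have hQ1 : Q ≠ ⊥ := by
    rintro rfl
    exact hQc inferInstance
  obtain ⟨z, hz, hz1⟩ := exists_ne_one hQ1
  have hqV : q ∣ Nat.card V := by
    obtain ⟨n, hn⟩ := IsPGroup.iff_card.1 hQ.isPGroup
    have hn0 : n ≠ 0 := by
      rintro rfl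
      rw [pow_zero, Subgroup.card_eq_one] at hn
      exact hQ1 hn
    exact (dvd_pow_self q hn0).trans (hn ▸ card_dvd_of_le hQ.le)
  have hne : q ≠ p := by
    rintro rfl
    have := Nat.eq_one_of_dvd_coprimes hVc c.p_dvd_K hqV
    exact hq.one_lt.ne' this
  have hlt : p < q := lt_of_le_of_ne hpq (Ne.symm hne)
  rcases c.wM.2 with h | h | h
  · exact c.cent_not (cent_le_of_TI hG c.hM c.K_ne h c.xK c.x_ne)
  · obtain ⟨h1, -, -⟩ := h
    have hcomm := mulComm_iff.1 h1
    have hKC : fittingHallOf M ≤ centralizer ({x} : Set G) := fun k hk =>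
      mem_cent_singleton.2 (hcomm k hk x c.xK)
    have hKL : fittingHallOf M ≤ M ⊓ L := le_inf (fhOf_le M) (hKC.trans c.cent_le)
    have hPK : SylIn p P (fittingHallOf M) := c.syl.of_le c.PK hKL
    have hPM : M ≤ nz P := by
      have h2 : IsPiHallOf {p} P (fittingHallOf M) := sylIn_iff_hallOf.1 hPK
      have h3 : P = piCoreOf {p} (fittingHallOf M) :=
        IsPiHallOf.eq_piCoreOf h2 (nil_hall_normal (fhOf_nilpotent M) h2)
      rw [h3]
      exact (le_normalizer_fhOf M).trans (normalizer_le_normalizer_piCoreOf _ _)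
    obtain ⟨A, hAP, hA, hAm, hAc, hAn⟩ := exists_omega (c.p_ne_two hG) c.syl.isPGroup c.ab c.rk c.noncyc
    have hQM : Q ≤ M := hQ.le.trans hV.2.1
    have hcent := centralizes_of_gt (c.p_ne_two hG) (prime_ne_two hG hqV) hlt hAc hQ.isPGroup
      (hQM.trans (hPM.trans hAn))
    have hxA : x ∈ A := (hAm x).2 ⟨c.x_mem, c.x_pow⟩
    have hQL : Q ≤ L := fun u hu => c.cent_le (mem_cent_singleton.2 (hcent u hu x hxA))
    have hQML : Q ≤ M ⊓ L := le_inf hQM hQL
    have hV1' := (BW.row1390w hG M c.hM c.wM V hV).1 q hq hQ.toSylow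
    have hQab : IsMulCommutative Q := by
      have h2 := mulComm_iff.1 hV1'.1
      rw [mulComm_iff]
      intro a ha b hb
      have ha' : (⟨a, hQ.le ha⟩ : V) ∈ (hQ.toSylow : Subgroup V) := ha
      have hb' : (⟨b, hQ.le hb⟩ : V) ∈ (hQ.toSylow : Subgroup V) := hb
      exact congrArg Subtype.val (h2 _ ha' _ hb')
    apply hQc
    refine free_not_ea (H := fittingHallOf L) (E := Q) (hQL.trans (le_normalizer_fhOf L))
      (Nat.Coprime.coprime_dvd_left (card_dvd_of_le hQML) c.coprimeL) c.H_ne ?_ le_rfl hQab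
    intro u hu hu1 h hh huh
    by_contra hh1
    have e1 := ((BW.row1390w hG L c.hL c.wL (M ⊓ L) c.compl).2 {u}
      (by rw [Set.singleton_subset_iff]; exact ⟨hQML hu, hu1⟩) (Set.singleton_nonempty u) (by
        intro hb
        have : h ∈ fittingHallOf L ⊓ centralizer ({u} : Set G) :=
          ⟨hh, mem_cent_singleton.2 huh.symm⟩
        rw [hb, mem_bot] at this
        exact hh1 this)).2
    have e2 := ((BW.row1390w hG M c.hM c.wM V hV).2 {u}
      (by rw [Set.singleton_subset_iff]; exact ⟨hQ.le hu, hu1⟩) (Set.singleton_nonempty u) (by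
        intro hb
        have : x ∈ fittingHallOf M ⊓ centralizer ({u} : Set G) :=
          ⟨c.xK, mem_cent_singleton.2 (hcent u hu x hxA).symm⟩
        rw [hb, mem_bot] at this
        exact c.x_ne this)).1
    exact c.ne_LM (e1 M c.hM e2)
  · have h1 := h.1 p c.hp c.p_dvd_K
    rw [compl_exponent hV] at h1
    obtain ⟨v, hv⟩ := exists_prime_orderOf_dvd_card' q hqV
    have h2 : q ∣ p - 1 := by
      rw [← hv]
      exact (Monoid.order_dvd_exponent v).trans h1
    have h3 := c.hp.two_le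
    have := Nat.le_of_dvd (by omega) h2
    omega

end Conf

end Cfsg.Agent.T1
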