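import Cfsg.Agent.H7.T1O

set_option autoImplicit false
set_option linter.unusedSectionVars false
set_option linter.style.haveILetI false

/-! The configuration of Peterfalvi (12.7), continued. -/

namespace Cfsg.Agent.T1

open Cfsg Subgroup
open Cfsg.Agent.L (cj nz SylIn)
open Cfsg.Agent.H14 (IsPiSub)
open Cfsg.Agent.OOT
open Cfsg.Agent.H21
open Cfsg.Agent.H2 (WTypeI wA wA_eq WTypeI.typeI_of_frob)
open scoped Pointwise

universe u

variable {G : Type u} [Group G] [Finite G]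

namespace Conf

variable {L M : Subgroup G} {p : ℕ} {P : Subgroup G} {x y : G} (hG : IsMinSimpleOddOrder G)
  (c : Conf L M p P x y)

include hG c

/-- an element of order `p` in `L` acting freely on `L_F` -/
theorem exists_u : ∃ U₀ ≤ M ⊓ L, Monoid.exponent U₀ = Monoid.exponent (M ⊓ L : Subgroup G) ∧
    (∀ u ∈ U₀, u ≠ 1 → ∀ x ∈ fittingHallOf L, u * x = x * u → x = 1) ∧
    ∃ u ∈ U₀, orderOf u = p := by
  haveI : Fact p.Prime := ⟨c.hp⟩
  obtain ⟨-, -, U₀, hU₀, hexp, hfree⟩ := PF.typeF_compl c.wL.1 c.compl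
  refine ⟨U₀, hU₀, hexp, hfree, ?_⟩
  have h1 : p ∣ Monoid.exponent (M ⊓ L : Subgroup G) := by
    have h2 := Monoid.order_dvd_exponent (⟨x, c.syl.le c.x_mem⟩ : (M ⊓ L : Subgroup G))
    rwa [Subgroup.orderOf_mk, c.x_order] at h2
  rw [← hexp] at h1
  obtain ⟨u, hu⟩ := exists_prime_orderOf_dvd_card' p (h1.trans Group.exponent_dvd_nat_card)
  exact ⟨u, u.2, by rw [Subgroup.orderOf_coe, hu]⟩

theorem E_le (hF : FrobI M) : M ⊓ L ≤ fittingHallOf M := by
  obtain ⟨U₀, hU₀, hexp, hfree, u, hu, huo⟩ := c.exists_u hG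
  by_contra hcon
  obtain ⟨z, hz, hzK⟩ := SetLike.not_le_iff_exists.1 hcon
  have hHM := fhOf_hall M
  obtain ⟨a, ha, b, hb, e, hab, hpa, hpb⟩ := exists_piPart {r | r ∣ Nat.card (fittingHallOf M)} z
  have haE : a ∈ M ⊓ L := (zpowers_le.2 hz) ha
  have hbE : b ∈ M ⊓ L := (zpowers_le.2 hz) hb
  have haK : a ∈ fittingHallOf M := piElt_mem_normal_hall hHM (le_normalizer_fhOf M) haE.1 hpa
  have hb1 : b ≠ 1 := by
    rintro rfl
    rw [mul_one] at e
    exact hzK (e ▸ haK)
  obtain ⟨r, hr, hrb, hrK⟩ := hpb.prime_mem hb1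
  haveI : Fact r.Prime := ⟨hr⟩
  have h1 : r ∣ Monoid.exponent (M ⊓ L : Subgroup G) := by
    have h2 := Monoid.order_dvd_exponent (⟨b, hbE⟩ : (M ⊓ L : Subgroup G))
    rw [Subgroup.orderOf_mk] at h2
    exact hrb.trans h2
  rw [← hexp] at h1
  obtain ⟨w, hw⟩ := exists_prime_orderOf_dvd_card' r (h1.trans Group.exponent_dvd_nat_card)
  have hwo : orderOf (w : G) = r := by rw [Subgroup.orderOf_coe, hw]
  have hw1 : (w : G) ≠ 1 := by
    intro h
    rw [h, orderOf_one] at hwo
    exact hr.one_lt.ne hwo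
  have hwK : (w : G) ∉ fittingHallOf M := by
    intro h
    have h2 := orderOf_dvd_natCard (⟨w, h⟩ : fittingHallOf M)
    rw [Subgroup.orderOf_mk, hwo] at h2
    exact hrK h2
  have huK : u ∈ fittingHallOf M := by
    refine piElt_mem_normal_hall hHM (le_normalizer_fhOf M) (hU₀ hu).1 ?_
    intro q hq hqu
    rw [huo] at hqu
    rw [(Nat.prime_dvd_prime_iff_eq hq c.hp).1 hqu]
    exact c.p_dvd_K
  have hu1 : u ≠ 1 := by
    rintro rfl
    rw [orderOf_one] at huo
    exact c.hp.one_lt.ne huo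
  refine no_free_frob (H := fittingHallOf L) (K := fittingHallOf M) (U₀ := U₀) (y := w)
    (fhOf_nilpotent L) c.H_ne ?_ ?_ ?_ hfree hr w.2 ?_ hw1 ?_ ?_
  · exact (hU₀.trans inf_le_right).trans (le_normalizer_fhOf L)
  · exact (hU₀.trans inf_le_left).trans (le_normalizer_fhOf M)
  · exact Nat.Coprime.coprime_dvd_left (card_dvd_of_le hU₀) c.coprimeL
  · rw [← hwo]; exact pow_orderOf_eq_one _
  · intro h
    have : u ∈ U₀ ⊓ fittingHallOf M := ⟨hu, huK⟩
    rw [h, mem_bot] at this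
    exact hu1 this
  · intro k hk hwk
    by_contra hk1
    exact hwK (hF k hk hk1 ⟨(hU₀ w.2).1, mem_cent_singleton.2 hwk⟩)

/-- `(2p+1)|H'| ≤ |H|` -/
theorem derived_le : (2 * p + 1) * Nat.card (⁅fittingHallOf L, fittingHallOf L⁆ : Subgroup G) ≤
    Nat.card (fittingHallOf L) := by
  obtain ⟨U₀, hU₀, hexp, hfree, u, hu, huo⟩ := c.exists_u hG
  have hu1 : u ≠ 1 := by
    rintro rfl
    rw [orderOf_one] at huo
    exact c.hp.one_lt.ne huo
  haveI := fhOf_nilpotent L
  refine derived_bound inferInstance c.H_ne (odd_sub hG _) c.hp (c.p_ne_two hG) ?_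
    (le_normalizer_fhOf L (hU₀ hu).2) (hfree u hu hu1)
  rw [← huo]; exact pow_orderOf_eq_one _

/-- either `E = K` or `p|E| ≤ |K|` -/
theorem E_cases (hF : FrobI M) : M ⊓ L = fittingHallOf M ∨
    ((¬ fittingHallOf M ≤ centralizer ({x} : Set G)) ∧
      p * Nat.card ↥(M ⊓ L) ≤ Nat.card (fittingHallOf M)) := by
  haveI : Fact p.Prime := ⟨c.hp⟩
  by_cases hEK : M ⊓ L = fittingHallOf M
  · exact Or.inl hEK
  right
  have hnot : ¬ fittingHallOf M ≤ centralizer ({x} : Set G) := by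
    intro h
    apply hEK
    exact le_antisymm (c.E_le hG hF) (le_inf (fhOf_le M) (h.trans c.cent_le))
  refine ⟨hnot, ?_⟩
  have hle := c.E_le hG hF
  obtain ⟨n, hn⟩ := card_dvd_of_le hle
  have hpn : p ∣ n := by
    by_contra hpn
    apply hnot
    have hrel : (M ⊓ L).relIndex (fittingHallOf M) = n := by
      have h1 := Cfsg.Agent.L.card_mul_relIndex hle
      rw [hn] at h1
      exact Nat.eq_of_mul_eq_mul_left Nat.card_pos h1
    have hPK : SylIn p P (fittingHallOf M) := by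
      refine ⟨c.PK, c.syl.isPGroup, ?_⟩
      intro hd
      rw [← relIndex_mul_relIndex P (M ⊓ L) (fittingHallOf M) c.syl.le hle] at hd
      rcases (c.hp.dvd_mul.1 hd) with h | h
      · exact c.syl.not_dvd h
      · rw [hrel] at h; exact hpn h
    have h2 : IsPiHallOf {p} P (fittingHallOf M) := sylIn_iff_hallOf.1 hPK
    intro k hk
    obtain ⟨a, ha, b, hb, e, hab, hpa, hpb⟩ := exists_piPart {p} k
    have haK : a ∈ fittingHallOf M := (zpowers_le.2 hk) ha
    have hbK : b ∈ fittingHallOf M := (zpowers_le.2 hk) hb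
    have haP : a ∈ P := piElt_mem_normal_hall h2 (nil_hall_normal (fhOf_nilpotent M) h2) haK hpa
    have h3 : a * x = x * a := mulComm_iff.1 c.ab a haP x c.x_mem
    have h4 : b * x = x * b := by
      have h5 : zpowers b ≤ centralizer (P : Set G) := by
        refine nil_cent (fhOf_nilpotent M) (zpowers_le.2 hbK) c.PK ?_
        obtain ⟨m, hm⟩ := IsPGroup.iff_card.1 c.syl.isPGroup
        rw [hm, Nat.card_zpowers]
        refine Nat.Coprime.pow_right _ ?_
        rw [Nat.coprime_comm, Nat.Prime.coprime_iff_not_dvd c.hp]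
        intro hd
        exact hpb p c.hp hd rfl
      exact mem_cent_iff.1 (h5 (mem_zpowers b)) x c.x_mem
    rw [mem_cent_singleton, e]
    calc a * b * x = a * (b * x) := by group
      _ = a * (x * b) := by rw [h4]
      _ = (a * x) * b := by group
      _ = (x * a) * b := by rw [h3]
      _ = x * (a * b) := by group
  rw [hn, mul_comm]
  have hn0 : n ≠ 0 := by
    rintro rfl
    rw [mul_zero] at hn
    exact Nat.card_pos.ne' hn
  exact Nat.mul_le_mul_left _ (Nat.le_of_dvd (Nat.pos_of_ne_zero hn0) hpn)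

theorem index_odd : Odd (fittingHall M).index := by
  have h1 : Odd (Nat.card M) := odd_sub hG M
  rw [← (fittingHall M).card_mul_index] at h1
  exact (Nat.odd_mul.1 h1).2

theorem index_ge : 3 ≤ (fittingHall M).index := by
  have h1 := c.index_odd hG
  have h2 : (fittingHall M).index ≠ 1 := by
    rw [Ne, Subgroup.index_eq_one]
    exact c.wM.1.2.2.2.1
  obtain ⟨k, hk⟩ := h1
  omega

/-- the case `E = K` -/
theorem case_A (hF : FrobI M) (hEK : M ⊓ L = fittingHallOf M) :
    (fittingHall M).index ∣ p ^ 2 - 1 ∧ (fittingHall M).index * (p - 1) ≤ p ^ 2 - 1 := by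
  haveI : Fact p.Prime := ⟨c.hp⟩
  obtain ⟨V, hV1, hV, -⟩ := PF.typeF_exists c.wM.1
  have hVi : (fittingHall M).index = Nat.card V := by
    rw [← relIndex_fhOf, complIn_relIndex_left hV]
  have hPK : SylIn p P (fittingHallOf M) := hEK ▸ c.syl
  have hPM : M ≤ nz P := by
    have h2 : IsPiHallOf {p} P (fittingHallOf M) := sylIn_iff_hallOf.1 hPK
    have h3 : P = piCoreOf {p} (fittingHallOf M) :=
      IsPiHallOf.eq_piCoreOf h2 (nil_hall_normal (fhOf_nilpotent M) h2)
    rw [h3]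
    exact (le_normalizer_fhOf M).trans (normalizer_le_normalizer_piCoreOf _ _)
  obtain ⟨A, hAP, hA, hAm, hAc, hAn⟩ := exists_omega (c.p_ne_two hG) c.syl.isPGroup c.ab c.rk c.noncyc
  have hVA : V ≤ nz A := hV.2.1.trans (hPM.trans hAn)
  have hfr : ∀ v ∈ V, v ≠ 1 → ∀ x ∈ A, v * x = x * v → x = 1 := fun v hv hv1 x hx h =>
    free_of_frob hF hV v hv hv1 x (c.PK (hAP hx)) h
  have hxA : x ∈ A := (hAm x).2 ⟨c.x_mem, c.x_pow⟩
  rw [hVi, ← hAc]
  refine ⟨free_dvd hVA hfr, ?_⟩
  have h1 := lines_bound hxA hVA (by rw [c.x_order]; exact c.hp) (by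
    rw [eq_bot_iff]
    rintro v ⟨hv1, hv2⟩
    have h2 : v ∈ fittingHallOf M := by
      rw [← hEK]
      exact ⟨hV.2.1 hv1, c.nz_le hv2⟩
    have h3 : v ∈ fittingHallOf M ⊓ V := ⟨h2, hv1⟩
    rwa [hV.2.2.1] at h3) hfr
  rwa [c.x_order] at h1

/-- the case `E < K` -/
theorem case_B (hF : FrobI M) (hn : ¬ fittingHallOf M ≤ centralizer ({x} : Set G)) :
    2 * (fittingHall M).index + 1 ≤ p := by
  have hI := WTypeI.typeI_of_frob c.wM hF
  haveI : Fintype G := Fintype.ofFinite G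
  have hexp := exponent_quotient hG hI hF
  rcases c.wM.2 with h | h | h
  · exact absurd (cent_le_of_TI hG c.hM c.K_ne h c.xK c.x_ne) c.cent_not
  · exfalso
    apply hn
    intro k hk
    exact mem_cent_singleton.2 (mulComm_iff.1 h.1 k hk x c.xK)
  · have h1 := h.1 p c.hp c.p_dvd_K
    rw [hexp] at h1
    have h2 := c.index_odd hG
    have h3 := c.hp.odd_of_ne_two (c.p_ne_two hG)
    have h4 : 2 ∣ p - 1 := (h3.tsub_odd odd_one).two_dvd
    have h5 : Nat.Coprime 2 (fittingHall M).index := by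
      rw [Nat.coprime_comm]; exact h2.coprime_two_right
    have h6 := h5.mul_dvd_of_dvd_of_dvd h4 h1
    have h7 := c.hp.two_le
    have h8 := Nat.le_of_dvd (by omega) h6
    omega

end Conf

end Cfsg.Agent.T1
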