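import Cfsg.Agent.H7.T1P

set_option autoImplicit false
set_option linter.unusedSectionVars false
set_option linter.style.haveILetI false

/-! The configuration of Peterfalvi (12.7): the contradiction. -/

namespace Cfsg.Agent.T1

open Cfsg Subgroup
open Cfsg.Agent.L (cj nz SylIn)
open Cfsg.Agent.H14 (IsPiSub)
open Cfsg.Agent.OOT
open Cfsg.Agent.H21
open Cfsg.Agent.H2 (WTypeI wA wA_eq WTypeI.typeI_of_frob)
open Cfsg.Agent.H3 (CohMap)
open scoped Pointwise ComplexConjugate

universe u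

variable {G : Type u} [Group G]

theorem exists_linear_irr {X : Type u} [Group X] [Fintype X] {K : Subgroup X} [Finite K]
    (hs : Group.IsSolvable K) (hK : K ≠ ⊥) :
    ∃ θ : K → ℂ, IsIrrCharacter K θ ∧ θ ≠ (fun _ => 1) ∧ θ 1 = 1 := by
  obtain ⟨φ, hφ, -⟩ := H3.exists_linear hs (N := (⊥ : Subgroup K)) inferInstance (by
    intro h
    apply hK
    haveI : Subsingleton K := by
      refine ⟨fun a b => ?_⟩
      have ha : a ∈ (⊥ : Subgroup K) := by rw [h]; trivial
      have hb : b ∈ (⊥ : Subgroup K) := by rw [h]; trivial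
      rw [mem_bot] at ha hb
      rw [ha, hb]
    exact Subgroup.eq_bot_of_subsingleton K)
  refine ⟨H3.hf φ, H3.isIrr_hf φ, ?_, ?_⟩
  · intro h
    apply hφ
    ext k
    have := congrFun h k
    simpa [H3.hf] using this
  · simp [H3.hf]

variable [Fintype G]

theorem wA_of_frob {M : Subgroup G} (h : FrobI M) {a : M} :
    (a : G) ∈ wA M ↔ a ∈ fittingHall M ∧ a ≠ 1 := by
  rw [mem_wA_iff]
  constructor
  · rintro ⟨h1, x, hx, hx1, e⟩
    exact ⟨h.sub hx hx1 (mem_cent_singleton.2 e), h1⟩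
  · rintro ⟨h1, h2⟩
    exact ⟨h2, a, h1, h2, rfl⟩

theorem wA_eq_A1 (hG : IsMinSimpleOddOrder G) {M : Subgroup G} (hM : IsCoatom M) (hW : WTypeI M)
    (h : FrobI M) : wA M = typeA1 M := by
  apply Set.Subset.antisymm
  · intro a ha
    have h1 := (wA_of_frob (a := ⟨a, ha.1⟩) h).1 ha
    exact (mem_typeA1 (a := ⟨a, ha.1⟩) hG hM hW).2 h1
  · exact typeA1_sub hG hM hW

/-- `ψ = τ₁ λ` is constant on `a R(a)` -/
theorem rho_eq_of_orth (hG : IsMinSimpleOddOrder G) {M N : Subgroup G} (hN : IsCoatom N)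
    [Fintype N] (wN : WTypeI N) {ψ : G → ℂ} (hψ : IsClassFunction G ψ)
    (hO : DSet.Orth (wA N) N (supportR N) (fittingHall N) ψ) {a : M} (ha : (a : G) ∈ wA M)
    (hc : ¬ centralizer ({(a : G)} : Set G) ≤ M) (hcN : centralizer ({(a : G)} : Set G) ≤ N)
    (hu : ∃! N : Subgroup G, IsCoatom N ∧ centralizer ({(a : G)} : Set G) ≤ N)
    (hA1 : (a : G) ∉ typeA1 N) : rho (wA M) M (supportR M) ψ a = ψ a := by
  apply rho_const ha
  intro u hu'
  rw [supportR_eq hc hN hcN hu] at hu'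
  have haN : (a : G) ∈ N := hcN (mem_cent_singleton.2 rfl)
  have h1 : (⟨a, haN⟩ : N) ∉ fittingHall N := by
    intro h2
    apply hA1
    rw [typeA1_I hG hN wN]
    refine ⟨mem_fhOf.2 h2, ?_⟩
    exact ha.2.1
  have huN : u ∈ N := fhOf_le N hu'.1
  have h2 : (⟨u, huN⟩ : N) ∈ fittingHall N := mem_fhOf.1 hu'.1
  exact (dset hG hN wN).const_off' hψ hO h1 h2

namespace Conf

variable {L M : Subgroup G} {p : ℕ} {P : Subgroup G} {x y : G} (hG : IsMinSimpleOddOrder G)
  (c : Conf L M p P x y)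

include hG c

theorem not_frobL : ¬ FrobI L := by
  intro hF
  apply c.noncyc
  refine free_not_ea (H := fittingHallOf L) (E := M ⊓ L) (inf_le_right.trans (le_normalizer_fhOf L))
    c.coprimeL c.H_ne (free_of_frob hF c.compl) c.syl.le c.ab

theorem x_not_fhL : x ∉ fittingHallOf L := by
  intro h
  have : x ∈ fittingHallOf L ⊓ (M ⊓ L) := ⟨h, c.syl.le c.x_mem⟩
  rw [c.compl.2.2.1, mem_bot] at this
  exact c.x_ne this

theorem char_contra [Fintype L] [Fintype M] (hF : FrobI M) : False := by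
  classical
  have hI := WTypeI.typeI_of_frob c.wM hF
  have d := dset hG c.hM c.wM
  have dL := dset hG c.hL c.wL
  have hA : ∀ a : M, (a : G) ∈ wA M ↔ a ∈ fittingHall M ∧ a ≠ 1 := fun a => wA_of_frob hF
  have hirr : ∀ χ ∈ inducedIrrAbove (fittingHall M) ⊥, IsIrrCharacter M χ := fun χ hχ =>
    above_irr (fittingHall_coprime M) (fun h hh h1 => hF.sub hh h1) hχ
  have hcoh := coherent_frob hG M c.hM hI hF
  rw [wA_eq hI] at hcoh
  obtain ⟨τ₁, hτ⟩ := H3.isCoherent_cohMap hcoh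
  haveI := fittingHall_nilpotent M
  obtain ⟨θ₀, hθ₀, hn₀, hd₀⟩ := exists_linear_irr (K := fittingHall M) inferInstance c.wM.1.2.2.1
  set lam := indFun (fittingHall M) θ₀ with hlam
  have hlS : lam ∈ inducedIrrAbove (fittingHall M) ⊥ :=
    ⟨θ₀, hθ₀, hn₀, fun a ha => by
      have : a = 1 := Subtype.ext ha
      rw [this], rfl⟩
  have hKt : fittingHall M ≠ ⊤ := c.wM.1.2.2.2.1
  have hψg : IsGeneralizedCharacter G (τ₁ lam) := hτ.gen (H3.zspan_mem hlS)
  have hψc := H3.isGen_classFun hψg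
  have hAA : wA M = typeA1 M := wA_eq_A1 hG c.hM c.wM hF
  have horth : ∀ N : Subgroup G, ∀ _ : Fintype N, IsCoatom N → WTypeI N → (∀ g : G, N ≠ cj g M) →
      DSet.Orth (wA N) N (supportR N) (fittingHall N) (τ₁ lam) := by
    intro N _ hN wN hnc
    refine d.orth_coh hA hirr hτ hKt hlS (dset hG hN wN) (fun a => mem_typeA1 hG hN wN) ?_
    rw [hAA]
    exact supp_disjoint hG c.hM hN c.wM wN hnc
  have hncL : ∀ g : G, L ≠ cj g M := by
    intro g h
    apply c.nconj g⁻¹
    rw [h, Cfsg.Agent.L.cj_inv_cj]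
  have hO := horth L inferInstance c.hL c.wL hncL
  have hdisj : Disjoint (supp (wA M) (supportR M)) (supp (typeA1 L) (supportR L)) := by
    rw [hAA]
    exact supp_disjoint hG c.hM c.hL c.wM c.wL hncL
  obtain ⟨-, r2, r3⟩ := BW.row1391w hG L c.hL c.wL
  obtain ⟨-, m2, m3⟩ := BW.row1391w hG M c.hM c.wM
  have hρL : ∀ a ∈ fittingHall L, a ≠ 1 →
      rho (wA L) L (supportR L) (τ₁ lam) a = τ₁ lam a := by
    intro a ha ha1
    have haA : (a : G) ∈ wA L := dL.A_of_mem ha ha1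
    by_cases hc : centralizer ({(a : G)} : Set G) ≤ L
    · apply rho_const haA
      intro u hu
      rw [supportR_eq_bot' hc, mem_bot] at hu
      rw [hu, mul_one]
    · obtain ⟨N, hN, hcN⟩ := (r2 a haA hc).2.exists
      haveI : Fintype N := Fintype.ofFinite N
      obtain ⟨-, -, -, k4, k5, k6, k7⟩ := r3 a haA hc N hN hcN
      rcases k6 with ⟨wN, -⟩ | ⟨hII, -⟩
      · refine rho_eq_of_orth hG hN wN hψc (horth N inferInstance hN wN ?_) haA hc hcN (r2 a haA hc).2 k5
        intro g hg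
        have h1 : Nat.card (fittingHallOf N) = Nat.card (fittingHallOf M) := by
          rw [hg, ← cj_fhOf, Cfsg.Agent.L.card_cj]
        have h2 := k4 x c.x_wAL
        rw [h1] at h2
        have h3 : p ∣ Nat.card ↥(L ⊓ centralizer ({x} : Set G)) := by
          have h0 : x ∈ L ⊓ centralizer ({x} : Set G) :=
            ⟨c.P_le_L c.x_mem, mem_cent_singleton.2 rfl⟩
          have h4 := orderOf_dvd_natCard (⟨x, h0⟩ : ↥(L ⊓ centralizer ({x} : Set G)))
          rwa [Subgroup.orderOf_mk, c.x_order] at h4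
        exact c.hp.one_lt.ne' (Nat.eq_one_of_dvd_coprimes h2 c.p_dvd_K h3)
      · exact absurd (frobI_of_frobenius (k7 hII)) (c.not_frobL hG)
  have hxM : x ∈ M := c.P_le_M c.x_mem
  have hxL : x ∈ L := c.P_le_L c.x_mem
  have hyL : y ∈ L := fhOf_le L c.y_mem
  have hxnot : x ∉ typeA1 L := by
    rw [typeA1_I hG c.hL c.wL]
    exact fun h => c.x_not_fhL hG h.1
  have hρM : rho (wA M) M (supportR M) (τ₁ lam) (⟨x, hxM⟩ : M) = τ₁ lam x := by
    exact rho_eq_of_orth (a := (⟨x, hxM⟩ : M)) hG c.hL c.wL hψc hO c.x_wA c.cent_not c.cent_le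
      (m2 x c.x_wA c.cent_not).2 hxnot
  obtain ⟨t, t', hdvd, hineq⟩ := char_core d hA hirr hτ hθ₀ hn₀ hd₀ dL
    (fun a => mem_typeA1 hG c.hL c.wL) (dade1 hG c.hL c.wL) hdisj hO hρL c.hp
    (x := ⟨x, hxM⟩) (x' := ⟨x, hxL⟩) (y := ⟨y, hyL⟩) rfl (mem_fhOf.1 c.xK)
    (fun e => c.x_ne (congrArg Subtype.val e)) (Subtype.ext c.x_pow)
    (fun h => c.x_not_fhL hG (mem_fhOf.2 h)) hρM (mem_fhOf.1 c.y_mem)
    (fun h => by
      apply c.y_not
      have h1 : (⁅fittingHall L, fittingHall L⁆ : Subgroup L).map L.subtype =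
          ⁅fittingHallOf L, fittingHallOf L⁆ := map_commutator _ _ _
      rw [← h1]
      exact ⟨_, h, rfl⟩)
    (Subtype.ext c.xy)
  have hder : (2 * p + 1) * Nat.card (⁅fittingHall L, fittingHall L⁆ : Subgroup L) ≤
      Nat.card (fittingHall L) := by
    have h1 : (⁅fittingHall L, fittingHall L⁆ : Subgroup L).map L.subtype =
          ⁅fittingHallOf L, fittingHallOf L⁆ := map_commutator _ _ _
    have h2 := c.derived_le hG
    rw [← h1, H1.card_map_subtype, card_fhOf] at h2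
    exact h2
  have hcL : Nat.card L = Nat.card (fittingHall L) * Nat.card ↥(M ⊓ L) := by
    rw [← complIn_card c.compl, card_fhOf]
  have hmain := arith_ineq (p := p) (e := (fittingHall M).index) (k := Nat.card (fittingHall M))
    (m := Nat.card M) (h := Nat.card (fittingHall L))
    (h' := Nat.card (⁅fittingHall L, fittingHall L⁆ : Subgroup L)) (E := Nat.card ↥(M ⊓ L))
    (l := Nat.card L) (c := t) (c' := t') (by rw [mul_comm, (fittingHall M).card_mul_index]) hcL
    (Nat.pos_of_ne_zero (fittingHall M).index_ne_zero_of_finite) Nat.card_pos Nat.card_pos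
    Nat.card_pos hder hineq
  have hp2 := c.p_ne_two hG
  have hpk : p ^ 2 ≤ Nat.card (fittingHall M) := by
    rw [← card_fhOf]; exact c.p_sq_le
  rcases c.E_cases hG hF with hEK | ⟨hn, hEK⟩
  · obtain ⟨h1, h2⟩ := c.case_A hG hF hEK
    rw [hEK, card_fhOf] at hmain
    exact arith_A' c.hp hp2 (c.index_ge hG) (c.index_odd hG) hpk h1 h2 hdvd hmain
  · have h1 := c.case_B hG hF hn
    rw [card_fhOf] at hEK
    have hp3 : 3 ≤ p := by
      have := c.hp.two_le
      omega
    exact arith_B (Nat.pos_of_ne_zero (fittingHall M).index_ne_zero_of_finite) hpk hp3 h1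
      Nat.card_pos hEK hdvd hmain

end Conf

end Cfsg.Agent.T1
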