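import Cfsg.Agent.H7.T1Q
import Cfsg.Agent.H21.OT14a

set_option autoImplicit false
set_option linter.unusedSectionVars false
set_option linter.style.haveILetI false

/-! Peterfalvi (12.7): weak type I subgroups are Frobenius (relative to the type P results). -/

namespace Cfsg.Agent.T1

open Cfsg Subgroup
open Cfsg.Agent.L (cj nz SylIn)
open Cfsg.Agent.H14 (IsPiSub)
open Cfsg.Agent.OOT
open Cfsg.Agent.H21
open Cfsg.Agent.H2 (WTypeI wA wA_eq WTypeI.typeI_of_frob)
open scoped Pointwise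

universe u

variable {G : Type u} [Group G] [Finite G]

/-- from a bad prime to the configuration -/
theorem exists_conf (hG : IsMinSimpleOddOrder G)
    (hI : ∀ M : Subgroup G, IsCoatom M → ∀ p : ℕ, p.Prime → ∀ P ≤ typeCore M, IsPGroup p P →
      ¬ IsCyclic P → ∀ x ∈ P, x ≠ 1 → ¬ centralizer ({x} : Set G) ≤ M → WTypeI M)
    {p : ℕ} (hbad : Bad G p) : ∃ L M P : Subgroup G, ∃ x y : G, Conf L M p P x y := by
  obtain ⟨hp, Lm, E, P, hL, wL, hE, hP, hPc⟩ := hbad
  haveI : Fact p.Prime := ⟨hp⟩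
  obtain ⟨hab0, hrk0⟩ := (BW.row1390w hG Lm hL wL E hE).1 p hp hP.toSylow
  have hPS : (hP.toSylow : Subgroup E).map E.subtype = P := hP.map_toSylow
  have hab : IsMulCommutative P := by
    have h2 := mulComm_iff.1 hab0
    rw [mulComm_iff]
    intro a ha b hb
    have ha' : (⟨a, hP.le ha⟩ : E) ∈ (hP.toSylow : Subgroup E) := ha
    have hb' : (⟨b, hP.le hb⟩ : E) ∈ (hP.toSylow : Subgroup E) := hb
    exact congrArg Subtype.val (h2 _ ha' _ hb')
  have hrk : PRankLE p 2 P := by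
    by_contra hcon
    obtain ⟨A, hAP, hA, hAc⟩ := exists_ea_of_not_pRankLE hcon
    have hAE : A ≤ E := hAP.trans hP.le
    refine not_pRankLE_of_ea (H := (hP.toSylow : Subgroup E)) (E := A.subgroupOf E) ?_ ?_ ?_ hrk0
    · intro a ha
      exact hAP ha
    · refine ⟨mulComm_iff.2 fun a ha b hb => Subtype.ext (mulComm_iff.1 hA.1 _ ha _ hb),
        fun a ha => Subtype.ext (hA.2 _ ha)⟩
    · rw [H1.card_subgroupOf hAE, hAc]
  have hP1 : P ≠ ⊥ := by
    rintro rfl
    exact hPc inferInstance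
  have hpP : p ∣ Nat.card P := by
    obtain ⟨n, hn⟩ := IsPGroup.iff_card.1 hP.isPGroup
    have hn0 : n ≠ 0 := by
      rintro rfl
      rw [pow_zero, Subgroup.card_eq_one] at hn
      exact hP1 hn
    rw [hn]
    exact dvd_pow_self p hn0
  have hp2 : p ≠ 2 := prime_ne_two hG hpP
  obtain ⟨A, hAP, hA, hAm, hAc, -⟩ := exists_omega hp2 hP.isPGroup hab hrk hPc
  -- `x` and `y`
  have hHne : fittingHallOf Lm ≠ ⊥ := fhOf_ne_bot wL.1.2.2.1
  have hcop : (Nat.card E).Coprime (Nat.card (fittingHallOf Lm)) := by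
    have h := fhOf_coprime Lm
    rw [complIn_relIndex_left hE] at h
    exact h.symm
  have hAE : A ≤ E := hAP.trans hP.le
  have hgen := H23.iSup_centralizer_of_not_isCyclic (G := fittingHallOf Lm) hA.1
    (not_cyclic_of_ea_sq hp hA hAc) ((hAE.trans hE.2.1).trans (le_normalizer_fhOf Lm))
    (Nat.Coprime.coprime_dvd_left (card_dvd_of_le hAE) hcop)
  have hHsol : Group.IsSolvable (fittingHallOf Lm) := by
    haveI := fhOf_nilpotent Lm
    infer_instance
  have hHder : ¬ fittingHallOf Lm ≤ ⁅fittingHallOf Lm, fittingHallOf Lm⁆ := by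
    intro h
    haveI := hHsol
    haveI : Nontrivial (fittingHallOf Lm) := (nontrivial_iff_ne_bot _).2 hHne
    have h5 := Group.IsSolvable.commutator_lt_top_of_nontrivial (fittingHallOf Lm)
    have h6 : (commutator (fittingHallOf Lm)).map (fittingHallOf Lm).subtype =
      ⁅fittingHallOf Lm, fittingHallOf Lm⁆ := map_subtype_commutator _
    apply h5.ne
    apply map_injective (fittingHallOf Lm).subtype_injective
    rw [h6, ← MonoidHom.range_eq_map, range_subtype]
    refine le_antisymm ?_ h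
    rw [commutator_le]
    intro a ha b hb
    exact mul_mem (mul_mem (mul_mem ha hb) (inv_mem ha)) (inv_mem hb)
  obtain ⟨x, hxA, hx1, y, hy, hy', hxy⟩ : ∃ x ∈ A, x ≠ 1 ∧ ∃ y ∈ fittingHallOf Lm,
      y ∉ ⁅fittingHallOf Lm, fittingHallOf Lm⁆ ∧ x * y = y * x := by
    by_contra hcon
    push Not at hcon
    apply hHder
    conv_lhs => rw [← hgen]
    refine iSup_le ?_
    rintro ⟨a, ha, ha1⟩ z ⟨hz, hzc⟩
    by_contra hz'
    exact hcon a ha ha1 z hz hz' (mem_cent_singleton.1 hzc).symm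
  obtain ⟨hxP, hxp⟩ := (hAm x).1 hxA
  have hxE : x ∈ E := hP.le hxP
  have hy1 : y ≠ 1 := by
    rintro rfl
    exact hy' (one_mem _)
  obtain ⟨hcL, huniq⟩ := (BW.row1390w hG Lm hL wL E hE).2 {x}
    (by rw [Set.singleton_subset_iff]; exact ⟨hxE, hx1⟩) (Set.singleton_nonempty x) (by
      intro hb
      have : y ∈ fittingHallOf Lm ⊓ centralizer ({x} : Set G) :=
        ⟨hy, mem_cent_singleton.2 hxy.symm⟩
      rw [hb, mem_bot] at this
      exact hy1 this)
  have hzne : (zpowers x : Subgroup G) ≠ ⊥ := by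
    rw [Ne, zpowers_eq_bot]; exact hx1
  have hznt : (zpowers x : Subgroup G) ≠ ⊤ := by
    intro h
    apply hL.1
    rw [eq_top_iff, ← h]
    exact zpowers_le.2 (hE.2.1 hxE)
  have hnz : nz (zpowers x) ≤ Lm := by
    obtain ⟨N, hN, hle⟩ := exists_coatom_of_nz hG hzne hznt
    have h1 : centralizer ({x} : Set G) ≤ N := by
      rw [← cent_zpowers]
      exact (cent_le_nz _).trans hle
    rw [← huniq N hN h1]
    exact hle
  -- `M`
  obtain ⟨M₁, hM₁, hpM₁⟩ := exists_sigma hG hp (hpP.trans (card_subgroup_dvd_card P))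
  obtain ⟨S, hS⟩ := Cfsg.Agent.L.exists_sylIn (p := p) (sigmaCore M₁)
  have hSG : SylIn p S ⊤ := by
    refine ⟨le_top, hS.isPGroup, ?_⟩
    intro hd
    rw [← relIndex_mul_relIndex S (sigmaCore M₁) ⊤ hS.le le_top] at hd
    rcases (hp.dvd_mul.1 hd) with h | h
    · exact hS.not_dvd h
    · rw [relIndex_top_right] at h
      exact (ms_hallG hG hM₁).2 p hp hpM₁ h
  obtain ⟨g, -, hg⟩ := hSG.exists_conj_le hP.isPGroup le_top
  set M := cj g⁻¹ M₁ with hMdef
  have hM : IsCoatom M := coatom_cj hM₁ g⁻¹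
  have hpM : p ∈ sigma M := by rw [hMdef, sigma_cj]; exact hpM₁
  have hPs : P ≤ sigmaCore M := by
    rw [hMdef, sigmaCore_cj, ← Cfsg.Agent.L.cj_le_iff]
    exact hg.trans hS.le
  have hpH : ¬ p ∣ Nat.card (fittingHallOf Lm) := by
    intro h
    exact hp.one_lt.ne' (Nat.eq_one_of_dvd_coprimes hcop (hpP.trans (card_dvd_of_le hP.le)) h)
  have hpL : p ∉ sigma Lm := by
    intro h
    have h1 : P ≤ sigmaCore Lm := le_ms hG hL (hP.le.trans hE.2.1)
      (isPiSub_of_isPGroup h hP.isPGroup)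
    rw [← fh_eq_sigma hG hL wL] at h1
    exact hpH (hpP.trans (card_dvd_of_le h1))
  have hnc : ∀ g, M ≠ cj g Lm := by
    intro g h
    rw [h, sigma_cj] at hpM
    exact hpL hpM
  have hcM : ¬ centralizer ({x} : Set G) ≤ M := by
    intro h
    apply hnc 1
    rw [Cfsg.Agent.L.cj_one]
    exact huniq M hM h
  have hPcore : P ≤ typeCore M := hPs.trans (sigma_le_core hG hM)
  have wM : WTypeI M := hI M hM p hp P hPcore hP.isPGroup hPc x hxP hx1 hcM
  have hPK : P ≤ fittingHallOf M := by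
    rw [fh_eq_sigma hG hM wM]; exact hPs
  have hxwA : x ∈ wA M := ⟨fhOf_le M (hPK hxP), hx1, x, hPK hxP, hx1, rfl⟩
  obtain ⟨-, -, m3⟩ := BW.row1391w hG M hM wM
  have hcompl := (m3 x hxwA hcM Lm hL hcL).1
  refine ⟨Lm, M, P, x, y, hL, hM, wL, wM, hp, ?_, hPc, hab, hrk, hxP, hx1, hxp, hy, hy', hxy, hPK, hcL,
    huniq, hnz, hcM, hnc, hcompl⟩
  -- Sylow
  refine ⟨le_inf (hPK.trans (fhOf_le M)) (hP.le.trans hE.2.1), hP.isPGroup, ?_⟩
  have h1 := complIn_card hcompl
  rw [← complIn_card hE] at h1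
  have h2 : Nat.card ↥(M ⊓ Lm) = Nat.card E := Nat.eq_of_mul_eq_mul_left Nat.card_pos h1
  have h3 := Cfsg.Agent.L.card_mul_relIndex (T := P) (U := M ⊓ Lm)
    (le_inf (hPK.trans (fhOf_le M)) (hP.le.trans hE.2.1))
  have h4 := Cfsg.Agent.L.card_mul_relIndex hP.le
  rw [h2, ← h4] at h3
  rw [Nat.eq_of_mul_eq_mul_left Nat.card_pos h3]
  exact hP.not_dvd

/-- Peterfalvi (12.7) relative to the type P results -/
theorem core (hG : IsMinSimpleOddOrder G)
    (hI : ∀ M : Subgroup G, IsCoatom M → ∀ p : ℕ, p.Prime → ∀ P ≤ typeCore M, IsPGroup p P →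
      ¬ IsCyclic P → ∀ x ∈ P, x ≠ 1 → ¬ centralizer ({x} : Set G) ≤ M → WTypeI M)
    {L : Subgroup G} (hL : IsCoatom L) (wL : WTypeI L) : FrobI L := by
  classical
  have hnb : ∀ q, ¬ Bad G q := by
    intro q hq
    have hex : ∃ q, Bad G q := ⟨q, hq⟩
    obtain ⟨Lm, M, P, x, y, c⟩ := exists_conf hG hI (Nat.find_spec hex)
    have hF := c.frobM hG (fun q hq => Nat.find_min' hex hq)
    haveI : Fintype G := Fintype.ofFinite G
    haveI : Fintype Lm := Fintype.ofFinite Lm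
    haveI : Fintype M := Fintype.ofFinite M
    exact c.char_contra hG hF
  by_contra hn
  obtain ⟨V, hV1, hV, -⟩ := PF.typeF_exists wL.1
  obtain ⟨q, hq, Q, hQ, hQc⟩ := exists_noncyclic wL.1 hV hn
  exact hnb q ⟨hq, L, V, Q, hL, wL, hV, hQ, hQc⟩

end Cfsg.Agent.T1
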