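import Cfsg.Agent.H7.T1R
import Cfsg.Agent.PF.Data
import Cfsg.Agent.PF.SecC20
import Cfsg.Agent.PF.BBD

set_option autoImplicit false
set_option linter.unusedSectionVars false
set_option linter.style.haveILetI false

/-! Peterfalvi (12.7): hypothesis on type P subgroups. -/

namespace Cfsg.Agent.T1

open Cfsg Subgroup
open Cfsg.Agent.L (cj nz SylIn)
open Cfsg.Agent.H14 (IsPiSub)
open Cfsg.Agent.OOT
open Cfsg.Agent.H21
open Cfsg.Agent.H2 (WTypeI wA wA_eq WTypeI.typeI_of_frob WTypeI.of_typeI)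
open scoped Pointwise

universe u

variable {G : Type u} [Group G] [Finite G]

namespace BP

/-- PF (10.10) -/
theorem no_typeV (hG : IsMinSimpleOddOrder G) {M : Subgroup G} (hM : IsCoatom M) :
    ¬ IsOfTypeV M := Cfsg.Agent.PF.no_typeV' hG hM

/-- PF (11.9) -/
theorem no_typeIV (hG : IsMinSimpleOddOrder G) {M : Subgroup G} (hM : IsCoatom M) :
    ¬ IsOfTypeIV M := Cfsg.Agent.PF.BBD.no_typeIV hG hM

/-- PF section 11 -/
theorem typeIII_cyclic (hG : IsMinSimpleOddOrder G) {M W₁ U W₂ : Subgroup G} (hM : IsCoatom M)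
    (h : IsTypePWith M W₁ U W₂) (hIII : IsOfTypeIII M) : IsCyclic U :=
  (Cfsg.Agent.PF.BBD.typeIII_main hG hM h hIII).2.2.2.2.2.1

end BP

theorem comm_le_self (M : Subgroup G) : ⁅M, M⁆ ≤ M := by
  rw [commutator_le]
  intro a ha b hb
  exact mul_mem (mul_mem (mul_mem ha hb) (inv_mem ha)) (inv_mem hb)

theorem cent_le_of_fitting_TI (hG : IsMinSimpleOddOrder G) {M : Subgroup G} (hM : IsCoatom M)
    (hTI : IsTISubset (fittingOf M : Set G)) {a : G} (ha : a ∈ fittingOf M) (ha1 : a ≠ 1) :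
    centralizer ({a} : Set G) ≤ M := by
  have hne : fittingOf M ≠ ⊥ := by
    rintro h
    rw [h, mem_bot] at ha
    exact ha1 ha
  have h1 := coatom_normalizer_eq hG hM hne (fittingOf_le M) (le_normalizer_fittingOf M)
  intro g hg
  rw [← h1]
  by_contra hn
  apply ha1
  refine hTI g hn a ha ?_
  rw [mem_cent_singleton.1 hg]
  rw [mul_inv_cancel_right]
  exact ha

theorem typeW_of_dec (hG : IsMinSimpleOddOrder G) {M : Subgroup G} (hM : IsCoatom M)
    {K U : Subgroup G} (hd : IsSigmaDecomposition M K U) (hK : K = ⊥) : WTypeI M := by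
  rw [BW.row1380w hG M hM K U hd]
  refine ⟨hK, ?_⟩
  rintro rfl
  have h1 := complIn_sup hd.compl
  rw [hK, bot_sup_eq, bot_sup_eq] at h1
  obtain ⟨-, -, h2, h3, -⟩ := BB.S1355 hG M hM
  rw [h1] at h2
  exact absurd h2 (not_le_of_gt h3)

theorem typeP_hyp (hG : IsMinSimpleOddOrder G) (M : Subgroup G) (hM : IsCoatom M) (p : ℕ)
    (hp : p.Prime) (P : Subgroup G) (hPM : P ≤ typeCore M) (hP : IsPGroup p P) (hPc : ¬ IsCyclic P)
    (x : G) (hx : x ∈ P) (hx1 : x ≠ 1) (hc : ¬ centralizer ({x} : Set G) ≤ M) : WTypeI M := by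
  haveI : Fact p.Prime := ⟨hp⟩
  obtain ⟨K, U, hd⟩ := exists_dec hG hM
  by_cases hK : K = ⊥
  · exact typeW_of_dec hG hM hd hK
  exfalso
  by_cases hU : U = ⊥
  · by_cases hF : fittingHallOf M = sigmaCore M
    · exact BP.no_typeV hG hM ((BB.S1383 hG M hM K U hd).2 ⟨hK, hU, hF⟩)
    · have h34 := (BB.S1382 hG M hM K U hd).2 ⟨hK, hU, hF⟩
      have h3 : IsOfTypeIII M := h34.resolve_right (BP.no_typeIV hG hM)
      rw [typeCore, if_pos h34] at hPM
      obtain ⟨W₁, V, W₂, h, -, -, hTI, -, -⟩ := id h3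
      have hV := BP.typeIII_cyclic hG hM h h3
      apply hc
      refine cent_le_of_fitting_TI hG hM hTI (fhOf_le_fittingOf M ?_) hx1
      by_cases hdv : p ∣ Nat.card (fittingHallOf M)
      · refine piElt_mem_normal_hall (fhOf_hall M) (le_normalizer_fhOf M)
          ((hPM.trans (comm_le_self M)) hx) ?_
        intro q hq hqx
        obtain ⟨k, hk⟩ := (IsPGroup.iff_orderOf.1 hP) ⟨x, hx⟩
        rw [Subgroup.orderOf_mk] at hk
        rw [hk] at hqx
        rw [(Nat.prime_dvd_prime_iff_eq hq hp).1 (hq.dvd_of_dvd_pow hqx)]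
        exact hdv
      · exfalso
        apply hPc
        -- `P` is conjugate into `V`
        have hH : IsPiHallOf {q | q ∣ Nat.card (fittingHallOf M)} (fittingHallOf M) ⁅M, M⁆ :=
          OOT.IsPiHallOf.of_le (fhOf_hall M) h.U_compl.1 (comm_le_self M)
        have hVh : IsPiHallOf {q | q ∉ {q | q ∣ Nat.card (fittingHallOf M)}} V ⁅M, M⁆ :=
          complIn_hall (fun p _ => Iff.rfl) h.U_compl hH
        have hs : Group.IsSolvable (⁅M, M⁆ : Subgroup G) := by
          refine sol hG ?_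
          intro h'
          apply hM.1
          rw [eq_top_iff, ← h']
          exact comm_le_self M
        obtain ⟨g, -, hg⟩ := OOT.IsPiHallOf.exists_conj_le hs hVh hPM (by
          apply isPiSub_of_isPGroup _ hP
          exact hdv)
        have h5 := H2.isCyclic_of_le hg hV
        exact isCyclic_cj.1 h5
  · have hII := (BB.S1381 hG M hM K U hd).2 ⟨hK, hU⟩
    have h34 : ¬ (IsOfTypeIII M ∨ IsOfTypeIV M) := by
      rw [BB.S1382 hG M hM K U hd]
      exact fun h' => hU h'.2.1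
    rw [typeCore, if_neg h34] at hPM
    obtain ⟨W₁, V, W₂, h, -, -, hTI, -⟩ := hII
    exact hc (cent_le_of_fitting_TI hG hM hTI (fhOf_le_fittingOf M (hPM hx)) hx1)

/-- Peterfalvi (12.7) -/
theorem weak_frob (hG : IsMinSimpleOddOrder G) {L : Subgroup G} (hL : IsCoatom L)
    (wL : WTypeI L) : FrobI L :=
  core hG (typeP_hyp hG) hL wL

/-- after (12.7) weak type I is type I -/
theorem weak_typeI (hG : IsMinSimpleOddOrder G) {L : Subgroup G} (hL : IsCoatom L)
    (wL : WTypeI L) : IsOfTypeI L := WTypeI.typeI_of_frob wL (weak_frob hG hL wL)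

end Cfsg.Agent.T1
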