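import Cfsg.Agent.H7.T1S

set_option autoImplicit false
set_option linter.unusedSectionVars false
set_option linter.style.haveILetI false

/-! Peterfalvi (12.17): some maximal subgroup is not of type I. -/

namespace Cfsg.Agent.T1

open Cfsg Subgroup
open Cfsg.Agent.L (cj nz SylIn)
open Cfsg.Agent.H14 (IsPiSub)
open Cfsg.Agent.OOT
open Cfsg.Agent.H21
open Cfsg.Agent.H2 (WTypeI wA wA_eq WTypeI.typeI_of_frob WTypeI.of_typeI)
open scoped Pointwise

universe u

variable {G : Type u} [Group G] [Finite G]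

theorem not_II_of_W (hG : IsMinSimpleOddOrder G) {M : Subgroup G} (hM : IsCoatom M)
    (hW : WTypeI M) : ¬ IsOfTypeII M := by
  obtain ⟨K, U, hd⟩ := exists_dec hG hM
  rw [BB.S1381 hG M hM K U hd]
  rw [BW.row1380w hG M hM K U hd] at hW
  exact fun h' => h'.1 hW.1

theorem wA_eq_A1' (hG : IsMinSimpleOddOrder G) {M : Subgroup G} (hM : IsCoatom M) (hW : WTypeI M)
    (h : FrobI M) : wA M = typeA1 M := by
  haveI : Fintype G := Fintype.ofFinite G
  exact wA_eq_A1 hG hM hW h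

/-- a maximal subgroup over `C_G(a)`, `a ∈ A(M)`, different from `M`, is of type II -/
theorem cent_le_or_II (hG : IsMinSimpleOddOrder G) {M : Subgroup G} (hM : IsCoatom M)
    (hW : WTypeI M) {a : G} (ha : a ∈ wA M) : centralizer ({a} : Set G) ≤ M ∨
    ∃ N : Subgroup G, IsCoatom N ∧ IsOfTypeII N ∧ centralizer ({a} : Set G) ≤ N := by
  by_cases hc : centralizer ({a} : Set G) ≤ M
  · exact Or.inl hc
  right
  obtain ⟨-, r2, r3⟩ := BW.row1391w hG M hM hW
  obtain ⟨N, hN, hcN⟩ := (r2 a ha hc).2.exists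
  obtain ⟨-, -, -, -, k5, k6, -⟩ := r3 a ha hc N hN hcN
  rcases k6 with ⟨wN, h1⟩ | ⟨hII, -⟩
  · exfalso
    apply k5
    rw [← wA_eq_A1' hG hN wN (weak_frob hG hN wN)]
    exact h1
  · exact ⟨N, hN, hII, hcN⟩

/-- Peterfalvi (12.17) -/
theorem not_all_W (hG : IsMinSimpleOddOrder G) : ¬ ∀ M : Subgroup G, IsCoatom M → WTypeI M := by
  classical
  intro hall
  have hF : ∀ M : Subgroup G, IsCoatom M → FrobI M := fun M hM => weak_frob hG hM (hall M hM)
  have hcent : ∀ M : Subgroup G, IsCoatom M → ∀ a ∈ fittingHallOf M, a ≠ 1 →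
      centralizer ({a} : Set G) ≤ M := by
    intro M hM a ha ha1
    rcases cent_le_or_II hG hM (hall M hM) (a := a) ⟨fhOf_le M ha, ha1, a, ha, ha1, rfl⟩ with h | h
    · exact h
    · obtain ⟨N, hN, hII, -⟩ := h
      exact absurd hII (not_II_of_W hG hN (hall N hN))
  have hne : ∀ M : Subgroup G, IsCoatom M → fittingHallOf M ≠ ⊥ := fun M hM =>
    fhOf_ne_bot (hall M hM).1.2.2.1
  have hnorm : ∀ M : Subgroup G, IsCoatom M →
      normalizer ((fittingHallOf M : Subgroup G) : Set G) = M := fun M hM =>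
    coatom_normalizer_eq hG hM (hne M hM) (fhOf_le M) (le_normalizer_fhOf M)
  have hTI : ∀ M : Subgroup G, IsCoatom M → IsTISubset (fittingHallOf M : Set G) := by
    intro M hM g hg a ha hga
    by_contra ha1
    apply hg
    rw [hnorm M hM]
    have ha' : a ∈ wA M := ⟨fhOf_le M ha, ha1, a, ha, ha1, rfl⟩
    have hga1 : g * a * g⁻¹ ≠ 1 := fun e => ha1 (by
      have : a = g⁻¹ * (g * a * g⁻¹) * g := by group
      rw [this, e]; group)
    have hga' : g * a * g⁻¹ ∈ wA M := ⟨fhOf_le M hga, hga1, _, hga, hga1, rfl⟩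
    obtain ⟨m, hm, e⟩ := (BW.row1391w hG M hM (hall M hM)).1 a ha' g hga'
    have h1 : m⁻¹ * g ∈ centralizer ({a} : Set G) := by
      rw [mem_cent_singleton]
      have : m⁻¹ * g * a = m⁻¹ * (g * a * g⁻¹) * g := by group
      rw [this, ← e]; group
    have h2 := hcent M hM a ha ha1 h1
    have h3 := mul_mem hm h2
    rwa [mul_inv_cancel_left] at h3
  -- conjugacy classes of maximal subgroups
  let X := {M : Subgroup G // IsCoatom M}
  let s : Setoid X :=
    { r := fun M N => ∃ g : G, N.1 = cj g M.1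
      iseqv := ⟨fun M => ⟨1, (Cfsg.Agent.L.cj_one _).symm⟩,
        fun {M N} ⟨g, hg⟩ => ⟨g⁻¹, by rw [hg, Cfsg.Agent.L.cj_inv_cj]⟩,
        fun {M N K} ⟨g, hg⟩ ⟨k, hk⟩ => ⟨k * g, by rw [hk, hg, Cfsg.Agent.L.cj_cj]⟩⟩ }
  let ι := Quotient s
  haveI : Finite X := inferInstance
  haveI : Finite ι := inferInstance
  haveI : Fintype ι := Fintype.ofFinite ι
  let Lf : ι → Subgroup G := fun i => (Quotient.out i).1
  have hLf : ∀ i, IsCoatom (Lf i) := fun i => (Quotient.out i).2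
  have hsig : ∀ i, fittingHallOf (Lf i) = sigmaCore (Lf i) := fun i =>
    fh_eq_sigma hG (hLf i) (hall _ (hLf i))
  have hrep : ∀ M : Subgroup G, IsCoatom M → ∃ i, ∃ g : G, Lf i = cj g M := by
    intro M hM
    obtain ⟨g, hg⟩ := Quotient.exact (s := s) (Quotient.out_eq (s := s) (Quotient.mk s ⟨M, hM⟩)).symm
    exact ⟨Quotient.mk s ⟨M, hM⟩, g, hg⟩
  have hcard : 2 ≤ Fintype.card ι := by
    by_contra hcon
    have hcon' : Fintype.card ι ≤ 1 := by omega
    have hsub := Fintype.card_le_one_iff_subsingleton.1 hcon'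
    haveI := isSimple hG
    obtain ⟨M, hM, -⟩ := exists_coatom_ge (H := (⊥ : Subgroup G)) bot_ne_top
    obtain ⟨i, g, hi⟩ := hrep M hM
    have hall' : ∀ p : ℕ, p.Prime → p ∣ Nat.card G → p ∈ sigma (Lf i) := by
      intro p hp hd
      obtain ⟨N, hN, hpN⟩ := exists_sigma hG hp hd
      obtain ⟨j, k, hj⟩ := hrep N hN
      rw [Subsingleton.elim i j, hj, sigma_cj]
      exact hpN
    have hH := ms_hallG hG (hLf i)
    have hidx : (sigmaCore (Lf i)).index = 1 := by
      by_contra hne1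
      obtain ⟨q, hq, hqd⟩ := Nat.exists_prime_and_dvd hne1
      exact hH.2 q hq (hall' q hq (hqd.trans (index_dvd_card _))) hqd
    rw [Subgroup.index_eq_one] at hidx
    apply (hLf i).1
    rw [eq_top_iff, ← hidx]
    exact ms_le _
  refine BB.S1526 (odd_card hG) hcard Lf (fun i => fittingHallOf (Lf i)) ?_ ?_ ?_ ?_ ?_ ?_ ?_
  · intro i
    refine lt_of_le_of_ne (fhOf_le _) ?_
    intro h
    apply (hall _ (hLf i)).1.2.2.2.1
    rw [← fhOf_subgroupOf, subgroupOf_eq_top, h]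
  · exact fun i => hne _ (hLf i)
  · intro i x hx h hh
    exact (mem_normalizer_iff.1 (le_normalizer_fhOf _ hx) h).1 hh
  · exact fun i h hh h1 => hF _ (hLf i) h hh h1
  · intro i j hij
    rw [hsig, hsig]
    refine Nat.coprime_of_dvd fun q hq h1 h2 => ?_
    have h3 := (ms_hall hG (hLf i)).2.1 q hq h1
    have h4 := (ms_hall hG (hLf j)).2.1 q hq h2
    obtain ⟨g, hg⟩ := sigma_conj hG (hLf i) (hLf j) h3 h4
    apply hij
    have h5 : s.r (Quotient.out i) (Quotient.out j) := ⟨g, hg⟩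
    have h6 := Quotient.sound (s := s) h5
    rwa [Quotient.out_eq, Quotient.out_eq] at h6
  · exact fun i => ⟨hTI _ (hLf i), hnorm _ (hLf i)⟩
  · intro g hg
    obtain ⟨M, hM, hgM⟩ := (BB.S1379 hG).2.1 (fun M hM => kappa_empty hG hM (hall M hM)) g hg
    obtain ⟨a, ⟨ha, ha1⟩, r, hr, y, rfl⟩ := hgM
    have ha' : a ∈ fittingHallOf M := by rw [fh_eq_sigma hG hM (hall M hM)]; exact ha
    rw [supportR_eq_bot' (hcent M hM a ha' ha1), mem_bot] at hr
    subst hr
    obtain ⟨i, k, hi⟩ := hrep M hM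
    refine ⟨i, k * y⁻¹, ?_⟩
    rw [hi, ← cj_fhOf]
    have e : k * y⁻¹ * (y * (a * 1) * y⁻¹) * (k * y⁻¹)⁻¹ = k * a * k⁻¹ := by group
    rw [e]
    exact Cfsg.Agent.L.conj_mem_cj ha'

end Cfsg.Agent.T1
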