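import Cfsg.Agent.H26.BFeit
import Cfsg.Agent.H27.PMod
import Cfsg.Agent.H27.DefZero

set_option autoImplicit false

/-!
Nonprincipal characters of prime power degree in groups of order divisible by three primes.
-/

namespace Cfsg.Agent.H7.ThreeP

open Cfsg Cfsg.Agent.H3 Cfsg.Agent.H11 Cfsg.Agent.H27
open scoped ComplexConjugate

variable {G : Type*} [Group G] [Fintype G]

/-- A vanishing sum gives a nonprincipal member of degree prime to a given prime. -/
theorem exists_coprime {B : Set (IrrCharacter G)} (h1 : oneIrr G ∈ B) {y : G}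
    (hsum : ∑ᶠ χ ∈ B, (χ : G → ℂ) 1 * conj ((χ : G → ℂ) y) = 0) {t : ℕ} (ht : t.Prime) :
    ∃ χ ∈ B, χ ≠ oneIrr G ∧ ¬ t ∣ charDegree (χ : G → ℂ) := by
  classical
  by_contra hcon
  push Not at hcon
  obtain ⟨M, hM⟩ := exists_isPModular ht
  have hpr := hM.2.1.isPrime
  rw [finsum_mem_eq_finite_toFinset_sum _ (Set.toFinite B),
    ← Finset.add_sum_erase _ _ ((Set.toFinite B).mem_toFinset.mpr h1)] at hsum
  apply not_li_one M
  have h2 : MemLocalIdeal M (∑ χ ∈ ((Set.toFinite B).toFinset).erase (oneIrr G),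
      (χ : G → ℂ) 1 * conj ((χ : G → ℂ) y)) := by
    apply li_sum
    intro χ hχ
    rw [Finset.mem_erase, Set.Finite.mem_toFinset] at hχ
    apply li_mul_right
    · rw [← charDegree_cast (irr_isChar χ.2), li_natCast_iff hM]
      exact hcon χ hχ.2 hχ.1
    · rw [← char_inv (irr_isChar χ.2)]
      exact lr_int (char_isIntegral (irr_isChar χ.2) _)
  have h3 : (1 : ℂ) = -∑ χ ∈ ((Set.toFinite B).toFinset).erase (oneIrr G),
      (χ : G → ℂ) 1 * conj ((χ : G → ℂ) y) := by
    have h4 : ((oneIrr G : IrrCharacter G) : G → ℂ) 1 * conj (((oneIrr G : IrrCharacter G) : G → ℂ) y) = 1 := by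
      simp
    rw [h4] at hsum
    linear_combination hsum
  rw [h3]
  exact li_neg h2

theorem main {p s t a b c : ℕ} [Nontrivial G] (hp : p.Prime) (hs : s.Prime) (ht : t.Prime)
    (ha : a ≤ 2) (hps : p ≠ s) (hpt : p ≠ t) (hG : Nat.card G = p ^ a * s ^ b * t ^ c) :
    ∃ χ : IrrCharacter G, (χ : G → ℂ) ≠ (fun _ => 1) ∧ ∃ k : ℕ, charDegree (χ : G → ℂ) = s ^ k := by
  classical
  haveI := Fact.mk hp
  -- a set of characters of degree prime to `p` with vanishing sum
  have hex : ∃ B : Set (IrrCharacter G), oneIrr G ∈ B ∧ (∀ χ ∈ B, ¬ p ∣ charDegree (χ : G → ℂ)) ∧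
      ∃ y : G, ∑ᶠ χ ∈ B, (χ : G → ℂ) 1 * conj ((χ : G → ℂ) y) = 0 := by
    by_cases hpG : p ∣ Nat.card G
    · obtain ⟨M, hM⟩ := exists_isPModular hp
      have hB : IsPBlock M (principalBlock M G) := isPBlock_principal
      obtain ⟨y, hy⟩ := exists_prime_orderOf_dvd_card' p hpG
      have h1 : oneIrr G ∈ principalBlock M G := by
        intro g
        haveI := hM.2.1.isPrime
        have h2 : centralChar (fun _ : G => (1 : ℂ)) g - centralChar (oneIrr G : G → ℂ) g = 0 := sub_self _
        rw [h2]
        exact li_zero M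
      refine ⟨principalBlock M G, h1, ?_, y, ?_⟩
      · intro χ hχ hdvd
        have hfac : (Nat.card G).factorization p ≤ 2 := by
          rw [hG]
          have h2 : (s ^ b * t ^ c).factorization p = 0 := by
            apply Nat.factorization_eq_zero_of_not_dvd
            intro h
            rcases hp.dvd_mul.mp h with h | h
            · exact hps ((Nat.prime_dvd_prime_iff_eq hp hs).mp (hp.dvd_of_dvd_pow h))
            · exact hpt ((Nat.prime_dvd_prime_iff_eq hp ht).mp (hp.dvd_of_dvd_pow h))
          rw [mul_assoc, Nat.factorization_mul (pow_ne_zero _ hp.ne_zero)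
            (mul_ne_zero (pow_ne_zero _ hs.ne_zero) (pow_ne_zero _ ht.ne_zero)), Finsupp.add_apply, h2,
            add_zero, hp.factorization_pow, Finsupp.single_eq_same]
          exact ha
        have hne : blockHeight p (principalBlock M G) (χ : G → ℂ) ≠ 0 := by
          unfold blockHeight
          have h2 : sInf ((fun ψ : IrrCharacter G => (charDegree (ψ : G → ℂ)).factorization p) ''
              principalBlock M G) = 0 := by
            rw [Nat.sInf_eq_zero]
            left
            refine ⟨oneIrr G, h1, ?_⟩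
            have h3 : charDegree ((oneIrr G : IrrCharacter G) : G → ℂ) = 1 := by
              have h4 := charDegree_cast (irr_isChar (oneIrr G).2)
              rw [oneIrr_apply] at h4
              exact_mod_cast h4
            show (charDegree ((oneIrr G : IrrCharacter G) : G → ℂ)).factorization p = 0
            rw [h3, Nat.factorization_one]
            rfl
          rw [h2, Nat.sub_zero]
          exact (hp.factorization_pos_of_dvd (charDegree_pos χ.2).ne' hdvd).ne'
        have h2 := (H26.height_bound hM hB hχ hne).1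
        have h3 : blockDefect p (principalBlock M G) ≤ 2 := (Nat.sub_le _ _).trans hfac
        omega
      · exact weak_block_orthogonality hM hB 1 y (by
          rw [orderOf_one]
          exact hp.one_lt.ne' ∘ Nat.dvd_one.mp) (by rw [hy])
    · obtain ⟨y, hy⟩ := exists_ne (1 : G)
      refine ⟨Set.univ, Set.mem_univ _, ?_, y, ?_⟩
      · intro χ _ hdvd
        exact hpG (hdvd.trans (charDegree_dvd_card χ.2))
      · rw [finsum_mem_univ]
        have := Fintype.ofFinite (IrrCharacter G)
        rw [finsum_eq_sum_of_fintype]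
        rw [column_orth (G := G) 1 y, if_neg]
        intro h
        exact hy (isConj_one_right.mp h)
  obtain ⟨B, h1, hB, y, hsum⟩ := hex
  obtain ⟨χ, hχB, hχ1, hχt⟩ := exists_coprime h1 hsum ht
  refine ⟨χ, fun h => hχ1 (Subtype.ext h), ?_⟩
  have h2 : charDegree (χ : G → ℂ) ∣ p ^ a * s ^ b * t ^ c := hG ▸ charDegree_dvd_card χ.2
  have h3 : Nat.Coprime (charDegree (χ : G → ℂ)) (t ^ c) :=
    ((Nat.Prime.coprime_iff_not_dvd ht).mpr hχt).symm.pow_right c
  have h4 : Nat.Coprime (charDegree (χ : G → ℂ)) (p ^ a) :=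
    ((Nat.Prime.coprime_iff_not_dvd hp).mpr (hB χ hχB)).symm.pow_right a
  have h5 := h3.dvd_of_dvd_mul_right h2
  have h6 := h4.dvd_of_dvd_mul_left h5
  obtain ⟨k, -, hk⟩ := (Nat.dvd_prime_pow hs).mp h6
  exact ⟨k, hk⟩

end Cfsg.Agent.H7.ThreeP
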